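import Groth.Agent.Dix.K282.GmIso
import Groth.Agent.Etcore.LimBC0
import Groth.Agent.EtpbcB.EdgeEt

/-!
# The sheaves `f_* G_m` and their functoriality in the source

For `j : X' ⟶ X` over `Y`: `Pmap j : f_* G_m ⟶ f'_* G_m`, given on sections by pullback (`unitOf_Pmap`), and the
compatibility `eH_Pmap` of the edge maps `H^n(Y, f_* G_m) ⟶ H^n(X, G_m)`.
-/

set_option autoImplicit false
universe u
open CategoryTheory CategoryTheory.Limits AlgebraicGeometry Opposite Abelian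
open scoped Groth.Agent.Etcore.EtInst
open Groth.Agent.Etcore.EtInst

namespace Groth.Agent.Dix.K282.PMap

open Groth.Agent.Etcore Groth.Agent.Etcore.HpullCalc Groth.Agent.Etcore.HC
open Groth.Agent.Etcore.PullCoh Groth.Agent.Etcore.GmFun
open Groth.Agent.CurvesA.MuConst (unitOf ofUnit)

attribute [local instance] Groth.Agent.S0101.result

variable {X X' X'' Y : Scheme.{u}}

/-- `f_* G_m`. -/
noncomputable abbrev P (f : X ⟶ Y) : EtCoh.Ab Y := (EtCoh.push f).obj (EtCoh.Gm X)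

/-- The morphism `f'⁻¹ f_* G_m ⟶ G_m`. -/
noncomputable def Lmap (j : X' ⟶ X) (f : X ⟶ Y) (f' : X' ⟶ Y) (w : j ≫ f = f') :
    (EtCoh.pull f').obj (P f) ⟶ EtCoh.Gm X' :=
  inv (th j f f' w (P f)) ≫ (EtCoh.pull j).map ((EtCoh.pullPushAdj f).counit.app (EtCoh.Gm X)) ≫ gmp j

/-- The morphism `f_* G_m ⟶ f'_* G_m`. -/
noncomputable def Pmap (j : X' ⟶ X) (f : X ⟶ Y) (f' : X' ⟶ Y) (w : j ≫ f = f') : P f ⟶ P f' :=
  (EtCoh.pullPushAdj f').homEquiv _ _ (Lmap j f f' w)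

theorem th_Lmap (j : X' ⟶ X) (f : X ⟶ Y) (f' : X' ⟶ Y) (w : j ≫ f = f') :
    th j f f' w (P f) ≫ Lmap j f f' w =
      (EtCoh.pull j).map ((EtCoh.pullPushAdj f).counit.app (EtCoh.Gm X)) ≫ gmp j := by
  rw [Lmap, IsIso.hom_inv_id_assoc]

theorem map_Pmap (j : X' ⟶ X) (f : X ⟶ Y) (f' : X' ⟶ Y) (w : j ≫ f = f') :
    (EtCoh.pull f').map (Pmap j f f' w) ≫ (EtCoh.pullPushAdj f').counit.app (EtCoh.Gm X') =
      Lmap j f f' w :=
  ((EtCoh.pullPushAdj f').homEquiv_counit (g := Pmap j f f' w)).symm.trans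
    (((EtCoh.pullPushAdj f').homEquiv _ _).symm_apply_apply (Lmap j f f' w))

theorem bcj_cond {V : Scheme.{u}} (v : V ⟶ Y) (j : X' ⟶ X) (f : X ⟶ Y) (f' : X' ⟶ Y) (w : j ≫ f = f') :
    pullback.fst v f' ≫ v = (pullback.snd v f' ≫ j) ≫ f := by
  rw [pullback.condition, Category.assoc, w]

/-- `X'_V ⟶ X_V`. -/
noncomputable def bcj (j : X' ⟶ X) (f : X ⟶ Y) (f' : X' ⟶ Y) (w : j ≫ f = f') (V : Y.Etale) :
    ((EtCoh.bc f').obj V).left ⟶ ((EtCoh.bc f).obj V).left :=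
  pullback.lift (pullback.fst V.hom f') (pullback.snd V.hom f' ≫ j) (bcj_cond V.hom j f f' w)

theorem bcj_fst (j : X' ⟶ X) (f : X ⟶ Y) (f' : X' ⟶ Y) (w : j ≫ f = f') (V : Y.Etale) :
    bcj j f f' w V ≫ pullback.fst V.hom f = pullback.fst V.hom f' := pullback.lift_fst _ _ _

theorem bcj_snd (j : X' ⟶ X) (f : X ⟶ Y) (f' : X' ⟶ Y) (w : j ≫ f = f') (V : Y.Etale) :
    bcj j f f' w V ≫ pullback.snd V.hom f = pullback.snd V.hom f' ≫ j := pullback.lift_snd _ _ _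

theorem bcComp_left_snd {X Y Z : Scheme.{u}} (f : X ⟶ Y) (t : Y ⟶ Z) (f₀ : X ⟶ Z)
    (w : f ≫ t = f₀) (U : Z.Etale) :
    (bcComp f t f₀ w U).left ≫ pullback.snd U.hom f₀ =
      pullback.snd (pullback.snd U.hom t) f :=
  pullback.lift_snd _ _ _

theorem bcComp_bcj (j : X' ⟶ X) (f : X ⟶ Y) (f' : X' ⟶ Y) (w : j ≫ f = f') (V : Y.Etale) :
    (bcComp j f f' w V).left ≫ bcj j f f' w V = bcFst j ((EtCoh.bc f).obj V) := by
  apply pullback.hom_ext
  · have h := congrArg (fun k => (bcComp j f f' w V).left ≫ k) (bcj_fst j f f' w V)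
    refine (Category.assoc _ _ _).trans (h.trans ?_)
    exact bcComp_left_fst j f f' w V
  · have h := congrArg (fun k => (bcComp j f f' w V).left ≫ k) (bcj_snd j f f' w V)
    refine (Category.assoc _ _ _).trans (h.trans ?_)
    refine (Category.assoc _ _ _).symm.trans ?_
    refine (congrArg (fun k => k ≫ j) (bcComp_left_snd j f f' w V)).trans ?_
    exact pullback.condition.symm

theorem counit_eta (f : X ⟶ Y) (F : EtCoh.Ab X) (V : Y.Etale) (s : EtCoh.sect ((EtCoh.push f).obj F) V) :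
    ((EtCoh.pullPushAdj f).counit.app F).hom.app (op ((EtCoh.bc f).obj V)) (eta f _ V s) = s :=
  congrArg (fun k : (EtCoh.push f).obj F ⟶ (EtCoh.push f).obj F => k.hom.app (op V) s)
    ((EtCoh.pullPushAdj f).right_triangle_components F)

/-- `Pmap` on sections. -/
theorem map_bcComp_Pmap (j : X' ⟶ X) (f : X ⟶ Y) (f' : X' ⟶ Y) (w : j ≫ f = f') (V : Y.Etale)
    (s : EtCoh.sect (P f) V) :
    (EtCoh.Gm X').obj.map (bcComp j f f' w V).op ((Pmap j f f' w).hom.app (op V) s) =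
      (gmUnit j).hom.app (op ((EtCoh.bc f).obj V)) s := by
  have h1 : (Pmap j f f' w).hom.app (op V) s =
      (Lmap j f f' w).hom.app (op ((EtCoh.bc f').obj V)) (eta f' (P f) V s) := by
    rw [Pmap, Adjunction.homEquiv_unit]
    rfl
  rw [h1, ← map_res, ← th_unit, ← map_comp_app, th_Lmap, map_comp_app]
  refine (congrArg ((gmp j).hom.app _) (eta_map j ((EtCoh.pullPushAdj f).counit.app (EtCoh.Gm X))
    ((EtCoh.bc f).obj V) (eta f (P f) V s))).trans ?_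
  refine (congrArg (fun t => (gmp j).hom.app _ (eta j (EtCoh.Gm X) ((EtCoh.bc f).obj V) t))
    (counit_eta f (EtCoh.Gm X) V s)).trans ?_
  exact gmp_eta j ((EtCoh.bc f).obj V) s

theorem appTop_injective {A B : Scheme.{u}} (c : A ⟶ B) (d : B ⟶ A) (h : d ≫ c = 𝟙 B) {a b : Γ(B, ⊤)}
    (hab : c.appTop.hom a = c.appTop.hom b) : a = b := by
  have h1 : ∀ a : Γ(B, ⊤), d.appTop.hom (c.appTop.hom a) = a := by
    intro a
    have h2 := congrArg (fun k => k.appTop.hom a) h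
    have h4 : (d ≫ c).appTop = c.appTop ≫ d.appTop := Scheme.Hom.comp_appTop _ _
    have h5 : (𝟙 B : B ⟶ B).appTop = 𝟙 _ := Scheme.Hom.id_appTop
    simp only [h4, h5] at h2
    exact h2
  rw [← h1 a, ← h1 b, hab]

theorem unitOf_Pmap (j : X' ⟶ X) (f : X ⟶ Y) (f' : X' ⟶ Y) (w : j ≫ f = f') (V : Y.Etale)
    (s : EtCoh.sect (P f) V) :
    ((unitOf (X := X') (U := (EtCoh.bc f').obj V) ((Pmap j f f' w).hom.app (op V) s) :
        (Γ(((EtCoh.bc f').obj V).left, ⊤))ˣ) : Γ(((EtCoh.bc f').obj V).left, ⊤)) =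
      (bcj j f f' w V).appTop.hom
        (unitOf (X := X) (U := (EtCoh.bc f).obj V) s : Γ(((EtCoh.bc f).obj V).left, ⊤)) := by
  let c : Γ(((EtCoh.bc f).obj V).left, ⊤) :=
    ((unitOf (X := X) (U := (EtCoh.bc f).obj V) s : (Γ(((EtCoh.bc f).obj V).left, ⊤))ˣ) :
      Γ(((EtCoh.bc f).obj V).left, ⊤))
  have h1 := congrArg (fun t => ((unitOf (X := X') (U := (EtCoh.bc j).obj ((EtCoh.bc f).obj V)) t :
    (Γ(((EtCoh.bc j).obj ((EtCoh.bc f).obj V)).left, ⊤))ˣ) :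
      Γ(((EtCoh.bc j).obj ((EtCoh.bc f).obj V)).left, ⊤))) (map_bcComp_Pmap j f f' w V s)
  have h2 := congrArg (fun k => k.appTop.hom c) (bcComp_bcj j f f' w V)
  have h3 : (bcComp j f f' w V).left.appTop.hom ((bcj j f f' w V).appTop.hom c) =
      (bcFst j ((EtCoh.bc f).obj V)).appTop.hom c := by
    refine Eq.trans ?_ h2
    have h4 : ((bcComp j f f' w V).left ≫ bcj j f f' w V).appTop =
      (bcj j f f' w V).appTop ≫ (bcComp j f f' w V).left.appTop := Scheme.Hom.comp_appTop _ _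
    exact (congrArg (fun k => k.hom c) h4).symm
  have := GmIso.isIso_bcComp j f f' w V
  refine appTop_injective (bcComp j f f' w V).left (inv (bcComp j f f' w V)).left ?_ ?_
  · exact congrArg (fun k => k.left) (IsIso.inv_hom_id (bcComp j f f' w V))
  · exact Eq.trans h1 h3.symm

/-! ### Functoriality -/

theorem Pmap_id (f : X ⟶ Y) (w : 𝟙 X ≫ f = f) : Pmap (𝟙 X) f f w = 𝟙 (P f) := by
  ext V s
  apply Groth.Agent.CurvesA.MuConst.unitOf_injective (X := X) (U := (EtCoh.bc f).obj V.unop)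
  apply Units.ext
  refine (unitOf_Pmap (𝟙 X) f f w V.unop s).trans ?_
  have h : bcj (𝟙 X) f f w V.unop = 𝟙 _ := by
    apply pullback.hom_ext
    · exact (bcj_fst _ _ _ _ _).trans (Category.id_comp _).symm
    · exact (bcj_snd _ _ _ _ _).trans ((Category.comp_id _).trans (Category.id_comp _).symm)
  rw [h, Scheme.Hom.id_appTop]
  rfl

theorem bcj_bcj (i : X'' ⟶ X') (j : X' ⟶ X) (f : X ⟶ Y) (f' : X' ⟶ Y) (f'' : X'' ⟶ Y)
    (w : j ≫ f = f') (w' : i ≫ f' = f'') (ij : X'' ⟶ X) (hij : i ≫ j = ij) (w'' : ij ≫ f = f'')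
    (V : Y.Etale) : bcj i f' f'' w' V ≫ bcj j f f' w V = bcj ij f f'' w'' V := by
  subst hij
  apply pullback.hom_ext
  · refine (Category.assoc _ _ _).trans ?_
    refine (congrArg (fun k => bcj i f' f'' w' V ≫ k) (bcj_fst j f f' w V)).trans ?_
    exact (bcj_fst _ _ _ _ _).trans (bcj_fst _ _ _ _ _).symm
  · refine (Category.assoc _ _ _).trans ?_
    refine (congrArg (fun k => bcj i f' f'' w' V ≫ k) (bcj_snd j f f' w V)).trans ?_
    refine (Category.assoc _ _ _).symm.trans ?_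
    refine (congrArg (fun k => k ≫ j) (bcj_snd i f' f'' w' V)).trans ?_
    exact (Category.assoc _ _ _).trans (bcj_snd _ _ _ _ _).symm

theorem Pmap_comp (i : X'' ⟶ X') (j : X' ⟶ X) (f : X ⟶ Y) (f' : X' ⟶ Y) (f'' : X'' ⟶ Y)
    (w : j ≫ f = f') (w' : i ≫ f' = f'') (ij : X'' ⟶ X) (hij : i ≫ j = ij) (w'' : ij ≫ f = f'') :
    Pmap j f f' w ≫ Pmap i f' f'' w' = Pmap ij f f'' w'' := by
  ext V s
  apply Groth.Agent.CurvesA.MuConst.unitOf_injective (X := X'') (U := (EtCoh.bc f'').obj V.unop)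
  apply Units.ext
  refine Eq.trans ?_ (unitOf_Pmap ij f f'' w'' V.unop s).symm
  refine (unitOf_Pmap i f' f'' w' V.unop ((Pmap j f f' w).hom.app V s)).trans ?_
  refine (congrArg _ (unitOf_Pmap j f f' w V.unop s)).trans ?_
  rw [← bcj_bcj i j f f' f'' w w' ij hij w'' V.unop]
  have h4 : (bcj i f' f'' w' V.unop ≫ bcj j f f' w V.unop).appTop =
    (bcj j f f' w V.unop).appTop ≫ (bcj i f' f'' w' V.unop).appTop := Scheme.Hom.comp_appTop _ _
  rw [h4]
  rfl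

/-! ### Edge maps -/

/-- The edge map `H^n(Y, f_* F) ⟶ H^n(X, F)`. -/
noncomputable def eH (f : X ⟶ Y) (F : EtCoh.Ab X) (n : ℕ) :
    HH Y ((EtCoh.push f).obj F) n →+ HH X F n :=
  hpl f ((EtCoh.pullPushAdj f).counit.app F) n

/-- Pullback on the cohomology of `G_m`. -/
noncomputable def HG (j : X' ⟶ X) (n : ℕ) : HH X (EtCoh.Gm X) n →+ HH X' (EtCoh.Gm X') n :=
  hpl j (gmp j) n

theorem eH_Pmap (j : X' ⟶ X) (f : X ⟶ Y) (f' : X' ⟶ Y) (w : j ≫ f = f') (n : ℕ) (x : HH Y (P f) n) :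
    eH f' (EtCoh.Gm X') n (HHmap (Pmap j f f' w) n x) = HG j n (eH f (EtCoh.Gm X) n x) := by
  rw [eH, hpl_map, map_Pmap, HG, eH]
  exact (hpl_hpl j f f' w _ _ _ (th_Lmap j f f' w) n x).symm

theorem eH_eq_edge (f : X ⟶ Y) (F : EtCoh.Ab X) (n : ℕ) (x : HH Y ((EtCoh.push f).obj F) n) :
    eH f F n x = Ext.comp (Ext.mk₀ (EtCore.pullConst f ℤ).inv)
      (EtpbcB.EdgeLemma.edge (EtCoh.pullPushAdj f) (EtCoh.const Y ℤ) F n x) (zero_add n) := by
  rw [EtpbcB.EdgeLemma.edge_apply]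
  exact Ext.comp_assoc_of_third_deg_zero _ _ _ _

/-- `edge` is injective iff `eH` is. -/
theorem edge_injective_iff (f : X ⟶ Y) (F : EtCoh.Ab X) (n : ℕ) :
    Function.Injective (EtpbcB.EdgeLemma.edge (EtCoh.pullPushAdj f) (EtCoh.const Y ℤ) F n) ↔
      Function.Injective (eH f F n) := by
  constructor
  · intro h a b hab
    rw [eH_eq_edge, eH_eq_edge] at hab
    exact h ((EtpbcB.EdgeEt.bij_aux f F n).1 hab)
  · intro h a b hab
    apply h
    rw [eH_eq_edge, eH_eq_edge]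
    exact congrArg (fun t => Ext.comp (Ext.mk₀ (EtCore.pullConst f ℤ).inv) t (zero_add n)) hab

end Groth.Agent.Dix.K282.PMap
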