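import Groth.Agent.Dix.K282.RealMain

/-!
# Invariant Brauer classes on tori over real closed fields
-/

set_option autoImplicit false
universe u
open CategoryTheory CategoryTheory.Limits AlgebraicGeometry Opposite TensorProduct
open scoped Groth.Agent.Etcore.EtInst
open Groth.Agent.Etcore.EtInst

namespace Groth.Agent.Dix.K282.RealEnd

open Groth.Agent.Lefpen.H365.FieldPts Groth.Agent.Dix.K282.StkData Groth.Agent.Dix.K282.PMap
open Groth.Agent.Dix.K282.QuadDesc Groth.Agent.Dix.K282.UnitsMA Groth.Agent.Dix.K282.AlgStk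
open Groth.Agent.Dix.K282.TorusStk Groth.Agent.Dix.K282.NormOne Groth.Agent.Dix.K282.RealMap
open Groth.Agent.Dix.K282.GeoVan Groth.Agent.Dix.K282.Assemble Groth.Agent.Dix.K282.Pointed

attribute [local instance] Algebra.TensorProduct.rightAlgebra

/-- The data of a quadratic separable closure. -/
theorem exists_quad (K Ω : Type u) [Field K] [Field Ω] [Algebra K Ω] [CharZero K] [FiniteDimensional K Ω]
    [IsGalois K Ω] (h : Module.finrank K Ω = 2) :
    ∃ D : Quad K Ω, ∀ g : Ω ≃ₐ[K] Ω, g = 1 ∨ g = D.σ := by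
  classical
  have hcard : Fintype.card (Ω ≃ₐ[K] Ω) = 2 := by
    rw [← Nat.card_eq_fintype_card, IsGalois.card_aut_eq_finrank, h]
  obtain ⟨σ, hσ⟩ : ∃ σ : Ω ≃ₐ[K] Ω, σ ≠ 1 := by
    have : Nontrivial (Ω ≃ₐ[K] Ω) := Fintype.one_lt_card_iff_nontrivial.1 (by omega)
    exact exists_ne 1
  have hall : ∀ g : Ω ≃ₐ[K] Ω, g = 1 ∨ g = σ := by
    intro g
    by_contra hg
    push Not at hg
    have h1 : ({1, σ, g} : Finset (Ω ≃ₐ[K] Ω)).card = 3 :=
      Finset.card_eq_three.2 ⟨1, σ, g, hσ.symm, hg.1.symm, hg.2.symm, rfl⟩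
    have h2 := Finset.card_le_univ ({1, σ, g} : Finset (Ω ≃ₐ[K] Ω))
    omega
  have hσσ : σ * σ = 1 := by
    rcases hall (σ * σ) with h1 | h1
    · exact h1
    · exact absurd (mul_eq_left.1 h1) hσ
  have hfix : ∀ c, σ c = c → ∃ t : K, algebraMap K Ω t = c := by
    intro c hc
    refine (IsGalois.mem_range_algebraMap_iff_fixed c).2 fun g => ?_
    rcases hall g with rfl | rfl
    · rfl
    · exact hc
  obtain ⟨c, hc⟩ : ∃ c, σ c ≠ c := by
    by_contra hc
    push Not at hc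
    exact hσ (AlgEquiv.ext hc)
  have h0 : CharZero Ω := charZero_of_injective_algebraMap (algebraMap K Ω).injective
  have hs : ∀ c, σ (σ c) = c := fun c => DFunLike.congr_fun hσσ c
  refine ⟨⟨σ, hs, hfix, c - σ c, sub_ne_zero.2 (Ne.symm hc), ?_, two_ne_zero⟩, hall⟩
  rw [map_sub, hs, neg_sub]

variable {K Ω : Type u} [Field K] [Field Ω] [Algebra K Ω]

/-- Splitting of a torus. -/
theorem exists_iso [IsSepClosed Ω] (A : Type u) [CommRing A] [HopfAlgebra K A] (hT : SGA3b.IsTorus K A) :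
    ∃ n : ℕ, Nonempty (A ⊗[K] Ω ≃ₐ[Ω] MonoidAlgebra Ω (Multiplicative (Fin n → ℤ))) := by
  obtain ⟨n, ⟨e⟩⟩ := TorusSplit.exists_split K Ω A hT
  exact ⟨n, ⟨(Algebra.TensorProduct.commRight K Ω A).symm.trans (e : _ ≃ₐ[Ω] _)⟩⟩

/-- `H¹(T_Ω, G_m) = 0`. -/
theorem isZero_R1 [Algebra.IsSeparable K Ω] [IsSepClosed Ω] {A : Type u} [CommRing A] [Algebra K A] {n : ℕ}
    (e : A ⊗[K] Ω ≃+* MonoidAlgebra Ω (Multiplicative (Fin n → ℤ))) :
    IsZero ((EtCoh.Rpush (sp K A) 1).obj (EtCoh.Gm (Spec (CommRingCat.of A)))) :=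
  VanGm.isZero_Rpush_Gm (Ω := Ω) (sp K A) 0 fun x =>
    van_one_of_ufd (LaurGeo.isUFD_of_equiv e.symm (LaurGeo.isUFD_torus Ω n)) x

/-- **Invariant Brauer classes on a torus over a real closed field.** -/
theorem main (k : Type u) [Field k] [CharZero k]
    (Ω : Type u) [Field Ω] [Algebra k Ω] [IsSepClosure k Ω] (hk : Module.finrank k Ω = 2)
    (A : Type u) [CommRing A] [HopfAlgebra k A] (hT : SGA3b.IsTorus k A)
    [∀ ⦃Y Z : Scheme.{u}⦄ (g : Y ⟶ Z), PreservesFiniteLimits (EtCoh.pull g)] :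
    Dix.brInv Ω (sp k A) ≤ (EtLim.HGmPull (pullback.fst (sp k A) (xi k Ω)) 2).range := by
  have h1 : FiniteDimensional k Ω := FiniteDimensional.of_finrank_pos (by omega)
  have h2 : IsGalois k Ω := IsSepClosure.isGalois
  have h3 : IsAlgClosure k Ω := inferInstance
  have h4 : IsAlgClosed Ω := h3.isAlgClosed
  obtain ⟨D, hD⟩ := exists_quad k Ω hk
  obtain ⟨n, ⟨e⟩⟩ := exists_iso (Ω := Ω) A hT
  obtain ⟨S⟩ := nonempty_spl (ptA (Ω := Ω) (Bialgebra.counitAlgHom k A)) e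
  refine BrLift.brInv_le_range _ (isZero_R1 (Ω := Ω) e.toRingEquiv) ?_
  rw [edge_injective_iff]
  exact RealMain.eH_injective_torus D (Bialgebra.counitAlgHom k A) S hD

end Groth.Agent.Dix.K282.RealEnd
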