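import Groth.Agent.Dix.K282.NormGm
import Groth.Agent.Etcore.EtInst
import Groth.Agent.Etrest.HPush

/-!
# Torsion in the cohomology of `G_m` descends along finite locally free morphisms
-/

set_option autoImplicit false
universe u

open CategoryTheory CategoryTheory.Limits AlgebraicGeometry Opposite Abelian
open scoped Groth.Agent.Etcore.EtInst
open Groth.Agent.Etcore.EtInst

namespace K282.NormTors

variable {X Y : Scheme.{u}}

theorem HHmap_nsmul (F : EtCoh.Ab X) (d n : ℕ) (x : HH X F n) : HHmap (d • 𝟙 F) n x = d • x := by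
  rw [HHmap_apply]
  induction d with
  | zero => simp
  | succ d ih => rw [add_smul, one_smul, Ext.mk₀_add, Ext.comp_add, ih, Ext.comp_mk₀_id, add_smul, one_smul]

/-- If `f` is finite locally free of degree `d` and the image of `y` in `H^n(Y, f_* G_m)` is killed by `m`
then `y` is killed by `m * d`. -/
theorem nsmul_eq_zero (f : X ⟶ Y) [IsFinite f] [Flat f] [LocallyOfFinitePresentation f] {d : ℕ}
    (hd : ∀ y : Y, f.finrank y = d) (n : ℕ) (y : HH Y (EtCoh.Gm Y) n)
    (hy : HHmap (EtLim.GmPush f) n y = 0) : d • y = 0 := by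
  have h1 := HHmap_comp (EtLim.GmPush f) (NormGm.normGm f) n y
  rw [NormGm.GmPush_normGm f hd, HHmap_nsmul, hy, map_zero] at h1
  exact h1

theorem isAddTorsion (f : X ⟶ Y) [IsFinite f] [Flat f] [LocallyOfFinitePresentation f] {d : ℕ}
    (hd1 : 1 ≤ d) (hd : ∀ y : Y, f.finrank y = d) (n : ℕ)
    (hX : IsAddTorsion (HH X (EtCoh.Gm X) n)) : IsAddTorsion (HH Y (EtCoh.Gm Y) n) := by
  obtain ⟨e⟩ : Nonempty (HH X (EtCoh.Gm X) n ≃+ HH Y ((EtCoh.push f).obj (EtCoh.Gm X)) n) :=
    Groth.Agent.Etrest.HPush.nonempty_HPushEquiv_of_isFinite f (EtCoh.Gm X) n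
  intro y
  have h1 := hX (e.symm (HHmap (EtLim.GmPush f) n y))
  obtain ⟨m, hm, h2⟩ := isOfFinAddOrder_iff_nsmul_eq_zero.1 h1
  have h3 : HHmap (EtLim.GmPush f) n (m • y) = 0 := by
    apply e.symm.injective
    rw [map_nsmul, map_nsmul, h2, map_zero]
  have h4 := nsmul_eq_zero f hd n _ h3
  rw [← mul_smul] at h4
  exact isOfFinAddOrder_iff_nsmul_eq_zero.2 ⟨d * m, Nat.mul_pos hd1 hm, h4⟩

end K282.NormTors
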