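import Groth.Agent.Dix.K282.StkGm

/-!
# The values of `f_* G_m` at the geometric points of a field: the affine case

`A` a `K`-algebra: the stalk of `f_* G_m`, `f : Spec A ⟶ Spec K`, is `(A ⊗ Ω)ˣ` (`stkA`), with
`stkA_map` (functoriality in `A`) and `stkA_gal` (Galois action).
-/

set_option autoImplicit false
universe u
open CategoryTheory CategoryTheory.Limits AlgebraicGeometry Opposite TensorProduct

namespace Groth.Agent.Dix.K282.AlgStk

open Groth.Agent.Etcore Groth.Agent.Etcore.PullCoh Groth.Agent.Etcore.GmFun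
open Groth.Agent.CurvesA.MuConst (unitOf ofUnit unitOf_add)
open Groth.Agent.Etcore.LimBC0 (mB mB_fst mB_hom mB_map mZ_mB)
open Groth.Agent.Lefpen.H712.HT
open Groth.Agent.Lefpen.H365.FieldPts Groth.Agent.Lefpen.H365.Ev Groth.Agent.Lefpen.H365.B1
open Groth.Agent.Dix.K282.StkData Groth.Agent.Dix.K282.PMap Groth.Agent.Dix.K282.StkGm

variable {K Ω : Type u} [Field K] [Field Ω] [Algebra K Ω]
variable (A B C : Type u) [CommRing A] [CommRing B] [CommRing C] [Algebra K A] [Algebra K B] [Algebra K C]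

/-- `Spec A ⟶ Spec K`. -/
noncomputable abbrev sp (K A : Type u) [Field K] [CommRing A] [Algebra K A] :
    Spec (CommRingCat.of A) ⟶ Spec (CommRingCat.of K) :=
  Spec.map (CommRingCat.ofHom (algebraMap K A))

variable {A B C} in
/-- The morphism given by an algebra map. -/
noncomputable abbrev sm (j : A →ₐ[K] B) : Spec (CommRingCat.of B) ⟶ Spec (CommRingCat.of A) :=
  Spec.map (CommRingCat.ofHom j.toRingHom)

variable {A B C} in
theorem sm_sp (j : A →ₐ[K] B) : sm j ≫ sp K A = sp K B := by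
  change Spec.map _ ≫ Spec.map _ = Spec.map _
  rw [← Spec.map_comp, ← CommRingCat.ofHom_comp]
  congr 2
  exact j.comp_algebraMap

variable {A B C} in
theorem sm_sm (j : A →ₐ[K] B) (l : B →ₐ[K] C) (m : A →ₐ[K] C) (h : l.comp j = m) :
    sm l ≫ sm j = sm m := by
  subst h
  change Spec.map _ ≫ Spec.map _ = Spec.map _
  rw [← Spec.map_comp, ← CommRingCat.ofHom_comp]
  rfl

section Geo

variable (K Ω)

/-- `(Spec A)_Ω` is a spectrum. -/
noncomputable def psI : pullback (sp K A) (xi K Ω) ≅ Spec (CommRingCat.of (A ⊗[K] Ω)) :=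
  pullbackSpecIso K A Ω

theorem psI_inv_fst : (psI K Ω A).inv ≫ pullback.fst (sp K A) (xi K Ω) =
    Spec.map (CommRingCat.ofHom (Algebra.TensorProduct.includeLeftRingHom : A →+* A ⊗[K] Ω)) :=
  pullbackSpecIso_inv_fst K A Ω

theorem psI_inv_snd : (psI K Ω A).inv ≫ pullback.snd (sp K A) (xi K Ω) =
    Spec.map (CommRingCat.ofHom (Algebra.TensorProduct.includeRight : Ω →ₐ[K] A ⊗[K] Ω).toRingHom) :=
  pullbackSpecIso_inv_snd K A Ω

/-- The functions on `(Spec A)_Ω`. -/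
noncomputable def gA : Γ(pullback (sp K A) (xi K Ω), ⊤) ≅ CommRingCat.of (A ⊗[K] Ω) :=
  have : IsIso ((psI K Ω A).inv.appTop) := inferInstanceAs (IsIso (Scheme.Γ.map (psI K Ω A).inv.op))
  asIso ((psI K Ω A).inv.appTop) ≪≫ Scheme.ΓSpecIso (CommRingCat.of (A ⊗[K] Ω))

variable {A B}

theorem gA_comp (H : pullback (sp K B) (xi K Ω) ⟶ pullback (sp K A) (xi K Ω))
    (h : A ⊗[K] Ω →+* B ⊗[K] Ω)
    (e : (psI K Ω B).inv ≫ H = Spec.map (CommRingCat.ofHom h) ≫ (psI K Ω A).inv)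
    (x : Γ(pullback (sp K A) (xi K Ω), ⊤)) :
    (gA K Ω B).hom (H.appTop x) = h ((gA K Ω A).hom x) := by
  have h1 : H.appTop ≫ (gA K Ω B).hom = (gA K Ω A).hom ≫ CommRingCat.ofHom h := by
    change _ ≫ (psI K Ω B).inv.appTop ≫ _ = ((psI K Ω A).inv.appTop ≫ _) ≫ _
    rw [← Category.assoc, ← Scheme.Hom.comp_appTop, e, Scheme.Hom.comp_appTop, Category.assoc, Category.assoc]
    congr 1
    exact Scheme.ΓSpecIso_naturality (CommRingCat.ofHom h)
  exact congr($(h1).hom x)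

theorem psI_jO (j : A →ₐ[K] B) :
    (psI K Ω B).inv ≫ jO (Ω := Ω) (sp K A) (sp K B) (sm j) (sm_sp j) =
      Spec.map (CommRingCat.ofHom (Algebra.TensorProduct.map j (AlgHom.id K Ω)).toRingHom) ≫
        (psI K Ω A).inv := by
  apply pullback.hom_ext
  · rw [Category.assoc, Category.assoc, jO_fst, psI_inv_fst, ← Category.assoc, psI_inv_fst]
    rw [← Spec.map_comp, ← Spec.map_comp, ← CommRingCat.ofHom_comp, ← CommRingCat.ofHom_comp]
    congr 2
  · rw [Category.assoc, Category.assoc, jO_snd, psI_inv_snd, psI_inv_snd]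
    rw [← Spec.map_comp, ← CommRingCat.ofHom_comp]
    congr 2
    ext r
    simp

theorem psI_bm (σ : Ω ≃ₐ[K] Ω) :
    (psI K Ω A).inv ≫ bm (sp K A) (Spec.map (CommRingCat.ofHom (σ : Ω →+* Ω))) (spec_map_comp σ) =
      Spec.map (CommRingCat.ofHom
        (Algebra.TensorProduct.map (AlgHom.id K A) (σ : Ω →ₐ[K] Ω)).toRingHom) ≫ (psI K Ω A).inv := by
  apply pullback.hom_ext
  · rw [Category.assoc, Category.assoc, bm_fst, psI_inv_fst, ← Spec.map_comp, ← CommRingCat.ofHom_comp]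
    congr 2
    ext r
    simp
  · rw [Category.assoc, Category.assoc, bm_snd, psI_inv_snd, ← Category.assoc, psI_inv_snd]
    rw [← Spec.map_comp, ← Spec.map_comp, ← CommRingCat.ofHom_comp, ← CommRingCat.ofHom_comp]
    congr 2

end Geo

variable (Ω)

/-- `U Ω (Spec A ⟶ Spec K) = (A ⊗ Ω)ˣ`. -/
noncomputable def uE : U Ω (sp K A) ≃+ Additive (A ⊗[K] Ω)ˣ :=
  (Units.mapEquiv (gA K Ω A).commRingCatIsoToRingEquiv.toMulEquiv).toAdditive

theorem uE_val (a : U Ω (sp K A)) : ((uE Ω A a).toMul : A ⊗[K] Ω) =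
    (gA K Ω A).hom (a.toMul : Γ(pullback (sp K A) (xi K Ω), ⊤)) := rfl

/-- Transport of a description of the stalk. -/
noncomputable def Stk.congr {G : EtCoh.Ab (Spec (CommRingCat.of K))} {S S' : Type*} [AddCommGroup S]
    [AddCommGroup S'] (E : Stk Ω G S) (e : S ≃+ S') : Stk Ω G S' where
  ev V r hr := e.toAddMonoidHom.comp (E.ev V r hr)
  nat k r' hr' r hr h s := congrArg e (E.nat k r' hr' r hr h s)
  inj V r hr s h := E.inj V r hr s (e.injective (h.trans (map_zero e).symm))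
  surj V r hr u := by
    obtain ⟨V', k, r', hr', s, hk, hs⟩ := E.surj V r hr (e.symm u)
    exact ⟨V', k, r', hr', s, hk, (congrArg e hs).trans (e.apply_symm_apply u)⟩

instance : QuasiCompact (sp K A) := inferInstance
instance : QuasiSeparated (sp K A) := inferInstance

variable [Algebra.IsSeparable K Ω] [IsSepClosed Ω]

/-- **The stalk of `f_* G_m`**, `f : Spec A ⟶ Spec K`. -/
noncomputable def stkA : Stk Ω (P (sp K A)) (Additive (A ⊗[K] Ω)ˣ) :=
  Stk.congr Ω (stkP (sp K A)) (uE Ω A)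

variable {A B}

/-- The map on stalks. -/
noncomputable def mA (j : A →ₐ[K] B) : Additive (A ⊗[K] Ω)ˣ →+ Additive (B ⊗[K] Ω)ˣ :=
  (Units.map ((Algebra.TensorProduct.map j (AlgHom.id K Ω) : A ⊗[K] Ω →ₐ[K] B ⊗[K] Ω) :
    A ⊗[K] Ω →* B ⊗[K] Ω)).toAdditive

omit [Algebra.IsSeparable K Ω] [IsSepClosed Ω] in
theorem mA_val (j : A →ₐ[K] B) (a : Additive (A ⊗[K] Ω)ˣ) :
    ((mA Ω j a).toMul : B ⊗[K] Ω) =
      Algebra.TensorProduct.map j (AlgHom.id K Ω) (a.toMul : A ⊗[K] Ω) := rfl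

theorem stkA_map (j : A →ₐ[K] B) (V : (Spec (CommRingCat.of K)).Etale)
    (r : Spec (CommRingCat.of Ω) ⟶ V.left) (hr : r ≫ V.hom = xi K Ω) (s : EtCoh.sect (P (sp K A)) V) :
    (stkA Ω B).ev V r hr ((Pmap (sm j) (sp K A) (sp K B) (sm_sp j)).hom.app (op V) s) =
      mA Ω j ((stkA Ω A).ev V r hr s) := by
  change uE Ω B (evU (sp K B) V r hr _) = mA Ω j (uE Ω A (evU (sp K A) V r hr s))
  rw [evU_Pmap]
  apply Additive.toMul.injective
  apply Units.ext
  rw [uE_val, mA_val, uE_val, mapU_val]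
  exact gA_comp K Ω _ _ (psI_jO K Ω j) _

variable (A) in
/-- The Galois action on the stalk. -/
noncomputable def gal (σ : Ω ≃ₐ[K] Ω) : Additive (A ⊗[K] Ω)ˣ →+ Additive (A ⊗[K] Ω)ˣ :=
  (Units.map ((Algebra.TensorProduct.map (AlgHom.id K A) (σ : Ω →ₐ[K] Ω) : A ⊗[K] Ω →ₐ[K] A ⊗[K] Ω) :
    A ⊗[K] Ω →* A ⊗[K] Ω)).toAdditive

omit [Algebra.IsSeparable K Ω] [IsSepClosed Ω] in
theorem gal_val (σ : Ω ≃ₐ[K] Ω) (a : Additive (A ⊗[K] Ω)ˣ) :
    ((gal Ω A σ a).toMul : A ⊗[K] Ω) =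
      Algebra.TensorProduct.map (AlgHom.id K A) (σ : Ω →ₐ[K] Ω) (a.toMul : A ⊗[K] Ω) := rfl

omit [Algebra.IsSeparable K Ω] [IsSepClosed Ω] in
theorem gal_hom {V : (Spec (CommRingCat.of K)).Etale} (r : Spec (CommRingCat.of Ω) ⟶ V.left)
    (hr : r ≫ V.hom = xi K Ω) (σ : Ω ≃ₐ[K] Ω) :
    (Spec.map (CommRingCat.ofHom (σ : Ω →+* Ω)) ≫ r) ≫ V.hom = xi K Ω := by
  rw [Category.assoc, hr]
  exact spec_map_comp σ

theorem stkA_gal (σ : Ω ≃ₐ[K] Ω) (V : (Spec (CommRingCat.of K)).Etale)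
    (r : Spec (CommRingCat.of Ω) ⟶ V.left) (hr : r ≫ V.hom = xi K Ω) (s : EtCoh.sect (P (sp K A)) V) :
    (stkA Ω A).ev V (Spec.map (CommRingCat.ofHom (σ : Ω →+* Ω)) ≫ r) (gal_hom Ω r hr σ) s =
      gal Ω A σ ((stkA Ω A).ev V r hr s) := by
  change uE Ω A (evU (sp K A) V _ _ s) = gal Ω A σ (uE Ω A (evU (sp K A) V r hr s))
  apply Additive.toMul.injective
  apply Units.ext
  rw [uE_val, gal_val, uE_val, evU_val, evU_val]
  have h1 := mZ_mB (sp K A) (Spec.map (CommRingCat.ofHom (σ : Ω →+* Ω))) (spec_map_comp σ) r hr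
    (Spec.map (CommRingCat.ofHom (σ : Ω →+* Ω)) ≫ r) (gal_hom Ω r hr σ) rfl
  have h2 := comp_appTop_apply _ _ _ h1 (unitOf (X := Spec (CommRingCat.of A))
    (U := (EtCoh.bc (sp K A)).obj V) s : Γ(((EtCoh.bc (sp K A)).obj V).left, ⊤))
  refine (congrArg _ h2.symm).trans ?_
  exact gA_comp K Ω _ _ (psI_bm K Ω σ) _

end Groth.Agent.Dix.K282.AlgStk
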