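import Groth.Agent.Topos.H571.GmSys
import Groth.Agent.Etcore.LocEt
import Groth.Agent.Etcore.LocalIso
import Groth.Agent.Etcore.EtaleDescend

/-!
# The morphism `f⁻¹ G_m ⟶ G_m` is an isomorphism for `f` étale, and for limits of étale morphisms

* `isIso_gmp_etale`;
* `isIso_gmp_lim`.
-/

set_option autoImplicit false
universe u
open CategoryTheory CategoryTheory.Limits AlgebraicGeometry Opposite

namespace Groth.Agent.Dix.K282.GmIso

open Etcore.PullCoh Etcore.GmFun Etcore.LimDeg0 CurvesA.MuConst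
open Groth.Agent.Sga4h.EtaleRes

section Etale

variable {U X : Scheme.{u}} (j : U ⟶ X) [AlgebraicGeometry.Etale j]

set_option backward.isDefEq.respectTransparency.types false in
theorem isIso_gmp_etale : IsIso (gmp j) := by
  have hjc := jCont j
  refine Etcore.LocalIso.isIso_of_basis _ (fun W x => ⟨W, 𝟙 W, x, rfl, ?_⟩)
  let V : X.Etale := (EtShriek.compEtale j).obj W
  let t : W ⟶ (EtCoh.bc j).obj V := (compBcAdj j).unit.app W
  have ht : Etcore.LocEt.adjt j t = 𝟙 _ := (compBcAdj j).left_triangle_components W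
  have hti : IsIso (Etcore.LocEt.adjt j t) := by rw [ht]; infer_instance
  have h1 := Etcore.LocEt.secPull_bijective j t (EtCoh.Gm X)
  have h2 : t.left ≫ bcFst j V = 𝟙 W.left := by
    have h3 := congrArg (fun k => k.left) ht
    exact h3
  have h4 : ∀ s : EtCoh.sect (EtCoh.Gm X) V, (gmp j).hom.app (op W) (Etcore.LocSec.secPull j t (EtCoh.Gm X) s) =
      (EtCoh.Gm U).obj.map t.op ((gmUnit j).hom.app (op V) s) := by
    intro s
    rw [← gmp_eta, ← map_res]
    rfl
  have h5 : ∀ s : EtCoh.sect (EtCoh.Gm X) V,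
      unitOf (X := U) (U := W) ((gmp j).hom.app (op W) (Etcore.LocSec.secPull j t (EtCoh.Gm X) s)) =
      (unitOf (X := X) (U := V) s : (Γ(W.left, ⊤))ˣ) := by
    intro s
    rw [h4]
    apply Units.ext
    rw [unitOf_map', unitOf_gmUnit]
    let c : Γ(W.left, ⊤) := ((unitOf (X := X) (U := V) s : (Γ(V.left, ⊤))ˣ) : Γ(V.left, ⊤))
    have h6 : (t.left ≫ bcFst j V).appTop.hom c = (𝟙 W.left : W.left ⟶ W.left).appTop.hom c :=
      congrArg (fun k => k.appTop.hom c) h2
    rw [Scheme.Hom.comp_appTop] at h6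
    exact h6
  have h7 : Function.Bijective ((gmp j).hom.app (op W) ∘ Etcore.LocSec.secPull j t (EtCoh.Gm X)) := by
    constructor
    · intro a b hab
      apply unitOf_injective (X := X) (U := V)
      rw [← h5, ← h5]
      exact congrArg (unitOf (X := U) (U := W)) hab
    · intro b
      refine ⟨ofUnit (X := X) (U := V) (unitOf (X := U) (U := W) b), ?_⟩
      apply unitOf_injective (X := U) (U := W)
      exact (h5 _).trans rfl
  exact (Function.Bijective.of_comp_iff _ h1).1 h7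

end Etale

section Lim

variable {I : Type u} [SmallCategory I] [IsCofiltered I] {D : I ⥤ Scheme.{u}}
  [∀ {i j} (f : i ⟶ j), IsAffineHom (D.map f)] {S : Scheme.{u}}
  (p : ∀ i, S ⟶ D.obj i) (hp : ∀ {x y : I} (f : x ⟶ y), p x ≫ D.map f = p y)
  (hc : IsLimit (coneOf p hp)) {X : Scheme.{u}} (t : ∀ i, D.obj i ⟶ X)
  (ht : ∀ {x y : I} (f : x ⟶ y), D.map f ≫ t y = t x) {q : S ⟶ X}
  (hq : ∀ j, p j ≫ t j = q)

theorem app_injective {F G : EtCoh.Ab X} (e : F ⟶ G) [IsIso e] (W : X.Etale) :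
    Function.Injective (e.hom.app (op W)) := (Etcore.LocEt.app_bijective e W).1

theorem eta_zero' {X Y : Scheme.{u}} (f : X ⟶ Y) (H : EtCoh.Ab Y) (U : Y.Etale) :
    eta f H U 0 = 0 :=
  map_zero (((EtCoh.pullPushAdj f).unit.app H).hom.app (op U)).hom

/-- `gmp_comp` on sections. -/
theorem gmp_th {W Y Z : Scheme.{u}} (f : W ⟶ Y) (t : Y ⟶ Z) (f₀ : W ⟶ Z) (w : f ≫ t = f₀)
    (U : Y.Etale) (s : EtCoh.sect ((EtCoh.pull t).obj (EtCoh.Gm Z)) U) :
    (gmp f₀).hom.app _ ((th f t f₀ w (EtCoh.Gm Z)).hom.app _ (eta f _ U s)) =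
      (gmp f).hom.app _ (eta f _ U ((gmp t).hom.app (op U) s)) := by
  rw [← map_comp_app, gmp_comp, map_comp_app, eta_map]

theorem isIso_bcComp {W Y Z : Scheme.{u}} (f : W ⟶ Y) (t : Y ⟶ Z) (f₀ : W ⟶ Z) (w : f ≫ t = f₀)
    (U : Z.Etale) : IsIso (bcComp f t f₀ w U) := by
  subst w
  rw [← pullbackComp_inv_eq]
  exact inferInstanceAs (IsIso
    (((MorphismProperty.Over.pullbackComp (P := EtCoh.etaleMP) (Q := ⊤) f t).app U).inv))

theorem res_bcComp_bijective {W Y Z : Scheme.{u}} (f : W ⟶ Y) (t : Y ⟶ Z) (f₀ : W ⟶ Z)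
    (w : f ≫ t = f₀) (U : Z.Etale) (F : EtCoh.Ab W) :
    Function.Bijective (F.obj.map (bcComp f t f₀ w U).op) := by
  have := isIso_bcComp f t f₀ w U
  exact Etcore.LocEt.res_bijective F (bcComp f t f₀ w U)

theorem app_zero' {F G : EtCoh.Ab X} (e : F ⟶ G) (W : X.Etale) : e.hom.app (op W) 0 = 0 :=
  map_zero (e.hom.app (op W)).hom

theorem res_zero' (F : EtCoh.Ab X) {W W' : X.Etale} (r : W' ⟶ W) : F.obj.map r.op 0 = 0 :=
  map_zero (F.obj.map r.op).hom

include hc ht hq in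
theorem isIso_gmp_lim (hiso : ∀ i, IsIso (gmp (t i))) : IsIso (gmp q) := by
  -- every object is locally the base change of an affine étale scheme over a stage
  have key : ∀ (U : S.Etale) (x : U.left), ∃ (i : I) (W : (D.obj i).Etale) (_ : IsAffine W.left)
      (g : (EtCoh.bc (p i)).obj W ⟶ U) (z : ((EtCoh.bc (p i)).obj W).left), g.left z = x := by
    intro U x
    have hU : AlgebraicGeometry.Etale U.hom := U.prop
    obtain ⟨i, W, w, hw, hW, h, z, h1, h2⟩ :=
      Etcore.EtaleDescend.exists_etale_nhd D (coneOf p hp) hc U.hom x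
    exact ⟨i, MorphismProperty.Over.mk ⊤ w hw, hW, MorphismProperty.Over.homMk h h1 trivial, z, h2⟩
  refine Etcore.LocalIso.isIso_of_basis _ (fun U x => ?_)
  obtain ⟨i, W, hW, g, z, hz⟩ := key U x
  refine ⟨_, g, z, hz, ?_, ?_⟩
  · intro a b hab
    rw [← sub_eq_zero]
    have h0 : (gmp q).hom.app (op ((EtCoh.bc (p i)).obj W)) (a - b) = 0 := by
      refine (map_sub ((gmp q).hom.app (op ((EtCoh.bc (p i)).obj W))).hom a b).trans ?_
      exact sub_eq_zero.2 hab
    generalize a - b = s at h0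
    obtain ⟨j, f, s', hs'⟩ := Etcore.LimDeg0.surj p hp hc t ht hq (G := EtCoh.Gm X) W s
    have h1 := gmp_th (p j) (t j) q (hq j) _ s'
    rw [hs', map_res, h0, res_zero'] at h1
    have hcc : CompactSpace ((EtCoh.bc (D.map f)).obj W).left := Etcore.LimEt.compactSpace_bc _ W
    obtain ⟨k, f', h2⟩ := Topos.H571.GmDeg0.gm_inj p hp hc _ _ h1.symm
    rw [← gmp_th (D.map f') (t j) (t k) (ht f')] at h2
    have i1 := hiso k
    have h3 := app_injective (gmp (t k)) _ (h2.trans (app_zero' _ _).symm)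
    have h4 := app_injective (th (D.map f') (t j) (t k) (ht f') (EtCoh.Gm X)) _
      (h3.trans (app_zero' _ _).symm)
    have h5 := th_unit (p k) (D.map f') (p j) (hp f') ((EtCoh.pull (t j)).obj (EtCoh.Gm X)) _ s'
    rw [h4, eta_zero', app_zero'] at h5
    have h6 := (res_bcComp_bijective (p k) (D.map f') (p j) (hp f') _ _).1
      (h5.symm.trans (res_zero' _ _).symm)
    rw [h6, app_zero'] at hs'
    exact (res_bcComp_bijective (p j) (D.map f) (p i) (hp f) W _).1 (hs'.symm.trans (res_zero' _ _).symm)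
  · intro b
    obtain ⟨j, f, s', hs'⟩ := Topos.H571.GmDeg0.gm_surj p hp hc W b
    have i1 := hiso j
    obtain ⟨s'', rfl⟩ := (Etcore.LocEt.app_bijective (gmp (t j)) _).2 s'
    have h1 := gmp_th (p j) (t j) q (hq j) _ s''
    obtain ⟨a, ha⟩ := (res_bcComp_bijective (p j) (D.map f) (p i) (hp f) W
      ((EtCoh.pull q).obj (EtCoh.Gm X))).2 ((th (p j) (t j) q (hq j) (EtCoh.Gm X)).hom.app _ (eta (p j) _ _ s''))
    refine ⟨a, (res_bcComp_bijective (p j) (D.map f) (p i) (hp f) W (EtCoh.Gm S)).1 ?_⟩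
    rw [← map_res, ha, h1]
    exact hs'

end Lim

end Groth.Agent.Dix.K282.GmIso
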