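import Groth.Agent.Dix.K282.InvLift
import Groth.Agent.Dix.K282.GmIso
import Groth.Agent.Topos.H571.GmPull
import Groth.Prelude.Def_W4c4brauerdpcsurfBr

/-!
# Lifting Galois invariant Brauer classes

`brInv_le_range`: `f : X ⟶ Spec K` quasi-compact quasi-separated with `R¹ f_* G_m = 0` and
`H³(K, f_* G_m) ⟶ H³(X, G_m)` injective: `Br(X) ⟶ Br(X_Ω)^Γ` is surjective.
-/

set_option autoImplicit false
universe u
open CategoryTheory CategoryTheory.Limits AlgebraicGeometry Opposite Abelian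
open scoped Groth.Agent.Etcore.EtInst
open Groth.Agent.Etcore.EtInst

namespace Groth.Agent.Dix.K282.BrLift

open Groth.Agent.Etcore Groth.Agent.Etcore.HQ Groth.Agent.Etcore.HpullCalc
open Groth.Agent.Etcore.PullCoh Groth.Agent.Etcore.GmFun
open Groth.Agent.Lefpen.H365.FieldPts Groth.Agent.Lefpen.H712.HT Groth.Agent.Lefpen.H365.B1
open Groth.Agent.EtpbcB.EdgeLemma (edge)

section Iso

variable {K Ω : Type u} [Field K] [Field Ω] [Algebra K Ω] [Algebra.IsSeparable K Ω]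
  {X : Scheme.{u}} (f : X ⟶ Spec (CommRingCat.of K))

/-- `q⁻¹ G_m ⟶ G_m` is an isomorphism for `q : X_Ω ⟶ X`. -/
theorem isIso_gmp_fst : IsIso (gmp (pullback.fst f (xi K Ω))) := by
  let T := PullbackLim.specSys (sysF K Ω)
  let c := PullbackLim.specCone (sysF K Ω) (coconeF K Ω)
  have hT : ∀ ⦃a b : (FinSub K Ω)ᵒᵖ⦄ (h : a ⟶ b), IsAffineHom (T.map h) :=
    fun _ _ h => PullbackLim.isAffineHom_specSys _ h
  have i1 : ∀ {a b : (FinSub K Ω)ᵒᵖ} (h : a ⟶ b),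
      IsAffineHom ((PullbackLim.sys T (str K Ω) (str_map K Ω) f).map h) := fun h =>
    PullbackLim.isAffineHom_mapp T (str K Ω) (str_map K Ω) f hT h
  have i2 : ∀ L : FinSub K Ω, Algebra.IsSeparable K L.1 := fun L => inferInstance
  refine GmIso.isIso_gmp_lim (D := PullbackLim.sys T (str K Ω) (str_map K Ω) f)
    (S := pullback f (xi K Ω))
    (fun a => PullbackLim.proj T (str K Ω) f c (xi K Ω) (str_cone K Ω) a)
    (fun h => PullbackLim.proj_mapp T (str K Ω) (str_map K Ω) f c (xi K Ω) (str_cone K Ω) h)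
    (PullbackLim.isLimitCone T (str K Ω) (str_map K Ω) f c (xi K Ω) (str_cone K Ω) (limF K Ω))
    (fun a => pullback.fst f (str K Ω a))
    (fun h => PullbackLim.mapp_fst T (str K Ω) (str_map K Ω) f h)
    (fun a => PullbackLim.proj_fst T (str K Ω) f c (xi K Ω) (str_cone K Ω) a) ?_
  intro a
  have : Etale (str K Ω a) := (VL K Ω a.unop).prop
  have h2 : Etale (pullback.fst f (str K Ω a)) := MorphismProperty.pullback_fst f _ this
  exact @GmIso.isIso_gmp_etale _ _ (pullback.fst f (str K Ω a)) h2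

end Iso

variable {K Ω : Type u} [Field K] [Field Ω] [Algebra K Ω]
  {X : Scheme.{u}} (f : X ⟶ Spec (CommRingCat.of K))

attribute [local instance] pfl

theorem twistAut_eq (σ : Ω ≃ₐ[K] Ω) : SGA7.twistAut Ω f σ =
    bm f (Spec.map (CommRingCat.ofHom (σ : Ω →+* Ω))) (spec_map_comp σ) := by
  apply pullback.hom_ext
  · rw [bm_fst]
    exact (pullback.lift_fst _ _ _).trans (Category.comp_id _)
  · rw [bm_snd]
    exact pullback.lift_snd _ _ _

/-- `rs` and the action on `G_m`. -/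
theorem gmp_rs {T T' : Scheme.{u}} {t : T ⟶ Spec (CommRingCat.of K)}
    {t' : T' ⟶ Spec (CommRingCat.of K)} (φ : T' ⟶ T) (h : φ ≫ t = t') (n : ℕ)
    (x : HT f (EtCoh.Gm X) t n) :
    HHmap (gmp (pullback.fst f t')) n (rs f (EtCoh.Gm X) φ h n x) =
      HHmap (gmp (bm f φ h)) n (hp (bm f φ h) _ n (HHmap (gmp (pullback.fst f t)) n x)) := by
  rw [rs, res_apply, ← HHmap_comp, gmp_comp, HHmap_comp, hp_map]

variable [IsSepClosure K Ω] [QuasiCompact f] [QuasiSeparated f]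

theorem brInv_le_range_aux (h1 : IsZero ((EtCoh.Rpush f 1).obj (EtCoh.Gm X)))
    (h3 : Function.Injective (edge (EtCoh.pullPushAdj f)
      (EtCoh.const (Spec (CommRingCat.of K)) ℤ) (EtCoh.Gm X) 3))
    (ξ : HH (SGA7.bcField Ω f) (EtCoh.Gm (SGA7.bcField Ω f)) 2)
    (hξ : ∀ σ : Ω ≃ₐ[K] Ω, HHmap (gmp (SGA7.twistAut Ω f σ)) 2 (hp (SGA7.twistAut Ω f σ) _ 2 ξ) = ξ) :
    ∃ y : HH X (EtCoh.Gm X) 2,
      HHmap (gmp (pullback.fst f (xi K Ω))) 2 (hp (pullback.fst f (xi K Ω)) _ 2 y) = ξ := by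
  have i1 : Algebra.IsSeparable K Ω := IsSepClosure.separable
  have hiso := isIso_gmp_fst (K := K) (Ω := Ω) f
  let x : HT f (EtCoh.Gm X) (xi K Ω) 2 := HHmap (inv (gmp (pullback.fst f (xi K Ω)))) 2 ξ
  have hx : HHmap (gmp (pullback.fst f (xi K Ω))) 2 x = ξ := by
    change HHmap _ 2 (HHmap _ 2 ξ) = ξ
    rw [← HHmap_comp, IsIso.inv_hom_id, HHmap_id]
  obtain ⟨y, hy⟩ := InvLift.exists_hp_eq f (EtCoh.Gm X) h1 h3 x (by
    intro σ
    have e1 := gmp_rs f (Spec.map (CommRingCat.ofHom (σ : Ω →+* Ω))) (spec_map_comp σ) 2 x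
    rw [hx] at e1
    have e2 := hξ σ
    rw [twistAut_eq f σ] at e2
    have e3 : HHmap (gmp (pullback.fst f (xi K Ω))) 2
      (rs f (EtCoh.Gm X) (Spec.map (CommRingCat.ofHom (σ : Ω →+* Ω))) (spec_map_comp σ) 2 x) =
        HHmap (gmp (pullback.fst f (xi K Ω))) 2 x := e1.trans (e2.trans hx.symm)
    have e4 := congrArg (HHmap (inv (gmp (pullback.fst f (xi K Ω)))) 2) e3
    rwa [← HHmap_comp, ← HHmap_comp, IsIso.hom_inv_id, HHmap_id, HHmap_id] at e4)
  exact ⟨y, by rw [hy, hx]⟩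

/-- **Galois invariant Brauer classes lift.** -/
theorem brInv_le_range [∀ ⦃Y Z : Scheme.{u}⦄ (g : Y ⟶ Z), PreservesFiniteLimits (EtCoh.pull g)]
    (h1 : IsZero ((EtCoh.Rpush f 1).obj (EtCoh.Gm X)))
    (h3 : Function.Injective (edge (EtCoh.pullPushAdj f)
      (EtCoh.const (Spec (CommRingCat.of K)) ℤ) (EtCoh.Gm X) 3)) :
    Dix.brInv Ω f ≤
      (EtLim.HGmPull (pullback.fst f (Spec.map (CommRingCat.ofHom (algebraMap K Ω)))) 2).range := by
  intro ξ hξ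
  rw [Dix.mem_brInv_iff] at hξ
  obtain ⟨y, hy⟩ := brInv_le_range_aux f h1 h3 ξ (fun σ =>
    (Topos.H571.GmPull.HGmPull_eq (SGA7.twistAut Ω f σ) 2 ξ).symm.trans (hξ σ))
  exact ⟨y, (Topos.H571.GmPull.HGmPull_eq (pullback.fst f (xi K Ω)) 2 y).trans hy⟩

end Groth.Agent.Dix.K282.BrLift
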