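import Groth.Agent.Dix.K282.PMap
import Groth.Agent.Dix.K282.BrLift
import Groth.Agent.Etbc.H228.LowEdge

/-!
# Vanishing of `R^n f_* G_m` over a field from vanishing over the separable closure
-/

set_option autoImplicit false
universe u
open CategoryTheory CategoryTheory.Limits AlgebraicGeometry Opposite Abelian
open scoped Groth.Agent.Etcore.EtInst
open Groth.Agent.Etcore.EtInst

namespace Groth.Agent.Dix.K282.VanGm

open Groth.Agent.Etcore Groth.Agent.Etcore.HQ Groth.Agent.Etcore.HpullCalc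
open Groth.Agent.Etcore.RpushLoc
open Groth.Agent.Etcore.PullCoh Groth.Agent.Etcore.GmFun
open Groth.Agent.Lefpen.H365.FieldPts Groth.Agent.Lefpen.H712.HT Groth.Agent.Lefpen.H365.B1
open Groth.Agent.Lefpen.H365.Ev Groth.Agent.Lefpen.H365.Ev2
open Groth.Agent.Dix.K282.PMap

attribute [local instance] Groth.Agent.S0101.result

variable {K Ω : Type u} [Field K] [Field Ω] [Algebra K Ω] [Algebra.IsSeparable K Ω] [IsSepClosed Ω]
  {X : Scheme.{u}} (f : X ⟶ Spec (CommRingCat.of K)) [QuasiCompact f] [QuasiSeparated f]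

/-- `R^{n+1} f_* F = 0` if `H^{n+1}(X_Ω, F) = 0`. -/
theorem isZero_Rpush (F : EtCoh.Ab X) (n : ℕ) (h : ∀ x : HT f F (xi K Ω) (n + 1), x = 0) :
    IsZero ((EtCoh.Rpush f (n + 1)).obj F) := by
  rw [isZero_Rpush_iff]
  intro V x v
  obtain ⟨r, hr, hx⟩ := exists_lift (Ω := Ω) v
  obtain ⟨M, k, hk, h0⟩ := exists_res_eq_zero f F (n + 1) r hr x (h _)
  refine ⟨VL K Ω M, k, rL M default, ?_, h0⟩
  rw [← hx, ← hk]
  rfl

/-- `R^{n+1} f_* G_m = 0` if `H^{n+1}(X_Ω, G_m) = 0`. -/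
theorem isZero_Rpush_Gm (n : ℕ)
    (h : ∀ x : HH (pullback f (xi K Ω)) (EtCoh.Gm (pullback f (xi K Ω))) (n + 1), x = 0) :
    IsZero ((EtCoh.Rpush f (n + 1)).obj (EtCoh.Gm X)) := by
  refine isZero_Rpush (Ω := Ω) f (EtCoh.Gm X) n fun x => ?_
  have hiso := BrLift.isIso_gmp_fst (K := K) (Ω := Ω) f
  have h1 : HHmap (gmp (pullback.fst f (xi K Ω))) (n + 1) x = 0 := h _
  have h2 := congrArg (HHmap (inv (gmp (pullback.fst f (xi K Ω)))) (n + 1)) h1
  rwa [← HHmap_comp, IsIso.hom_inv_id, HHmap_id, map_zero] at h2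

/-- The edge map is injective in degree `n + 1` if `H^q(X_Ω, G_m) = 0` for `1 ≤ q ≤ n`. -/
theorem eH_injective (n : ℕ) (h : ∀ q, q < n →
    ∀ x : HH (pullback f (xi K Ω)) (EtCoh.Gm (pullback f (xi K Ω))) (q + 1), x = 0) :
    Function.Injective (eH f (EtCoh.Gm X) (n + 1)) := by
  rw [← edge_injective_iff]
  refine (Etbc.H228.LowEdge.psi_low (EtCoh.pullPushAdj f) (EtCoh.const _ ℤ) n (EtCoh.Gm X) ?_).2
  intro q h1 h2
  obtain ⟨q, rfl⟩ : ∃ m, q = m + 1 := ⟨q - 1, by omega⟩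
  exact isZero_Rpush_Gm (Ω := Ω) f q (h q (by omega))

end Groth.Agent.Dix.K282.VanGm
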