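import Groth.Agent.Dix.K282.AlgStk
import Groth.Agent.Dix.K282.VanGm
import Groth.Agent.Dix.PointExact

/-!
# Injectivity of the edge map `H^n(K, f_* G_m) ⟶ H^n(X, G_m)` from test objects
-/

set_option autoImplicit false
universe v u
open CategoryTheory CategoryTheory.Limits AlgebraicGeometry Opposite Abelian TensorProduct
open scoped Groth.Agent.Etcore.EtInst
open Groth.Agent.Etcore.EtInst

namespace Groth.Agent.Dix.K282.Assemble

open Groth.Agent.Etcore Groth.Agent.Etcore.PullCoh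
open Groth.Agent.Lefpen.H365.FieldPts
open Groth.Agent.Dix.K282.StkData Groth.Agent.Dix.K282.PMap Groth.Agent.Dix.K282.StkGm
  Groth.Agent.Dix.K282.AlgStk

section Split

variable {Y : Scheme.{u}} {F G : EtCoh.Ab Y} (φ : F ⟶ G) (s : G ⟶ F) (h : s ≫ φ = 𝟙 G) (n : ℕ)

theorem HHmap_zero (x : HH Y F n) : HHmap (0 : F ⟶ G) n x = 0 := by
  rw [HHmap_apply, Ext.mk₀_zero, Ext.comp_zero]

theorem HHmap_add (φ ψ : F ⟶ G) (x : HH Y F n) : HHmap (φ + ψ) n x = HHmap φ n x + HHmap ψ n x := by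
  rw [HHmap_apply, HHmap_apply, HHmap_apply, Ext.mk₀_add, Ext.comp_add]

/-- The retraction onto the kernel of a split epimorphism. -/
noncomputable def retr : F ⟶ kernel φ :=
  kernel.lift φ (𝟙 F - φ ≫ s) (by
    rw [Preadditive.sub_comp, Category.assoc, h, Category.comp_id, Category.id_comp, sub_self])

theorem ι_retr : kernel.ι φ ≫ retr φ s h = 𝟙 _ := by
  rw [← cancel_mono (kernel.ι φ), Category.assoc, retr, kernel.lift_ι, Preadditive.comp_sub,
    Category.comp_id, kernel.condition_assoc, zero_comp, sub_zero, Category.id_comp]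

theorem retr_ι : retr φ s h ≫ kernel.ι φ + φ ≫ s = 𝟙 F := by
  rw [retr, kernel.lift_ι, sub_add_cancel]

include h in
theorem map_ker_injective : Function.Injective (HHmap (kernel.ι φ) n) := by
  intro x y hxy
  have h1 := congrArg (HHmap (retr φ s h) n) hxy
  rwa [← HHmap_comp, ← HHmap_comp, ι_retr, HHmap_id, HHmap_id] at h1

include h in
theorem exists_map_ker (x : HH Y F n) (hx : HHmap φ n x = 0) : ∃ y, HHmap (kernel.ι φ) n y = x := by
  refine ⟨HHmap (retr φ s h) n x, ?_⟩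
  have h1 : HHmap (retr φ s h ≫ kernel.ι φ + φ ≫ s) n x = x := by rw [retr_ι, HHmap_id]
  rw [HHmap_add, HHmap_comp, HHmap_comp, hx, map_zero, add_zero] at h1
  exact h1

end Split

theorem exists_kernel_section {Y : Scheme.{u}} {F G : EtCoh.Ab Y} (φ : F ⟶ G) (V : Y.Etale)
    (s : EtCoh.sect F V) (hs : φ.hom.app (op V) s = 0) :
    ∃ t : EtCoh.sect (kernel φ) V, (kernel.ι φ).hom.app (op V) t = s :=
  Dix.PointExact.exists_of_exact (T := ShortComplex.mk (kernel.ι φ) φ (kernel.condition φ))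
    (ShortComplex.exact_kernel φ) s hs

theorem app_eq_zero {Y : Scheme.{u}} {F G : EtCoh.Ab Y} (i : F ⟶ G) [Mono i] (V : Y.Etale)
    (s : EtCoh.sect F V) (hs : i.hom.app (op V) s = 0) : s = 0 := by
  have : Mono i.hom := inferInstanceAs (Mono ((sheafToPresheaf _ _).map i))
  have h1 : Mono (i.hom.app (op V)) := inferInstance
  rw [AddCommGrpCat.mono_iff_injective] at h1
  exact h1 (hs.trans (map_zero _).symm)

variable {K Ω : Type u} [Field K] [Field Ω] [Algebra K Ω] [Algebra.IsSeparable K Ω] [IsSepClosed Ω]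

section Family

variable {G : EtCoh.Ab (Spec (CommRingCat.of K))} {S' : Type v} [AddCommGroup S'] (E' : Stk Ω G S') (n : ℕ)

/-- Joint injectivity of a family of maps to `G` which is jointly surjective on stalks. -/
theorem eq_zero_of_family : ∀ (r : ℕ) (F : EtCoh.Ab (Spec (CommRingCat.of K))) (S : Type v)
    [AddCommGroup S] (E : Stk Ω F S) (κ : Fin r → (F ⟶ G)) (ψ : Fin r → (S →+ S'))
    (_ : ∀ (i : Fin r) (V : (Spec (CommRingCat.of K)).Etale) (r : Spec (CommRingCat.of Ω) ⟶ V.left)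
      (hr : r ≫ V.hom = xi K Ω) (s : EtCoh.sect F V),
        E'.ev V r hr ((κ i).hom.app (op V) s) = ψ i (E.ev V r hr s))
    (_ : ∀ t : Fin r → S', ∃ s : S, ∀ i, ψ i s = t i)
    (_ : ∀ (N : EtCoh.Ab (Spec (CommRingCat.of K))) (ι : N ⟶ F) (T : Type v) [AddCommGroup T]
      (EN : Stk Ω N T) (θ : T →+ S), Function.Injective θ →
      (∀ (V : (Spec (CommRingCat.of K)).Etale) (r : Spec (CommRingCat.of Ω) ⟶ V.left)
        (hr : r ≫ V.hom = xi K Ω) (s : EtCoh.sect N V),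
          E.ev V r hr (ι.hom.app (op V) s) = θ (EN.ev V r hr s)) →
      (∀ t i, ψ i (θ t) = 0) → ∀ x : HH _ N n, x = 0)
    (y : HH _ F n), (∀ i, HHmap (κ i) n y = 0) → y = 0
  | 0, F, S, _, E, κ, ψ, _, _, hN, y, _ =>
    hN F (𝟙 F) S E (AddMonoidHom.id S) (fun _ _ h => h) (fun _ _ _ _ => rfl)
      (fun _ i => i.elim0) y
  | r + 1, F, S, _, E, κ, ψ, hκ, hsurj, hN, y, hy => by
    have hepi : Epi (κ 0) := epi_of_surjective E E' (κ 0) (ψ 0) (hκ 0) (fun u => by
      obtain ⟨s, hs⟩ := hsurj (Fin.cons u (fun _ => 0))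
      exact ⟨s, hs 0⟩)
    have hS : (ShortComplex.mk (kernel.ι (κ 0)) (κ 0) (kernel.condition (κ 0))).ShortExact :=
      { exact := ShortComplex.exact_kernel (κ 0)
        mono_f := inferInstanceAs (Mono (kernel.ι (κ 0)))
        epi_g := hepi }
    let E₁ : Stk Ω (kernel (κ 0)) (ψ 0).ker := Stk.ker E E' (κ 0) (ψ 0) (hκ 0) (kernel.condition (κ 0))
      (fun V s hs => app_eq_zero (kernel.ι (κ 0)) V s hs) (exists_kernel_section (κ 0))
    have hE₁ : ∀ (V : (Spec (CommRingCat.of K)).Etale) (r : Spec (CommRingCat.of Ω) ⟶ V.left)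
      (hr : r ≫ V.hom = xi K Ω) (s : EtCoh.sect (kernel (κ 0)) V),
        ((E₁.ev V r hr s : (ψ 0).ker) : S) = E.ev V r hr ((kernel.ι (κ 0)).hom.app (op V) s) :=
      fun _ _ _ _ => rfl
    obtain ⟨y₁, hy₁⟩ := Ext.covariant_sequence_exact₂ _ hS y (hy 0)
    have hy₁' : HHmap (kernel.ι (κ 0)) n y₁ = y := hy₁
    have h0 : y₁ = 0 := by
      refine eq_zero_of_family r (kernel (κ 0)) (ψ 0).ker E₁ (fun i => kernel.ι (κ 0) ≫ κ i.succ)
        (fun i => (ψ i.succ).comp (ψ 0).ker.subtype) ?_ ?_ ?_ y₁ ?_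
      · intro i V r hr s
        rw [map_comp_app, hκ]
        rfl
      · intro t
        obtain ⟨s, hs⟩ := hsurj (Fin.cons 0 t)
        exact ⟨⟨s, hs 0⟩, fun i => hs i.succ⟩
      · intro N ι T _ EN θ hθ hev h0 x
        refine hN N (ι ≫ kernel.ι (κ 0)) T EN ((ψ 0).ker.subtype.comp θ)
          (fun a b hab => hθ (Subtype.ext hab)) ?_ ?_ x
        · intro V r hr s
          rw [map_comp_app, ← hE₁, hev]
          rfl
        · intro t i
          refine Fin.cases ?_ (fun i => ?_) i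
          · exact (θ t).2
          · exact h0 t i
      · intro i
        rw [HHmap_comp, hy₁', hy]
    rw [← hy₁', h0, map_zero]

end Family

section Test

variable {A B C : Type u} [CommRing A] [CommRing B] [CommRing C] [Algebra K A] [Algebra K B] [Algebra K C]

/-- The kernel of restriction along a section. -/
noncomputable abbrev KK (z : B →ₐ[K] C) : EtCoh.Ab (Spec (CommRingCat.of K)) :=
  kernel (Pmap (sm z) (sp K B) (sp K C) (sm_sp z))

omit [Algebra.IsSeparable K Ω] [IsSepClosed Ω] in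
theorem Pmap_split (z : B →ₐ[K] C) (ρ : C →ₐ[K] B) (h : z.comp ρ = AlgHom.id K C) :
    Pmap (sm ρ) (sp K C) (sp K B) (sm_sp ρ) ≫ Pmap (sm z) (sp K B) (sp K C) (sm_sp z) = 𝟙 _ := by
  have h1 : sm (AlgHom.id K C) = 𝟙 (Spec (CommRingCat.of C)) := Spec.map_id _
  have h2 : 𝟙 (Spec (CommRingCat.of C)) ≫ sp K C = sp K C := Category.id_comp _
  rw [← Pmap_id (sp K C) h2]
  exact Pmap_comp (sm z) (sm ρ) (sp K C) (sp K B) (sp K C) (sm_sp ρ) (sm_sp z) _
    ((sm_sm ρ z _ h).trans h1) h2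

/-- The map on kernels. -/
noncomputable def kap {C' : Type u} [CommRing C'] [Algebra K C'] (z : B →ₐ[K] C) (z' : A →ₐ[K] C')
    (j : A →ₐ[K] B) (c : C' →ₐ[K] C) (h : z.comp j = c.comp z') : KK z' ⟶ KK z :=
  kernel.lift _ (kernel.ι _ ≫ Pmap (sm j) (sp K A) (sp K B) (sm_sp j)) (by
    rw [Category.assoc, Pmap_comp (sm z) (sm j) (sp K A) (sp K B) (sp K C) (sm_sp j) (sm_sp z)
      (sm (z.comp j)) (sm_sm _ _ _ rfl) (sm_sp _)]
    have h1 := Pmap_comp (sm c) (sm z') (sp K A) (sp K C') (sp K C) (sm_sp z') (sm_sp c)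
      (sm (z.comp j)) (sm_sm _ _ _ h.symm) (sm_sp _)
    rw [← h1, kernel.condition_assoc, zero_comp])

theorem kap_ι {C' : Type u} [CommRing C'] [Algebra K C'] (z : B →ₐ[K] C) (z' : A →ₐ[K] C')
    (j : A →ₐ[K] B) (c : C' →ₐ[K] C) (h : z.comp j = c.comp z') :
    kap z z' j c h ≫ kernel.ι _ = kernel.ι _ ≫ Pmap (sm j) (sp K A) (sp K B) (sm_sp j) :=
  kernel.lift_ι _ _ _

/-- A class on the kernel which dies on `X` dies on the kernel of the test object. -/
theorem kap_eq_zero {C' : Type u} [CommRing C'] [Algebra K C'] (z : B →ₐ[K] C) (z' : A →ₐ[K] C')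
    (j : A →ₐ[K] B) (c : C' →ₐ[K] C) (h : z.comp j = c.comp z') (ρ : C →ₐ[K] B)
    (hρ : z.comp ρ = AlgHom.id K C) (n : ℕ)
    (hinj : Function.Injective (eH (sp K B) (EtCoh.Gm (Spec (CommRingCat.of B))) n))
    (y : HH _ (KK z') n)
    (hy : eH (sp K A) (EtCoh.Gm (Spec (CommRingCat.of A))) n (HHmap (kernel.ι _) n y) = 0) :
    HHmap (kap z z' j c h) n y = 0 := by
  apply map_ker_injective _ _ (Pmap_split z ρ hρ) n
  rw [map_zero, ← HHmap_comp, kap_ι, HHmap_comp]
  apply hinj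
  rw [map_zero, eH_Pmap, hy, map_zero]

variable (Ω)

/-- The stalk of the kernel. -/
noncomputable def stkK (z : B →ₐ[K] C) : Stk Ω (KK z) (mA Ω z).ker :=
  Stk.ker (stkA Ω B) (stkA Ω C) _ (mA Ω z) (stkA_map Ω z) (kernel.condition _)
      (fun V s hs => app_eq_zero (kernel.ι _) V s hs) (exists_kernel_section _)

theorem stkK_ev (z : B →ₐ[K] C) (V : (Spec (CommRingCat.of K)).Etale)
    (r : Spec (CommRingCat.of Ω) ⟶ V.left) (hr : r ≫ V.hom = xi K Ω) (s : EtCoh.sect (KK z) V) :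
    (((stkK Ω z).ev V r hr s : (mA Ω z).ker) : Additive (B ⊗[K] Ω)ˣ) =
      (stkA Ω B).ev V r hr ((kernel.ι _ : KK z ⟶ _).hom.app (op V) s) := rfl

theorem stkK_kap {C' : Type u} [CommRing C'] [Algebra K C'] (z : B →ₐ[K] C) (z' : A →ₐ[K] C')
    (j : A →ₐ[K] B) (c : C' →ₐ[K] C) (h : z.comp j = c.comp z')
    (V : (Spec (CommRingCat.of K)).Etale)
    (r : Spec (CommRingCat.of Ω) ⟶ V.left) (hr : r ≫ V.hom = xi K Ω) (s : EtCoh.sect (KK z') V) :
    (((stkK Ω z).ev V r hr ((kap z z' j c h).hom.app (op V) s) : (mA Ω z).ker) :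
      Additive (B ⊗[K] Ω)ˣ) = mA Ω j ((stkK Ω z').ev V r hr s : (mA Ω z').ker) := by
  rw [stkK_ev, stkK_ev, ← map_comp_app, kap_ι, map_comp_app, stkA_map]

end Test

end Groth.Agent.Dix.K282.Assemble
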