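import Mathlib.RingTheory.Etale.Field
import Mathlib.FieldTheory.IsSepClosed
import Mathlib.LinearAlgebra.TensorProduct.Pi

/-!
# Splitting of finite étale algebras over a separably closed field
-/

set_option autoImplicit false
universe u
open TensorProduct

namespace Groth.Agent.Dix.K282.EtSplit

variable (K Ω L : Type u) [Field K] [Field Ω] [Algebra K Ω] [CommRing L] [Algebra K L]

/-- A family of homomorphisms `L ⟶ Ω` splitting `L`. -/
structure Fam (n : ℕ) where
  /-- the homomorphisms -/
  s : Fin n → (L →ₐ[K] Ω)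
  bij : Function.Bijective (fun (x : Ω ⊗[K] L) (i : Fin n) =>
    Algebra.TensorProduct.productMap (AlgHom.id K Ω) (s i) x)

theorem exists_fam [Algebra.Etale K L] [IsSepClosed Ω] : ∃ n : ℕ, Nonempty (Fam K Ω L n) := by
  have h1 : Algebra.Etale Ω (Ω ⊗[K] L) := inferInstance
  obtain ⟨I, _, Ai, _, _, e, h2⟩ := (Algebra.Etale.iff_exists_algEquiv_prod Ω (Ω ⊗[K] L)).1 h1
  have h3 : ∀ i, Function.Bijective (algebraMap Ω (Ai i)) := fun i => by
    have := (h2 i).2
    exact IsSepClosed.algebraMap_bijective _ _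
  let a : ∀ i, Ω ≃ₐ[Ω] Ai i := fun i => AlgEquiv.ofBijective (Algebra.ofId Ω (Ai i)) (h3 i)
  obtain ⟨n, ⟨c⟩⟩ := Finite.exists_equiv_fin I
  let e1 : (Ω ⊗[K] L) ≃ₐ[Ω] (I → Ω) := e.trans (AlgEquiv.piCongrRight fun i => (a i).symm)
  let s : Fin n → (L →ₐ[K] Ω) := fun i =>
    (((Pi.evalAlgHom Ω (fun _ : I => Ω) (c.symm i)).restrictScalars K).comp
      ((e1 : (Ω ⊗[K] L) →ₐ[Ω] (I → Ω)).restrictScalars K)).comp Algebra.TensorProduct.includeRight
  have hs : ∀ i l, s i l = e1 (1 ⊗ₜ l) (c.symm i) := fun i l => rfl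
  have h4 : ∀ x i, Algebra.TensorProduct.productMap (AlgHom.id K Ω) (s i) x = e1 x (c.symm i) := by
    intro x i
    induction x using TensorProduct.induction_on with
    | zero => simp only [map_zero, Pi.zero_apply]
    | add x y hx hy => simp only [map_add, Pi.add_apply, hx, hy]
    | tmul r l =>
      rw [Algebra.TensorProduct.productMap_apply_tmul, hs]
      have h5 : r ⊗ₜ[K] l = r • ((1 : Ω) ⊗ₜ[K] l) := by
        rw [smul_tmul', smul_eq_mul, mul_one]
      rw [h5, map_smul]
      rfl
  refine ⟨n, ⟨⟨s, ?_⟩⟩⟩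
  have h5 : (fun (x : Ω ⊗[K] L) (i : Fin n) =>
      Algebra.TensorProduct.productMap (AlgHom.id K Ω) (s i) x) =
      (fun (g : I → Ω) (i : Fin n) => g (c.symm i)) ∘ e1 := by
    funext x i
    exact h4 x i
  rw [h5]
  refine Function.Bijective.comp ?_ e1.bijective
  exact (Equiv.arrowCongr c (Equiv.refl Ω)).bijective

variable {K Ω L}

/-- The evaluation at a homomorphism `L ⟶ Ω`. -/
noncomputable def ev (R : Type u) [CommRing R] [Algebra K R] [Algebra Ω R] [IsScalarTower K Ω R]
    (s : L →ₐ[K] Ω) : R ⊗[K] L →ₐ[K] R :=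
  Algebra.TensorProduct.productMap (AlgHom.id K R) ((IsScalarTower.toAlgHom K Ω R).comp s)

section

variable (R : Type u) [CommRing R] [Algebra K R] [Algebra Ω R] [IsScalarTower K Ω R]

theorem ev_tmul (s : L →ₐ[K] Ω) (r : R) (l : L) : ev R s (r ⊗ₜ l) = r * algebraMap Ω R (s l) :=
  Algebra.TensorProduct.productMap_apply_tmul _ _ _ _

theorem ev_map {R' : Type u} [CommRing R'] [Algebra K R'] [Algebra Ω R'] [IsScalarTower K Ω R']
    (φ : R →ₐ[Ω] R') (s : L →ₐ[K] Ω) (x : R ⊗[K] L) :
    ev R' s (Algebra.TensorProduct.map (φ.restrictScalars K) (AlgHom.id K L) x) = φ (ev R s x) := by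
  induction x using TensorProduct.induction_on with
  | zero => simp only [map_zero]
  | add x y hx hy => simp only [map_add, hx, hy]
  | tmul r l =>
    rw [Algebra.TensorProduct.map_tmul, ev_tmul, ev_tmul, map_mul, AlgHom.commutes]
    rfl

variable {n : ℕ} (F : Fam K Ω L n)

theorem ev_bijective : Function.Bijective (fun (x : R ⊗[K] L) (i : Fin n) => ev R (F.s i) x) := by
  classical
  let F₀ : (Ω ⊗[K] L) →ₗ[Ω] (Fin n → Ω) :=
    { toFun := fun (x : Ω ⊗[K] L) (i : Fin n) =>
        Algebra.TensorProduct.productMap (AlgHom.id K Ω) (F.s i) x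
      map_add' := fun x y => by
        funext i
        rw [map_add]
        rfl
      map_smul' := fun c x => by
        funext i
        rw [Algebra.smul_def, map_mul, Algebra.TensorProduct.algebraMap_apply]
        change Algebra.TensorProduct.productMap _ _ (c ⊗ₜ 1) * _ = c * _
        rw [Algebra.TensorProduct.productMap_apply_tmul, map_one, mul_one]
        rfl }
  have hF₀ : ∀ c l i, F₀ (c ⊗ₜ l) i = c * F.s i l := fun c l i =>
    Algebra.TensorProduct.productMap_apply_tmul _ _ _ _
  let E₀ : (Ω ⊗[K] L) ≃ₗ[Ω] (Fin n → Ω) := LinearEquiv.ofBijective F₀ F.bij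
  let E : R ⊗[K] L ≃ₗ[R] (Fin n → R) :=
    (AlgebraTensorModule.cancelBaseChange K Ω R R L).symm ≪≫ₗ
      (AlgebraTensorModule.congr (LinearEquiv.refl R R) E₀) ≪≫ₗ
      (TensorProduct.piScalarRight Ω R R (Fin n))
  have hE : (fun (x : R ⊗[K] L) (i : Fin n) => ev R (F.s i) x) = E := by
    funext x
    induction x using TensorProduct.induction_on with
    | zero =>
      rw [map_zero]
      funext i
      exact map_zero _
    | add x y hx hy =>
      rw [map_add, ← hx, ← hy]
      funext i
      exact map_add _ _ _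
    | tmul r l =>
      have h1 : (AlgebraTensorModule.cancelBaseChange K Ω R R L).symm (r ⊗ₜ l) = r ⊗ₜ ((1 : Ω) ⊗ₜ l) := by
        rw [LinearEquiv.symm_apply_eq, AlgebraTensorModule.cancelBaseChange_tmul, one_smul]
      change _ = TensorProduct.piScalarRight Ω R R (Fin n)
        (AlgebraTensorModule.congr (LinearEquiv.refl R R) E₀
          ((AlgebraTensorModule.cancelBaseChange K Ω R R L).symm (r ⊗ₜ l)))
      rw [h1, AlgebraTensorModule.congr_tmul]
      rw [TensorProduct.piScalarRight_apply, TensorProduct.piScalarRightHom_tmul]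
      funext i
      change ev R (F.s i) (r ⊗ₜ l) = (F₀ (1 ⊗ₜ l) i) • r
      rw [ev_tmul, hF₀, one_mul, Algebra.smul_def, mul_comm]
  rw [hE]
  exact E.bijective

theorem ev_injective {x y : R ⊗[K] L} (h : ∀ i, ev R (F.s i) x = ev R (F.s i) y) : x = y :=
  (ev_bijective R F).1 (funext h)

theorem exists_ev (f : Fin n → R) : ∃ x : R ⊗[K] L, ∀ i, ev R (F.s i) x = f i := by
  obtain ⟨x, hx⟩ := (ev_bijective R F).2 f
  exact ⟨x, fun i => congrFun hx i⟩

include F in
theorem exists_ev_unit (f : Fin n → Rˣ) :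
    ∃ x : (R ⊗[K] L)ˣ, ∀ i, ev R (F.s i) (x : R ⊗[K] L) = f i := by
  obtain ⟨x, hx⟩ := exists_ev R F fun i => (f i : R)
  obtain ⟨y, hy⟩ := exists_ev R F fun i => ((f i)⁻¹ : Rˣ)
  refine ⟨⟨x, y, ev_injective R F fun i => ?_, ev_injective R F fun i => ?_⟩, hx⟩
  · rw [map_mul, hx, hy, map_one, Units.mul_inv]
  · rw [map_mul, hx, hy, map_one, Units.inv_mul]

end

theorem Fam.s_injective {n : ℕ} (F : Fam K Ω L n) : Function.Injective F.s := by
  intro i j hij
  by_contra hne
  obtain ⟨x, hx⟩ := F.bij.2 (Pi.single i 1)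
  have h1 := congrFun hx i
  have h2 := congrFun hx j
  simp only at h1 h2
  rw [← hij, h1, Pi.single_eq_same, Pi.single_eq_of_ne (Ne.symm hne)] at h2
  exact one_ne_zero h2

section Diag

open Algebra.FormallyUnramified

variable [Algebra.FormallyUnramified K L] [Algebra.EssFiniteType K L]

variable (K L) in
/-- The diagonal idempotent. -/
theorem exists_diag : ∃ δ : L ⊗[K] L, δ * δ = δ ∧
    (∀ (Ω : Type u) [Field Ω] [Algebra K Ω] (s : L →ₐ[K] Ω),
      Algebra.TensorProduct.productMap s s δ = 1) ∧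
    ∀ (Ω : Type u) [Field Ω] [Algebra K Ω] (s t : L →ₐ[K] Ω), s ≠ t →
      Algebra.TensorProduct.productMap s t δ = 0 := by
  have h1 : ∀ x : L, (1 ⊗ₜ x) * elem K L = (x ⊗ₜ 1) * elem K L := fun x => one_tmul_mul_elem x
  have h2 : Algebra.TensorProduct.lmul' K (elem K L) = 1 := by
    exact lmul_elem
  refine ⟨elem K L, ?_, ?_, ?_⟩
  · have h3 : ∀ y : L ⊗[K] L, y * elem K L = (Algebra.TensorProduct.lmul' K y ⊗ₜ 1) * elem K L := by
      intro y
      induction y using TensorProduct.induction_on with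
      | zero => simp
      | add x y hx hy => rw [add_mul, hx, hy, map_add, add_tmul, add_mul]
      | tmul x y =>
        have h4 : x ⊗ₜ[K] y = (x ⊗ₜ 1) * (1 ⊗ₜ y) := by
          rw [Algebra.TensorProduct.tmul_mul_tmul, mul_one, one_mul]
        rw [h4, mul_assoc, h1, ← mul_assoc, map_mul]
        simp
    rw [h3, h2]
    exact one_mul _
  · intro Ω _ _ s
    have h3 : ∀ y : L ⊗[K] L, Algebra.TensorProduct.productMap s s y = s (Algebra.TensorProduct.lmul' K y) := by
      intro y
      induction y using TensorProduct.induction_on with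
      | zero => simp
      | add x y hx hy => rw [map_add, hx, hy, map_add, map_add]
      | tmul x y =>
        rw [Algebra.TensorProduct.productMap_apply_tmul]
        simp
    rw [h3, h2, map_one]
  · intro Ω _ _ s t hst
    obtain ⟨l, hl⟩ : ∃ l, s l ≠ t l := by
      by_contra h
      push Not at h
      exact hst (AlgHom.ext h)
    have h3 := congrArg (Algebra.TensorProduct.productMap s t) (h1 l)
    rw [map_mul, map_mul, Algebra.TensorProduct.productMap_apply_tmul,
      Algebra.TensorProduct.productMap_apply_tmul, map_one, map_one, one_mul, mul_one] at h3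
    by_contra h4
    exact hl (mul_right_cancel₀ h4 h3).symm

end Diag

end Groth.Agent.Dix.K282.EtSplit
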