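import Groth.Agent.Vancyc.H681.EdgeKerFin
import Groth.Agent.Dix.K280.EdgeEt
import Groth.Agent.Dix.K282.BrLift

/-!
# The edge map of a direct image and change of base (helper282)

* `HGmPull_edge_eq_zero`: for a commutative square `g ≫ h = h' ≫ p`, classes of `H^n(X, h_* G_m)` die in
  `H^n(U', G_m)` if `H^n(X', h'_* G_m) = 0`;
* `exists_edge_of_ker`: `u : U ⟶ X` over a field `k`, `R¹ u_* G_m = 0`: a class of `H²(U, G_m)` which dies over
  `k^s` comes from `H²(X, u_* G_m)`.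
-/

set_option autoImplicit false
universe u
open CategoryTheory CategoryTheory.Limits AlgebraicGeometry Opposite Abelian
open scoped Groth.Agent.Etcore.EtInst
open Groth.Agent.Etcore.EtInst

namespace Groth.Agent.Dix.K282.EtaBc

open Groth.Agent.Etcore Groth.Agent.Etcore.HpullCalc Groth.Agent.Etcore.PullCoh Groth.Agent.Etcore.GmFun
open Groth.Agent.Etcore.HQ Groth.Agent.Etcore.RpushLoc Groth.Agent.Etcore.HpVia
open Groth.Agent.Lefpen.H365.FieldPts Groth.Agent.Lefpen.H712.HT Groth.Agent.Lefpen.H365.Ev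
  Groth.Agent.Lefpen.H365.Ev2 Groth.Agent.Lefpen.H365.B1

section Bc

variable {X X' U U' : Scheme.{u}} (h : U ⟶ X) (p : X' ⟶ X) (g : U' ⟶ U) (h' : U' ⟶ X')

theorem hp_hp_square (w : g ≫ h = h' ≫ p)
    [PreservesFiniteLimits (EtCoh.pull h)] [PreservesFiniteLimits (EtCoh.pull g)]
    [PreservesFiniteLimits (EtCoh.pull h')] [PreservesFiniteLimits (EtCoh.pull p)]
    [PreservesFiniteLimits (EtCoh.pull (h' ≫ p))] (G : EtCoh.Ab X) (n : ℕ) (a : HH X G n) :
    HHmap (th g h (h' ≫ p) w G) n (hp g _ n (hp h G n a)) =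
      HHmap (th h' p (h' ≫ p) rfl G) n (hp h' _ n (hp p G n a)) := by
  rw [← hpVia_eq, ← hpVia_eq, hpVia_hp, hpVia_hp]

/-- If `H^n(X', h'_* F') = 0`, classes of `H^n(X, h_* F)` die in `H^n(U', F')` for every `φ : g^* F ⟶ F'`. -/
theorem map_hp_edge_eq_zero (w : g ≫ h = h' ≫ p)
    [PreservesFiniteLimits (EtCoh.pull h)] [PreservesFiniteLimits (EtCoh.pull g)]
    [PreservesFiniteLimits (EtCoh.pull h')] [PreservesFiniteLimits (EtCoh.pull p)]
    [PreservesFiniteLimits (EtCoh.pull (h' ≫ p))] {F : EtCoh.Ab U} {F' : EtCoh.Ab U'}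
    (φ : (EtCoh.pull g).obj F ⟶ F') (n : ℕ) (hsub : Subsingleton (HH X' ((EtCoh.push h').obj F') n))
    (a : HH X ((EtCoh.push h).obj F) n) :
    HHmap φ n (hp g _ n (HHmap ((EtCoh.pullPushAdj h).counit.app F) n (hp h _ n a))) = 0 := by
  rw [hp_map]
  let t := th g h (h' ≫ p) w ((EtCoh.push h).obj F)
  let t' := th h' p (h' ≫ p) rfl ((EtCoh.push h).obj F)
  have h1 : hp g _ n (hp h _ n a) = HHmap (inv t) n (HHmap t' n (hp h' _ n (hp p _ n a))) := by
    have h2 := hp_hp_square h p g h' w ((EtCoh.push h).obj F) n a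
    have h3 := congrArg (HHmap (inv t) n) h2
    rw [← HHmap_comp, IsIso.hom_inv_id, HHmap_id] at h3
    exact h3
  let ω : (EtCoh.pull h').obj ((EtCoh.pull p).obj ((EtCoh.push h).obj F)) ⟶ F' :=
    t' ≫ inv t ≫ (EtCoh.pull g).map ((EtCoh.pullPushAdj h).counit.app F) ≫ φ
  let ψ : (EtCoh.pull p).obj ((EtCoh.push h).obj F) ⟶ (EtCoh.push h').obj F' :=
    (EtCoh.pullPushAdj h').homEquiv _ _ ω
  have h4 : (EtCoh.pull h').map ψ ≫ (EtCoh.pullPushAdj h').counit.app F' = ω := by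
    have h5 := (EtCoh.pullPushAdj h').homEquiv_counit (X := (EtCoh.pull p).obj ((EtCoh.push h).obj F)) (Y := F') (g := ψ)
    rw [← h5]
    exact Equiv.symm_apply_apply _ _
  have h6 : HHmap φ n (HHmap ((EtCoh.pull g).map ((EtCoh.pullPushAdj h).counit.app F)) n (hp g _ n (hp h _ n a))) =
      HHmap ω n (hp h' _ n (hp p _ n a)) := by
    refine (congrArg (fun z => HHmap φ n (HHmap ((EtCoh.pull g).map ((EtCoh.pullPushAdj h).counit.app F)) n z)) h1).trans ?_
    change HHmap φ n (HHmap _ n (HHmap (inv t) n (HHmap t' n _))) = _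
    rw [← HHmap_comp, ← HHmap_comp, ← HHmap_comp]
  rw [h6, ← h4, HHmap_comp, ← hp_map]
  have h7 : HHmap ψ n (hp p _ n a) = 0 := Subsingleton.elim _ _
  rw [h7, map_zero, map_zero]

/-- If `H^n(X', h'_* G_m) = 0`, classes of `H^n(X, h_* G_m)` die in `H^n(U', G_m)`. -/
theorem HGmPull_edge_eq_zero (w : g ≫ h = h' ≫ p)
    [PreservesFiniteLimits (EtCoh.pull h)] [PreservesFiniteLimits (EtCoh.pull g)]
    [PreservesFiniteLimits (EtCoh.pull h')] [PreservesFiniteLimits (EtCoh.pull p)]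
    [PreservesFiniteLimits (EtCoh.pull (h' ≫ p))] (n : ℕ)
    (hsub : Subsingleton (HH X' ((EtCoh.push h').obj (EtCoh.Gm U')) n))
    (a : HH X ((EtCoh.push h).obj (EtCoh.Gm U)) n) :
    EtLim.HGmPull g n (EtLim.HofPush h (EtCoh.Gm U) n a) = 0 :=
  (Topos.H571.GmPull.HGmPull_eq g n _).trans (map_hp_edge_eq_zero h p g h' w (gmp g) n hsub a)

end Bc

section Ker

attribute [local instance] pfl

variable {k ks : Type u} [Field k] [Field ks] [Algebra k ks] [IsSepClosure k ks]
  {X U : Scheme.{u}} (f : X ⟶ Spec (CommRingCat.of k)) (u : U ⟶ X)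

omit [IsSepClosure k ks] in
theorem res_hp_pr (F : EtCoh.Ab X) (n : ℕ) {V W : (Spec (CommRingCat.of k)).Etale} (q : W ⟶ V) (x : HH X F n) :
    res F (mm f q) (mm_pr f q) n (hp (pr f V) F n x) = hp (pr f W) F n x := by
  rw [res_apply, ← hpVia_eq, hpVia_hp]

/-- A class which dies over the separable closure dies over a finite subextension. -/
theorem exists_fin [QuasiCompact f] [QuasiSeparated f] (F : EtCoh.Ab X) (n : ℕ) (x : HH X F n)
    (hx : hp (pullback.fst f (xi k ks)) F n x = 0) :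
    ∃ M : FinSub k ks, hp (pr f (VL k ks M)) F n x = 0 := by
  have i1 : Algebra.IsSeparable k ks := IsSepClosure.separable
  have hr : (xi k ks : Spec (CommRingCat.of ks) ⟶ (EtCoh.top (Spec (CommRingCat.of k))).left) ≫
    (EtCoh.top (Spec (CommRingCat.of k))).hom = xi k ks := InvLift.comp_top _ (xi k ks)
  have e1 := InvLift.ev_hp f F (V := EtCoh.top (Spec (CommRingCat.of k))) (xi k ks) hr n x
  have e2 : ev f F (V := EtCoh.top (Spec (CommRingCat.of k))) (xi k ks) hr n
    (hp (pr f (EtCoh.top (Spec (CommRingCat.of k)))) F n x) = 0 := e1.trans hx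
  obtain ⟨M, q, -, hq⟩ := exists_res_eq_zero f F n (V := EtCoh.top (Spec (CommRingCat.of k))) (xi k ks) hr
    (hp (pr f (EtCoh.top (Spec (CommRingCat.of k)))) F n x) e2
  exact ⟨M, (res_hp_pr f F n q x).symm.trans hq⟩

omit [Field k] [Field ks] [Algebra k ks] [IsSepClosure k ks] in
theorem subsingleton_of_isZero {G : EtCoh.Ab X} (h : IsZero G) (q : ℕ) : Subsingleton (HH X G q) := by
  refine subsingleton_of_forall_eq 0 fun x => ?_
  have h1 : HHmap (𝟙 G) q x = HHmap 0 q x := by rw [h.eq_of_src (𝟙 G) 0]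
  rw [HHmap_id] at h1
  rw [h1, HHmap_apply, Ext.mk₀_zero, Ext.comp_zero]

theorem surjective_VL (M : FinSub k ks) : Surjective (VL k ks M).hom := by
  have h1 : Subsingleton (Spec (CommRingCat.of k)) := inferInstanceAs (Subsingleton (PrimeSpectrum k))
  have h2 : Nonempty (VL k ks M).left := inferInstanceAs (Nonempty (PrimeSpectrum M.1))
  exact ⟨@Function.surjective_to_subsingleton _ _ h2 h1 _⟩

/-- A class of `H²(U, F)` which dies over the separable closure comes from `H²(X, u_* F)` if `R¹ u_* F = 0`. -/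
theorem exists_edge_of_ker [QuasiCompact (u ≫ f)] [QuasiSeparated (u ≫ f)] (F : EtCoh.Ab U)
    (h1 : IsZero ((EtCoh.Rpush u 1).obj F)) (x : HH U F 2)
    (hx : hp (pullback.fst (u ≫ f) (xi k ks)) F 2 x = 0) :
    ∃ c : HH X ((EtCoh.push u).obj F) 2, EtLim.HofPush u F 2 c = x := by
  obtain ⟨M, hM⟩ := exists_fin (u ≫ f) F 2 x hx
  obtain ⟨c, hc⟩ := Vancyc.H681.EdgeKerFin.exists_edge u F 1 (fun j b hjb => by
    obtain rfl : j = 0 := by lia
    exact subsingleton_of_isZero h1 _) x (fun y => by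
      have hs : Surjective ((EtCoh.bc f).obj (VL k ks M)).hom := by
        have := surjective_VL M
        exact inferInstanceAs (Surjective (pullback.snd (VL k ks M).hom f))
      obtain ⟨v, hv⟩ := hs.surj y
      refine ⟨(EtCoh.bc f).obj (VL k ks M), v, hv, inferInstance, ?_⟩
      have w : (bcComp u f (u ≫ f) rfl (VL k ks M)).left ≫ pr (u ≫ f) (VL k ks M) =
        ((EtCoh.bc u).obj ((EtCoh.bc f).obj (VL k ks M))).hom := EtpbcB.Big.et_w _
      have e := hpVia_hp (bcComp u f (u ≫ f) rfl (VL k ks M)).left (pr (u ≫ f) (VL k ks M))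
        ((EtCoh.bc u).obj ((EtCoh.bc f).obj (VL k ks M))).hom w F 2 x
      rw [hM, map_zero] at e
      exact e.symm)
  exact ⟨c, hc⟩

end Ker

end Groth.Agent.Dix.K282.EtaBc
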