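import Groth.Agent.Etbc.H238.DegTwo
import Groth.Agent.Etbc.H220.DimOneCd

/-!
# Direct image of `G_m` from the generic point of a curve (helper282)

* `subsingleton_two`: `X` Noetherian of dimension `≤ 1`, closed points with separably closed residue fields,
  `H²(X, G_m) = 0`: `H²(X, j_* G_m) = 0` for the inclusion `j` of `Spec O_{X,η}`, `η` a generic point;
* `isZero_Rpush_one_of_iso`: `R¹ h_* G_m = 0` for `h : S ≅ Spec O_{X,η} ⟶ X`.
-/

set_option autoImplicit false
universe w v u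
open CategoryTheory CategoryTheory.Limits AlgebraicGeometry Opposite TopologicalSpace Abelian

namespace K282.EtaGen

open Groth.Agent Groth.Agent.Etbc.H238 Groth.Agent.Etbc.H238.KStk Groth.Agent.Dix.KSheaf Groth.Agent.Dix.GmPush
  Groth.Agent.CurvesA.CurveCd

section Ab

variable {C : Type u} [Category.{v} C] [Abelian C] [HasExt.{w} C]

/-- If `Ext^{i+1}(X, ker f) = 0`, `Ext^i(X, coker f) = 0` and `Ext^i(X, Y) = 0` then `Ext^i(X, Z) = 0`. -/
theorem ext_eq_zero {X Y Z : C} (f : Y ⟶ Z) (i : ℕ) (hk : Subsingleton (Ext X (kernel f) (i + 1)))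
    (hc : Subsingleton (Ext X (cokernel f) i)) (hY : Subsingleton (Ext X Y i)) (z : Ext X Z i) : z = 0 := by
  have hfac : Abelian.factorThruImage f ≫ Abelian.image.ι f = f := Abelian.image.fac f
  let S : ShortComplex C := ShortComplex.mk (Abelian.image.ι f) (cokernel.π f) (kernel.condition _)
  have hS : S.ShortExact :=
    { exact := ShortComplex.exact_kernel (cokernel.π f)
      mono_f := inferInstanceAs (Mono (Abelian.image.ι f))
      epi_g := inferInstanceAs (Epi (cokernel.π f)) }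
  obtain ⟨y, hy⟩ := Ext.covariant_sequence_exact₂ X hS z (Subsingleton.elim _ _)
  have hw : kernel.ι f ≫ Abelian.factorThruImage f = 0 := by
    rw [← cancel_mono (Abelian.image.ι f), Category.assoc, hfac, kernel.condition, zero_comp]
  let T : ShortComplex C := ShortComplex.mk (kernel.ι f) (Abelian.factorThruImage f) hw
  have hT : T.ShortExact :=
    { exact := by
        refine ShortComplex.exact_of_f_is_kernel T ?_
        refine KernelFork.IsLimit.ofι _ _ (fun {W} g hg => kernel.lift f g ?_) ?_ ?_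
        · rw [← hfac, ← Category.assoc]
          change g ≫ Abelian.factorThruImage f = 0 at hg
          rw [hg, zero_comp]
        · intro W g hg
          simp [T]
        · intro W g hg m hm
          rw [← cancel_mono (kernel.ι f)]
          simpa [T] using hm
      mono_f := inferInstanceAs (Mono (kernel.ι f))
      epi_g := inferInstanceAs (Epi (Abelian.factorThruImage f)) }
  obtain ⟨x, hx⟩ := Ext.covariant_sequence_exact₃ X hT y (n₁ := i + 1) rfl (Subsingleton.elim _ _)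
  rw [← hy, ← hx, @Subsingleton.elim _ hY x 0, Ext.zero_comp, Ext.zero_comp]

end Ab

variable {X : Scheme.{u}}

theorem subsingleton_two [IsNoetherian X] (hdim : topologicalKrullDim X ≤ 1) (hpun : PunAcyc X)
    (hBr : Subsingleton (EtCoh.H X (EtCoh.Gm X) 2)) (η : X) (hη : ∀ z, z ⤳ η → z = η) :
    Subsingleton (EtCoh.H X ((EtCoh.push (X.fromSpecStalk η)).obj (EtCoh.Gm (Spec (X.presheaf.stalk η)))) 2) := by
  classical
  have h2 : Subsingleton (EtCoh.H X (kernel (dS X)) (2 + 1)) :=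
    hpun _ (DegTwo.mem_closed_of_mem_supp_kernel X hdim) 3 (by norm_num)
  have h3 : Subsingleton (EtCoh.H X (cokernel (dS X)) 2) :=
    hpun _ (DegTwo.mem_closed_of_mem_supp_cokernel X hdim) 2 (by norm_num)
  let η' : genericPoints X := ⟨η, (isGen_iff η).2 hη⟩
  have := hasProduct_facS X
  let σ : facS X η' ⟶ KS X := Pi.lift (fun ζ => if h : ζ = η' then eqToHom (by rw [h]) else 0)
  have hσ : σ ≫ πS X η' = 𝟙 _ := by
    refine (Pi.lift_π _ _).trans ?_
    rw [dif_pos rfl]
    rfl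
  refine subsingleton_of_forall_eq 0 fun z => ?_
  have h4 : Ext.comp z (Ext.mk₀ σ) (add_zero 2) = 0 := ext_eq_zero (dS X) 2 h2 h3 hBr _
  have h5 : Ext.comp z (Ext.mk₀ (𝟙 (facS X η'))) (add_zero 2) = 0 := by
    rw [← hσ, ← Ext.mk₀_comp_mk₀, ← Ext.comp_assoc_of_third_deg_zero, h4, Ext.zero_comp]
  rwa [Ext.comp_mk₀_id] at h5

open Groth.Agent.Etcore.HQ Groth.Agent.Etcore.RpushLoc

/-- `R¹ h_* G_m = 0` for `h : S ≅ Spec O_{X,η} ⟶ X`, `η` a generic point. -/
theorem isZero_Rpush_one_of_iso [IsLocallyNoetherian X] (η : X) (hη : ∀ z, z ⤳ η → z = η) {S : Scheme.{u}}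
    (i : S ≅ Spec (X.presheaf.stalk η)) (h : S ⟶ X) (hi : i.hom ≫ X.fromSpecStalk η = h) :
    IsZero ((EtCoh.Rpush h 1).obj (EtCoh.Gm S)) := by
  subst hi
  rw [isZero_Rpush_iff]
  intro V ξ v
  obtain ⟨W, hW, hvW, -⟩ := exists_isAffineOpen_mem_and_subset (X := V.left) (x := v) (U := ⊤) trivial
  have : Etale V.hom := V.prop
  let V' : X.Etale := Scheme.Etale.mk (W.ι ≫ V.hom)
  let g : V' ⟶ V := MorphismProperty.Over.homMk W.ι rfl
  have hA : IsAffine V'.left := hW
  refine ⟨V', g, ⟨v, hvW⟩, rfl, ?_⟩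
  obtain ⟨h1, h2⟩ := HilbStk.finite_discrete η hη V'
  let m : ((EtCoh.bc (i.hom ≫ X.fromSpecStalk η)).obj V').left ⟶ ((EtCoh.bc (X.fromSpecStalk η)).obj V').left :=
    pullback.map V'.hom (i.hom ≫ X.fromSpecStalk η) V'.hom (X.fromSpecStalk η) (𝟙 _) i.hom (𝟙 _) (by simp) (by simp)
  have hm : IsIso m := pullback.map_isIso _ _ _ _ _ _ _ _ _
  let em := Scheme.homeoOfIso (asIso m)
  have h1' : Finite ((EtCoh.bc (i.hom ≫ X.fromSpecStalk η)).obj V').left := Finite.of_equiv _ em.toEquiv.symm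
  have h2' : DiscreteTopology ((EtCoh.bc (i.hom ≫ X.fromSpecStalk η)).obj V').left := em.symm.discreteTopology
  have h3 := HilbStk.subsingleton_H1_Gm ((EtCoh.bc (i.hom ≫ X.fromSpecStalk η)).obj V').left
  let e : (EtCoh.pull (pr (i.hom ≫ X.fromSpecStalk η) V')).obj (EtCoh.Gm _) ≅ EtCoh.Gm _ :=
    Groth.Agent.Sga4h.EtaleRes2.pullGm (pr (i.hom ≫ X.fromSpecStalk η) V')
  have h4 : Subsingleton (HQ (EtCoh.Gm S) (pr (i.hom ≫ X.fromSpecStalk η) V') 1) :=
    Groth.Agent.EtpbcA.CdLeray.subsingleton_ext_of_iso _ e.symm 1 h3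
  exact Subsingleton.elim _ _

end K282.EtaGen
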