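import Mathlib.AlgebraicGeometry.Stalk
import Mathlib.AlgebraicGeometry.Morphisms.Flat
import Mathlib.AlgebraicGeometry.Morphisms.Integral
import Mathlib.AlgebraicGeometry.Morphisms.UniversallyInjective
import Mathlib.AlgebraicGeometry.Morphisms.UniversallyOpen
import Mathlib.AlgebraicGeometry.FunctionField

/-!
# The generic point of a base change along an algebraic extension (helper282)

`exists_iso`: `p : X' ⟶ X` surjective, `X'` irreducible, `h : S ≅ Spec O_{X,ξ} ⟶ X`, `Spec R = S ×_X X'` of dimension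
zero: `Spec O_{X',η'} ≅ Spec R` over `X'`.
-/

set_option autoImplicit false
universe u
open CategoryTheory CategoryTheory.Limits AlgebraicGeometry Opposite TopologicalSpace

namespace K282.EtaGeo

theorem exists_fac {X X' : Scheme.{u}} [IrreducibleSpace X'] (p : X' ⟶ X) [Surjective p] (ξ : X) :
    ∃ a : Spec (X'.presheaf.stalk (genericPoint X')) ⟶ Spec (X.presheaf.stalk ξ),
      a ≫ X.fromSpecStalk ξ = X'.fromSpecStalk (genericPoint X') ≫ p := by
  obtain ⟨y, hy⟩ := p.surjective ξ
  have h1 : p (genericPoint X') ⤳ ξ := by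
    rw [← hy]
    exact (genericPoint_specializes y).map p.continuous
  refine ⟨Spec.map (p.stalkMap (genericPoint X')) ≫ Spec.map (X.presheaf.stalkSpecializes h1), ?_⟩
  rw [Category.assoc, Scheme.SpecMap_stalkSpecializes_fromSpecStalk, Scheme.SpecMap_stalkMap_fromSpecStalk]

/-- Points of a flat algebraic monomorphism to an irreducible scheme are generic. -/
theorem apply_eq_genericPoint {X' Q : Scheme.{u}} [IrreducibleSpace X'] (h' : Q ⟶ X') [Flat h']
    (hQ : ∀ x y : Q, x ⤳ y → x = y) (q : Q) : h' q = genericPoint X' := by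
  obtain ⟨q₀, h1, h2⟩ := Flat.generalizingMap h' (genericPoint_specializes (h' q))
  rw [← hQ _ _ h1, h2]

theorem flat_fromSpecStalk (Y : Scheme.{u}) (y : Y) : Flat (Y.fromSpecStalk y) := by
  obtain ⟨_, ⟨U, hU, rfl⟩, hyU, -⟩ :=
    Y.isBasis_affineOpens.exists_subset_of_mem_open (Set.mem_univ y) isOpen_univ
  rw [← hU.fromSpecStalk_eq_fromSpecStalk hyU]
  dsimp only [IsAffineOpen.fromSpecStalk]
  have : Flat (Spec.map (Y.presheaf.germ U y hyU)) := by
    rw [Flat.SpecMap_iff]
    let : Algebra Γ(Y, U) (Y.presheaf.stalk y) := (Y.presheaf.germ U y hyU).hom.toAlgebra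
    have := hU.isLocalization_stalk ⟨y, hyU⟩
    exact IsLocalization.flat (Y.presheaf.stalk y) (hU.primeIdealOf ⟨y, hyU⟩).asIdeal.primeCompl
  have h2 : Flat hU.fromSpec := inferInstance
  exact Flat.comp _ _

/-- A scheme with one point which is affine is the spectrum of a local ring. -/
theorem isLocalRing_of_subsingleton (R : CommRingCat.{u}) [Subsingleton (Spec R)] [Nonempty (Spec R)] :
    IsLocalRing R := by
  have h0 : Nontrivial R := by
    rw [← PrimeSpectrum.nonempty_iff_nontrivial]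
    exact inferInstanceAs (Nonempty (Spec R))
  refine IsLocalRing.of_unique_max_ideal ?_
  obtain ⟨M, hM⟩ := Ideal.exists_maximal R
  refine ⟨M, hM, fun N hN => ?_⟩
  have h1 : (⟨N, hN.isPrime⟩ : PrimeSpectrum R) = ⟨M, hM.isPrime⟩ :=
    @Subsingleton.elim (Spec R) _ ⟨N, hN.isPrime⟩ ⟨M, hM.isPrime⟩
  exact congrArg PrimeSpectrum.asIdeal h1

theorem exists_iso {X X' : Scheme.{u}} [IrreducibleSpace X'] (p : X' ⟶ X) [Surjective p] (ξ : X) {S : Scheme.{u}}
    (i : S ≅ Spec (X.presheaf.stalk ξ)) {R : CommRingCat.{u}} (g : Spec R ⟶ S) (h' : Spec R ⟶ X')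
    (sq : IsPullback g h' (i.hom ≫ X.fromSpecStalk ξ) p) (hR : ∀ x y : Spec R, x ⤳ y → x = y) :
    ∃ s : Spec (X'.presheaf.stalk (genericPoint X')) ⟶ Spec R,
      IsIso s ∧ s ≫ h' = X'.fromSpecStalk (genericPoint X') := by
  obtain ⟨a, ha⟩ := exists_fac p ξ
  have hw : (a ≫ i.inv) ≫ (i.hom ≫ X.fromSpecStalk ξ) = X'.fromSpecStalk (genericPoint X') ≫ p := by
    rw [Category.assoc, i.inv_hom_id_assoc, ha]
  let s := sq.lift (a ≫ i.inv) (X'.fromSpecStalk (genericPoint X')) hw
  have hs : s ≫ h' = X'.fromSpecStalk (genericPoint X') := sq.lift_snd _ _ _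
  have hf1 := flat_fromSpecStalk X ξ
  have hf : Flat h' := MorphismProperty.of_isPullback sq (inferInstanceAs (Flat (i.hom ≫ X.fromSpecStalk ξ)))
  have hm1 : Mono (X.fromSpecStalk ξ) := inferInstance
  have hm2 : Mono (i.hom ≫ X.fromSpecStalk ξ) := mono_comp _ _
  have hm : Mono h' := MorphismProperty.of_isPullback (P := MorphismProperty.monomorphisms _) sq hm2
  have hinj : Function.Injective h' := h'.injective
  have hgen := apply_eq_genericPoint h' hR
  have hsub : Subsingleton (Spec R) := ⟨fun x y => hinj ((hgen x).trans (hgen y).symm)⟩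
  have hne : Nonempty (Spec R) := ⟨s (IsLocalRing.closedPoint _)⟩
  have hloc : IsLocalRing R := isLocalRing_of_subsingleton R
  have ht : ∃ t : Spec R ⟶ Spec (X'.presheaf.stalk (genericPoint X')),
      t ≫ X'.fromSpecStalk (genericPoint X') = h' := by
    have h1 := Scheme.Spec_stalkClosedPointTo_fromSpecStalk h'
    have h2 : h' (IsLocalRing.closedPoint R) = genericPoint X' := hgen _
    revert h1
    generalize Scheme.stalkClosedPointTo h' = σ
    revert σ
    rw [h2]
    intro σ hσ
    exact ⟨Spec.map σ, hσ⟩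
  obtain ⟨t, ht⟩ := ht
  refine ⟨s, ⟨t, ?_, ?_⟩, hs⟩
  · rw [← cancel_mono (X'.fromSpecStalk (genericPoint X')), Category.assoc, ht, hs, Category.id_comp]
  · rw [← cancel_mono h', Category.assoc, hs, ht, Category.id_comp]

/-- Rings integral over a field have no specialisations. -/
theorem eq_of_specializes (K : Type u) [Field K] (A : Type u) [CommRing A] [Algebra K A] [Algebra.IsIntegral K A]
    (x y : Spec (CommRingCat.of A)) (h : x ⤳ y) : x = y := by
  have h1 : PrimeSpectrum.asIdeal (R := A) x ≤ PrimeSpectrum.asIdeal (R := A) y :=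
    (PrimeSpectrum.le_iff_specializes (R := A) x y).2 h
  have h2 : (PrimeSpectrum.asIdeal (R := A) x).IsPrime := PrimeSpectrum.isPrime (R := A) x
  have h3 : (PrimeSpectrum.asIdeal (R := A) x).IsMaximal := by
    apply Ideal.isMaximal_of_isIntegral_of_isMaximal_comap (R := K)
    exact (Ideal.eq_bot_of_prime ((PrimeSpectrum.asIdeal (R := A) x).comap (algebraMap K A))) ▸ Ideal.bot_isMaximal
  have h4 : (PrimeSpectrum.asIdeal (R := A) y).IsPrime := PrimeSpectrum.isPrime (R := A) y
  exact PrimeSpectrum.ext (h3.eq_of_le h4.ne_top h1)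

end K282.EtaGeo
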