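import Groth.Agent.Dix.K282.EtaBc
import Groth.Agent.Dix.K282.EtaGen
import Groth.Agent.Dix.K282.EtaGeo
import Groth.Agent.Dix.K280.GmPullComp
import Groth.Agent.Sga4B.SmoothNormal
import Groth.Agent.Lefpen.H716.CIGeom
import Groth.Agent.Ega1.GenPts

/-!
# `H²(X, η_* G_m)` for a smooth proper curve (helper282)

`nonempty_equiv`: `H²(X, η_* G_m) ≅ ker (Br K → Br (K ⊗ k^s))`, given that the Brauer groups of proper curves over
`k^s` vanish.
-/

set_option autoImplicit false
universe u
open CategoryTheory CategoryTheory.Limits AlgebraicGeometry Opposite TopologicalSpace Abelian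

namespace K282.EtaMain

open Groth.Agent Groth.Agent.Dix.K282 Groth.Agent.Lefpen.H365.FieldPts Groth.Agent.Etcore.HQ

section Geo

variable {k ks : Type u} [Field k] [Field ks] [Algebra k ks] [IsSepClosure k ks]

/-- Closed points of a scheme locally of finite type over a separably closed field. -/
theorem isSepClosed_residueField {L : Type u} [Field L] [IsSepClosed L] {X : Scheme.{u}}
    (f : X ⟶ Spec (CommRingCat.of L)) [LocallyOfFiniteType f] (x : X) (hx : IsClosed ({x} : Set X)) :
    IsSepClosed (X.residueField x) := by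
  have h1 : IsClosedImmersion (X.fromSpecResidueField x) :=
    isClosed_singleton_iff_isClosedImmersion.1 hx
  let φ : CommRingCat.of L ⟶ X.residueField x := Spec.preimage (X.fromSpecResidueField x ≫ f)
  have hφ : Spec.map φ = X.fromSpecResidueField x ≫ f := Spec.map_preimage _
  have h2 : LocallyOfFiniteType (Spec.map φ) := by
    rw [hφ]
    infer_instance
  have h3 : φ.hom.FiniteType := by
    rwa [HasRingHomProperty.Spec_iff (P := @LocallyOfFiniteType)] at h2
  let _ : Algebra L (X.residueField x) := φ.hom.toAlgebra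
  have : Algebra.FiniteType L (X.residueField x) := h3
  have : Module.Finite L (X.residueField x) := finite_of_finite_type_of_isJacobsonRing L (X.residueField x)
  exact Algebra.IsAlgebraic.isSepClosed (F := L)

/-- A smooth connected scheme over a field is integral. -/
theorem isIntegral_of_smooth {L : Type u} [Field L] {C : Scheme.{u}} (f : C ⟶ Spec (CommRingCat.of L))
    [Smooth f] [GeometricallyConnected f] : IsIntegral C := by
  have h1 : IsLocallyNoetherian C := LocallyOfFiniteType.isLocallyNoetherian f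
  have hs : Subsingleton (Spec (CommRingCat.of L)) := inferInstanceAs (Subsingleton (PrimeSpectrum L))
  have h2 : ConnectedSpace C := GeometricallyConnected.connectedSpace_of_subsingleton f
  rw [Ega1.GenPts.isIntegral_iff]
  exact ⟨h2, fun x => (Sga4B.SmoothNormal.isNormalScheme_of_smooth f x).1⟩

end Geo

section Pull

attribute [local instance] pfl

theorem HGmPull_injective_of_isIso {Y Z : Scheme.{u}} (i : Y ⟶ Z) [IsIso i] (n : ℕ)
    (x : EtCoh.H Z (EtCoh.Gm Z) n) (h : EtLim.HGmPull i n x = 0) : x = 0 := by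
  have h1 := K280.GmPullComp.HGmPull_comp (inv i) i (𝟙 Z) (IsIso.inv_hom_id i) n x
  rw [h, map_zero] at h1
  have h2 := Topos.H571.GmPull.HGmPull_eq (𝟙 Z) n x
  have h3 : Etcore.EtInst.HHmap (Etcore.GmFun.gmp (𝟙 Z)) n (Etcore.HpullCalc.hp (𝟙 Z) _ n x) = 0 :=
    h2.symm.trans h1.symm
  have h4 : IsIso (Etcore.GmFun.gmp (𝟙 Z)) := GmIso.isIso_gmp_etale (𝟙 Z)
  have h5 := congrArg (Etcore.EtInst.HHmap (inv (Etcore.GmFun.gmp (𝟙 Z))) n) h3
  rw [← Etcore.EtInst.HHmap_comp, IsIso.hom_inv_id, Etcore.EtInst.HHmap_id, map_zero] at h5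
  exact (Etcore.HpVia.hp_id_bijective Z (EtCoh.Gm Z) n).1 (h5.trans (map_zero _).symm)

end Pull

section Main

attribute [local instance] pfl

variable {k ks K : Type u} [Field k] [Field ks] [Algebra k ks] [IsSepClosure k ks] [Field K] [Algebra k K]

/-- `Spec K ⊗ k^s → Spec K` -/
noncomputable abbrev gg (k ks K : Type u) [Field k] [Field ks] [Algebra k ks] [Field K] [Algebra k K] :
    Spec (CommRingCat.of (TensorProduct k K ks)) ⟶ Spec (CommRingCat.of K) :=
  Spec.map (CommRingCat.ofHom (Algebra.TensorProduct.includeLeftRingHom : K →+* TensorProduct k K ks))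

theorem isPullback_gg (k ks K : Type u) [Field k] [Field ks] [Algebra k ks] [Field K] [Algebra k K] :
    ∃ g₂ : Spec (CommRingCat.of (TensorProduct k K ks)) ⟶ Spec (CommRingCat.of ks),
      IsPullback (gg k ks K) g₂ (Spec.map (CommRingCat.ofHom (algebraMap k K))) (xi k ks) :=
  ⟨_, isPullback_SpecMap_of_isPushout _ _ _ _ (CommRingCat.isPushout_tensorProduct k K ks)⟩

omit [IsSepClosure k ks] in
theorem exists_square {X : Scheme.{u}} (f : X ⟶ Spec (CommRingCat.of k)) (h : Spec (CommRingCat.of K) ⟶ X)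
    (hcomp : h ≫ f = Spec.map (CommRingCat.ofHom (algebraMap k K))) :
    ∃ h' : Spec (CommRingCat.of (TensorProduct k K ks)) ⟶ pullback f (xi k ks),
      IsPullback (gg k ks K) h' h (pullback.fst f (xi k ks)) := by
  obtain ⟨g₂, sq⟩ := isPullback_gg k ks K
  have hw : (gg k ks K ≫ h) ≫ f = g₂ ≫ xi k ks := by
    rw [Category.assoc, hcomp, sq.w]
  refine ⟨pullback.lift (gg k ks K ≫ h) g₂ hw, IsPullback.flip (IsPullback.of_right (h₁₂ := pullback.snd f (xi k ks))
    (v₁₃ := xi k ks) (h₂₂ := f) ?_ ?_ (IsPullback.of_hasPullback f (xi k ks)).flip)⟩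
  · rw [pullback.lift_snd, hcomp]
    exact sq.flip
  · exact pullback.lift_fst _ _ _

/-- `ker ⊆ range` -/
theorem exists_of_ker {X : Scheme.{u}} [IsLocallyNoetherian X] (f : X ⟶ Spec (CommRingCat.of k))
    (h : Spec (CommRingCat.of K) ⟶ X) (hcomp : h ≫ f = Spec.map (CommRingCat.ofHom (algebraMap k K)))
    (h1 : IsZero ((EtCoh.Rpush h 1).obj (EtCoh.Gm (Spec (CommRingCat.of K)))))
    (x : EtCoh.H (Spec (CommRingCat.of K)) (EtCoh.Gm _) 2) (hx : EtLim.HGmPull (gg k ks K) 2 x = 0) :
    ∃ c, EtLim.HofPush h (EtCoh.Gm _) 2 c = x := by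
  have i1 : Algebra.IsSeparable k ks := IsSepClosure.separable
  have hqc : QuasiCompact (h ≫ f) := by rw [hcomp]; infer_instance
  have hqs : QuasiSeparated (h ≫ f) := by rw [hcomp]; infer_instance
  refine EtaBc.exists_edge_of_ker (k := k) (ks := ks) f h (EtCoh.Gm _) h1 x ?_
  obtain ⟨g₂, sq⟩ := isPullback_gg k ks K
  have sq' : IsPullback (gg k ks K) g₂ (h ≫ f) (xi k ks) := by rw [hcomp]; exact sq
  let j := (IsPullback.isoIsPullback _ _ (IsPullback.of_hasPullback (h ≫ f) (xi k ks)) sq')
  have hj : j.hom ≫ gg k ks K = pullback.fst (h ≫ f) (xi k ks) := IsPullback.isoIsPullback_hom_fst _ _ _ _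
  have h2 := K280.GmPullComp.HGmPull_comp j.hom (gg k ks K) _ hj 2 x
  rw [hx, map_zero] at h2
  have h3 := Topos.H571.GmPull.HGmPull_eq (pullback.fst (h ≫ f) (xi k ks)) 2 x
  have h4 := h3.symm.trans h2.symm
  have h5 := BrLift.isIso_gmp_fst (K := k) (Ω := ks) (h ≫ f)
  have h6 := congrArg (Etcore.EtInst.HHmap (inv (Etcore.GmFun.gmp (pullback.fst (h ≫ f) (xi k ks)))) 2) h4
  rw [← Etcore.EtInst.HHmap_comp, IsIso.hom_inv_id, Etcore.EtInst.HHmap_id, map_zero] at h6
  exact h6

/-- `range ⊆ ker` -/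
theorem HGmPull_HofPush {X : Scheme.{u}} (f : X ⟶ Spec (CommRingCat.of k)) [IsProper f]
    [SmoothOfRelativeDimension 1 f] [GeometricallyConnected f] (ξ : X)
    (i : Spec (CommRingCat.of K) ≅ Spec (X.presheaf.stalk ξ)) (h : Spec (CommRingCat.of K) ⟶ X)
    (hi : i.hom ≫ X.fromSpecStalk ξ = h)
    (hcomp : h ≫ f = Spec.map (CommRingCat.ofHom (algebraMap k K)))
    (hBr : ∀ (Y : Scheme.{u}) (g : Y ⟶ Spec (CommRingCat.of ks)) [IsProper g], topologicalKrullDim Y ≤ 1 →
      Subsingleton (EtCoh.H Y (EtCoh.Gm Y) 2)) (a : EtCoh.H X ((EtCoh.push h).obj (EtCoh.Gm _)) 2) :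
    EtLim.HGmPull (gg k ks K) 2 (EtLim.HofPush h (EtCoh.Gm _) 2 a) = 0 := by
  have i0 : IsSepClosed ks := IsSepClosure.sep_closed k
  have i1 : Algebra.IsSeparable k ks := IsSepClosure.separable
  have hsm' : SmoothOfRelativeDimension 1 (pullback.snd f (xi k ks)) :=
    have := smoothOfRelativeDimension_isStableUnderBaseChange 1
    MorphismProperty.pullback_snd (P := @SmoothOfRelativeDimension 1) f (xi k ks) inferInstance
  have hsm : Smooth (pullback.snd f (xi k ks)) := SmoothOfRelativeDimension.smooth 1 _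
  have hint : IsIntegral (pullback f (xi k ks)) := isIntegral_of_smooth (pullback.snd f (xi k ks))
  have hln : IsLocallyNoetherian (pullback f (xi k ks)) :=
    LocallyOfFiniteType.isLocallyNoetherian (pullback.snd f (xi k ks))
  have hcs : CompactSpace (pullback f (xi k ks) : Scheme.{u}) :=
    (quasiCompact_iff_compactSpace (pullback.snd f (xi k ks))).1 inferInstance
  have hN : IsNoetherian (pullback f (xi k ks)) := { }
  have hdim : topologicalKrullDim (pullback f (xi k ks) : Scheme.{u}) ≤ 1 := by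
    have := Lefpen.H716.CIGeom.topologicalKrullDim_le_of_smooth 1 (pullback.snd f (xi k ks))
    exact_mod_cast this
  have hpun := Etbc.H220.DimOneCd.punAcyc (X := pullback f (xi k ks))
    (fun x hx => isSepClosed_residueField (pullback.snd f (xi k ks)) x hx)
  obtain ⟨h', sq⟩ := exists_square (ks := ks) f h hcomp
  have hsurj : Surjective (xi k ks) := by
    have h1 : Subsingleton (Spec (CommRingCat.of k)) := inferInstanceAs (Subsingleton (PrimeSpectrum k))
    have h2 : Nonempty (Spec (CommRingCat.of ks)) := inferInstanceAs (Nonempty (PrimeSpectrum ks))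
    exact ⟨Function.surjective_to_subsingleton _⟩
  have hp : Surjective (pullback.fst f (xi k ks)) := inferInstance
  have sq' : IsPullback (gg k ks K) h' (i.hom ≫ X.fromSpecStalk ξ) (pullback.fst f (xi k ks)) := by
    rw [hi]; exact sq
  obtain ⟨s, hs, hsh⟩ := EtaGeo.exists_iso (pullback.fst f (xi k ks)) ξ i (gg k ks K) h' sq'
    (EtaGeo.eq_of_specializes K (TensorProduct k K ks))
  have hsub := EtaGen.subsingleton_two hdim hpun (hBr _ (pullback.snd f (xi k ks)) hdim)
    (genericPoint (pullback f (xi k ks) : Scheme.{u})) (fun z hz => by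
      exact ((genericPoint_specializes z).antisymm hz).eq.symm)
  apply HGmPull_injective_of_isIso s
  rw [K280.GmPullComp.HGmPull_comp s (gg k ks K) _ rfl]
  refine EtaBc.HGmPull_edge_eq_zero h (pullback.fst f (xi k ks)) (s ≫ gg k ks K)
    ((pullback f (xi k ks) : Scheme.{u}).fromSpecStalk (genericPoint (pullback f (xi k ks) : Scheme.{u}))) ?_ 2 hsub a
  rw [Category.assoc, sq.w, ← Category.assoc, hsh]

theorem nonempty_equiv (X : Scheme.{u}) [IsIntegral X] (f : X ⟶ Spec (CommRingCat.of k)) [IsProper f]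
    [SmoothOfRelativeDimension 1 f] [GeometricallyConnected f] (e : X.functionField ≅ CommRingCat.of K)
    (hcomp : Spec.map e.hom ≫ X.fromSpecStalk (genericPoint X) ≫ f = Spec.map (CommRingCat.ofHom (algebraMap k K)))
    (hBr : ∀ (Y : Scheme.{u}) (g : Y ⟶ Spec (CommRingCat.of ks)) [IsProper g], topologicalKrullDim Y ≤ 1 →
      Subsingleton (EtCoh.H Y (EtCoh.Gm Y) 2)) :
    Nonempty (EtCoh.H X ((EtCoh.push (Spec.map e.hom ≫ X.fromSpecStalk (genericPoint X))).obj
        (EtCoh.Gm (Spec (CommRingCat.of K)))) 2 ≃+ (EtLim.HGmPull (gg k ks K) 2).ker) := by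
  have hln : IsLocallyNoetherian X := LocallyOfFiniteType.isLocallyNoetherian f
  let i : Spec (CommRingCat.of K) ≅ Spec (X.presheaf.stalk (genericPoint X)) := asIso (Spec.map e.hom)
  let h := Spec.map e.hom ≫ X.fromSpecStalk (genericPoint X)
  have hη : ∀ z, z ⤳ genericPoint X → z = genericPoint X := fun z hz =>
    ((genericPoint_specializes z).antisymm hz).eq.symm
  have hi : i.hom ≫ X.fromSpecStalk (genericPoint X) = h := rfl
  have hcomp' : h ≫ f = Spec.map (CommRingCat.ofHom (algebraMap k K)) := by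
    rw [← hcomp]
    exact Category.assoc _ _ _
  have h1 := EtaGen.isZero_Rpush_one_of_iso (genericPoint X) hη i h hi
  let φ : EtCoh.H X ((EtCoh.push h).obj (EtCoh.Gm (Spec (CommRingCat.of K)))) 2 →+
      (EtLim.HGmPull (gg k ks K) 2).ker :=
    (EtLim.HofPush h (EtCoh.Gm _) 2).codRestrict _ fun a =>
      HGmPull_HofPush f (genericPoint X) i h hi hcomp' hBr a
  refine ⟨AddEquiv.ofBijective φ ⟨?_, ?_⟩⟩
  · intro a b hab
    exact K280.EdgeEt.HofPush_two_injective h _ h1 (congrArg Subtype.val hab)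
  · rintro ⟨x, hx⟩
    obtain ⟨c, hc⟩ := exists_of_ker f h hcomp' h1 x hx
    exact ⟨c, Subtype.ext hc⟩

end Main

end K282.EtaMain
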