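import Groth.Agent.Dix.K282.LaurGeo
import Groth.Agent.Dix.K282.Assemble
import Groth.Agent.Etbase.FinLiftSch

/-!
# Vanishing over the separable closure, in terms of algebras
-/

set_option autoImplicit false
universe u
open CategoryTheory CategoryTheory.Limits AlgebraicGeometry Opposite TensorProduct
open scoped LaurentPolynomial
open scoped Groth.Agent.Etcore.EtInst
open Groth.Agent.Etcore.EtInst

namespace Groth.Agent.Dix.K282.GeoVan

open Groth.Agent.Lefpen.H365.FieldPts
open Groth.Agent.Dix.K282.PMap Groth.Agent.Dix.K282.AlgStk Groth.Agent.Dix.K282.LaurGeo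

attribute [local instance] Groth.Agent.S0101.result

theorem eH_injective_of_isFinite {X Y : Scheme.{u}} (f : X ⟶ Y) [IsFinite f] (F : EtCoh.Ab X) (n : ℕ) :
    Function.Injective (eH f F (n + 1)) := by
  rw [← edge_injective_iff]
  refine (Etbc.H228.LowEdge.psi_low (EtCoh.pullPushAdj f) (EtCoh.const _ ℤ) n F ?_).2
  intro q h1 _
  exact (Etbase.FinLiftSch.refines_of_isFinite f).isZero_Rpush F q h1

/-- The isomorphism of spectra given by a ring isomorphism. -/
noncomputable def specIso {R R' : Type u} [CommRing R] [CommRing R'] (e : R ≃+* R') :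
    Spec (CommRingCat.of R) ≅ Spec (CommRingCat.of R') :=
  Scheme.Spec.mapIso e.symm.toCommRingCatIso.op

variable {K Ω : Type u} [Field K] [Field Ω] [Algebra K Ω] {B : Type u} [CommRing B] [Algebra K B]

theorem van_of_laurent [IsAlgClosed Ω] (e : B ⊗[K] Ω ≃+* MonoidAlgebra Ω (Multiplicative ℤ)) (q : ℕ)
    (x : HH (pullback (sp K B) (xi K Ω)) (EtCoh.Gm (pullback (sp K B) (xi K Ω))) (q + 1)) : x = 0 := by
  have := subsingleton_H_Gm (psI K Ω B ≪≫ specIso (e.trans (AddMonoidAlgebra.toMultiplicative Ω ℤ).symm))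
    (q + 1) q.succ_pos
  exact Subsingleton.elim (α := EtCoh.H _ _ (q + 1)) _ _

theorem van_one_of_ufd (h : IsUFD (B ⊗[K] Ω))
    (x : HH (pullback (sp K B) (xi K Ω)) (EtCoh.Gm (pullback (sp K B) (xi K Ω))) (0 + 1)) : x = 0 := by
  have := subsingleton_H1_Gm (psI K Ω B) h
  exact Subsingleton.elim (α := EtCoh.H _ _ 1) _ _

variable [Algebra.IsSeparable K Ω] [IsSepClosed Ω]

theorem eH_injective_of_laurent [IsAlgClosed Ω] (e : B ⊗[K] Ω ≃+* MonoidAlgebra Ω (Multiplicative ℤ))
    (n : ℕ) : Function.Injective (eH (sp K B) (EtCoh.Gm (Spec (CommRingCat.of B))) (n + 1)) :=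
  VanGm.eH_injective (Ω := Ω) (sp K B) n fun q _ x => van_of_laurent e q x

theorem isFinite_self : IsFinite (sp K K) := by
  have : IsIso (sp K K) := by
    have h : sp K K = 𝟙 _ := Spec.map_id _
    rw [h]
    infer_instance
  infer_instance

end Groth.Agent.Dix.K282.GeoVan
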