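import Groth.Agent.Dix.K282.LiftEdge
import Groth.Agent.Lefpen.H365.B1
import Groth.Agent.Etcore.HpVia

/-!
# Lifting Galois invariant classes of degree two

`f : X ⟶ Spec K` quasi-compact quasi-separated, `R¹ f_* F = 0` and the edge map
`H³(K, f_* F) ⟶ H³(X, F)` injective: every Galois invariant class in `H²(X_Ω, F)` comes from `H²(X, F)`.
-/

set_option autoImplicit false
universe u
open CategoryTheory CategoryTheory.Limits AlgebraicGeometry Opposite Abelian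
open scoped Groth.Agent.Etcore.EtInst
open Groth.Agent.Etcore.EtInst

namespace Groth.Agent.Dix.K282.InvLift

open Groth.Agent.Etcore Groth.Agent.Etcore.HQ Groth.Agent.Etcore.RpushLoc
open Groth.Agent.Etcore.HpullCalc Groth.Agent.Etcore.PullCoh
open Groth.Agent.Etcore.LimBC0 (mB mB_fst mB_hom)
open Groth.Agent.EtpbcB.Big
open Groth.Agent.Lefpen.H365.FieldPts Groth.Agent.Lefpen.H365.Edge Groth.Agent.Lefpen.H365.Ev
  Groth.Agent.Lefpen.H365.Ev2 Groth.Agent.Lefpen.H365.B1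
open Groth.Agent.Lefpen.H712.HT
open Groth.Agent.EtpbcB.EdgeLemma (edge)

section Step

variable {X Y : Scheme.{u}} {f : X ⟶ Y}
variable {S : ShortComplex (EtCoh.Ab X)} (hS : S.ShortExact) (n : ℕ)
  (h2 : ∀ (V : Y.Etale) (x : HQ S.X₂ (pr f V) (n + 1)), x = 0) {G₃ G : EtCoh.Ab Y}
  (E : Edge f S.X₃ n G₃) (p : G₃ ⟶ G)

include h2 in
/-- The step `n ⟶ n + 1`, with a formula. -/
theorem exists_step
    (hp : ∀ (V : Y.Etale) (s : EtCoh.sect G V) (v : V.left), ∃ (V' : Y.Etale) (k : V' ⟶ V)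
      (v' : V'.left) (t : EtCoh.sect G₃ V'), k.left v' = v ∧ p.hom.app (op V') t = G.obj.map k.op s)
    (h0 : ∀ (V : Y.Etale) (x : HQ S.X₃ (pr f V) n), δ hS (pr f V) n x = 0 →
      p.hom.app (op V) (E.e V x) = 0)
    (h1 : ∀ (V : Y.Etale) (x : HQ S.X₃ (pr f V) n), p.hom.app (op V) (E.e V x) = 0 → ∀ v : V.left,
      ∃ (V' : Y.Etale) (k : V' ⟶ V) (v' : V'.left), k.left v' = v ∧
        δ hS (pr f V') n (res S.X₃ (mm f k) (mm_pr f k) n x) = 0) :
    ∃ E' : Edge f S.X₁ (n + 1) G, ∀ (V : Y.Etale) (y : HQ S.X₃ (pr f V) n),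
      E'.e V (δ hS (pr f V) n y) = p.hom.app (op V) (E.e V y) := by
  choose e he using exists_e hS n h2 E p h0
  refine ⟨{ e := e, nat := ?_, inj := ?_, surj := ?_ }, he⟩
  · intro V V' k x
    obtain ⟨y, rfl⟩ := δ_surjective hS n h2 V x
    rw [he, res_δ, he, ← E.nat]
    exact (ConcreteCategory.congr_hom (p.hom.naturality k.op) (E.e V y)).symm
  · intro V x hx
    obtain ⟨y, rfl⟩ := δ_surjective hS n h2 V x
    rw [he] at hx
    intro v
    obtain ⟨V', k, v', hv, h⟩ := h1 V y hx v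
    exact ⟨V', k, v', hv, by rw [res_δ, h]⟩
  · intro V s v
    obtain ⟨V₁, k₁, v₁, t, hv₁, ht⟩ := hp V s v
    obtain ⟨V₂, k₂, v₂, x, hv₂, hx⟩ := E.surj V₁ t v₁
    refine ⟨V₂, k₂ ≫ k₁, v₂, δ hS (pr f V₂) n x, ?_, ?_⟩
    · rw [← hv₁, ← hv₂]
      rfl
    · rw [he, hx]
      have h3 := ConcreteCategory.congr_hom (p.hom.naturality k₂.op) t
      refine Eq.trans h3 ?_
      refine (congrArg (G.obj.map k₂.op) ht).trans ?_
      have h4 : G.obj.map (k₂ ≫ k₁).op = G.obj.map k₁.op ≫ G.obj.map k₂.op := by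
        rw [op_comp, CategoryTheory.Functor.map_comp]
      exact (ConcreteCategory.congr_hom h4 s).symm

end Step

section EdgeMaps

variable {X Y : Scheme.{u}} {f : X ⟶ Y} {S : ShortComplex (EtCoh.Ab X)} (hS : S.ShortExact)

include hS in
theorem exists_edge_one (h2 : ∀ (V : Y.Etale) (x : HQ S.X₂ (pr f V) 1), x = 0) :
    ∃ E : Edge f S.X₁ 1 (cokernel ((EtCoh.push f).map S.g)),
      ∀ (V : Y.Etale) (s : EtCoh.sect S.X₃ ((EtCoh.bc f).obj V)),
        E.e V (δ hS (pr f V) 0 (secP f S.X₃ V s)) =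
          (cokernel.π ((EtCoh.push f).map S.g)).hom.app (op V) s := by
  obtain ⟨E, hE⟩ := exists_edgeZero f S.X₃
  obtain ⟨E', hE'⟩ := exists_step hS 0 h2 E (cokernel.π ((EtCoh.push f).map S.g)) (by
    intro V s v
    obtain ⟨V', k, v', hv', t, ht⟩ :=
      (EtpbcA.StalkTools.epi_iff_locIm (cokernel.π ((EtCoh.push f).map S.g))).1 inferInstance V s v
    exact ⟨V', k, v', t, hv', ht⟩) (by
    intro V x hx
    obtain ⟨y, rfl⟩ := exists_map_eq hS (pr f V) 0 _ hx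
    obtain ⟨t, rfl⟩ := (secP_bijective f S.X₂ V).2 y
    rw [map_secP, hE]
    exact congrArg (fun k : (EtCoh.push f).obj S.X₂ ⟶ cokernel ((EtCoh.push f).map S.g) =>
      k.hom.app (op V) t) (cokernel.condition ((EtCoh.push f).map S.g))) (by
    intro V x hx v
    obtain ⟨s, rfl⟩ := (secP_bijective f S.X₃ V).2 x
    rw [hE] at hx
    obtain ⟨V', k, v', hv', t, ht⟩ := locIm_of_cokernel ((EtCoh.push f).map S.g) s v hx
    refine ⟨V', k, v', hv', ?_⟩
    rw [res_secP]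
    have e : secP f S.X₃ V' (S.X₃.obj.map ((EtCoh.bc f).map k).op s) =
        map S.g (pr f V') 0 (secP f S.X₂ V' t) := by
      rw [map_secP]
      exact congrArg (secP f S.X₃ V') ht.symm
    rw [e, δ_map])
  refine ⟨E', fun V s => ?_⟩
  rw [hE', hE]

include hS in
theorem exists_edge_succ (n : ℕ)
    (h1 : ∀ (V : Y.Etale) (x : HQ S.X₂ (pr f V) n), x = 0)
    (h2 : ∀ (V : Y.Etale) (x : HQ S.X₂ (pr f V) (n + 1)), x = 0) {G : EtCoh.Ab Y}
    (E : Edge f S.X₃ n G) :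
    ∃ E' : Edge f S.X₁ (n + 1) G, ∀ (V : Y.Etale) (y : HQ S.X₃ (pr f V) n),
      E'.e V (δ hS (pr f V) n y) = E.e V y := by
  have hδ : ∀ (V : Y.Etale) (x : HQ S.X₃ (pr f V) n), δ hS (pr f V) n x = 0 → x = 0 := by
    intro V x hx
    obtain ⟨y, rfl⟩ := exists_map_eq hS (pr f V) n _ hx
    rw [h1 V y, map_zero]
  obtain ⟨E', hE'⟩ := exists_step hS n h2 E (𝟙 G) (by
    intro V s v
    exact ⟨V, 𝟙 V, v, s, rfl, (map_id_apply G V s).symm⟩) (by
    intro V x hx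
    rw [hδ V x hx, map_zero]
    exact map_zero _) (by
    intro V x hx v
    obtain ⟨V', k, v', hv', h⟩ := E.inj V x hx v
    exact ⟨V', k, v', hv', by rw [h, map_zero]⟩)
  exact ⟨E', fun V y => hE' V y⟩

end EdgeMaps

section Lift

variable {X Y : Scheme.{u}} (f : X ⟶ Y) (F : EtCoh.Ab X)

attribute [local instance] pfl

/-- Sections of a sheaf over the final object are maps from the constant sheaf `ℤ`. -/
theorem exists_hom_of_sect (G : EtCoh.Ab Y) (s : EtCoh.sect G (EtCoh.top Y)) :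
    ∃ φ : EtCoh.const Y ℤ ⟶ G, φ.hom.app (op (EtCoh.top Y)) (cst Y ℤ ⟨1⟩) = s := by
  let g : AddCommGrpCat.of (ULift.{u + 1} ℤ) ⟶ (EtCore.gsec Y).obj G :=
    AddCommGrpCat.ofHom ((zmultiplesHom _ s).comp AddEquiv.ulift.toAddMonoidHom)
  refine ⟨((EtCore.constAdj Y).homEquiv _ _).symm g, ?_⟩
  have h := ((EtCore.constAdj Y).homEquiv _ _).apply_symm_apply g
  rw [Adjunction.homEquiv_unit] at h
  have h1 := congrArg (fun k => k.hom (ULift.up 1)) h
  refine Eq.trans h1 ?_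
  change (zmultiplesHom _ s) (1 : ℤ) = s
  rw [zmultiplesHom_apply, one_zsmul]

theorem exists_edge_two (h1 : IsZero ((EtCoh.Rpush f 1).obj F))
    (h3 : Function.Injective (edge (EtCoh.pullPushAdj f) (EtCoh.const Y ℤ) F 3)) :
    ∃ (G : EtCoh.Ab Y) (E : Edge f F 2 G), ∀ s : EtCoh.sect G (EtCoh.top Y),
      ∃ y : HQ F (pr f (EtCoh.top Y)) 2, E.e (EtCoh.top Y) y = s := by
  let S₁ := injSeq F
  have hS₁ : S₁.ShortExact := injSeq_shortExact F
  let S₂ := injSeq S₁.X₃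
  have hS₂ : S₂.ShortExact := injSeq_shortExact S₁.X₃
  obtain ⟨E₁, hE₁⟩ := exists_edge_one (f := f) hS₂ (fun V x => eq_zero_of_injective _ _ 0 x)
  obtain ⟨E₂, hE₂⟩ := exists_edge_succ hS₁ 1 (fun V x => eq_zero_of_injective _ _ 0 x)
    (fun V x => eq_zero_of_injective _ _ 1 x) E₁
  refine ⟨_, E₂, fun s => ?_⟩
  have hepi : Epi ((EtCoh.push f).map S₁.g) := DerLES.epi_map_g (EtCoh.push f) hS₁ h1
  have hedge2 := LiftEdge.edge_succ_injective (EtCoh.pullPushAdj f) hS₁ (EtCoh.const Y ℤ) 1 h3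
  obtain ⟨φ, hφ⟩ := exists_hom_of_sect _ s
  obtain ⟨g, hg⟩ := LiftEdge.exists_lift_coker (EtCoh.pullPushAdj f) hS₂ (EtCoh.const Y ℤ) hedge2 φ
  refine ⟨δ hS₁ (pr f (EtCoh.top Y)) 1 (δ hS₂ (pr f (EtCoh.top Y)) 0 (secP f S₂.X₃ (EtCoh.top Y)
    (g.hom.app (op (EtCoh.top Y)) (cst Y ℤ ⟨1⟩)))), ?_⟩
  refine (hE₂ _ _).trans ((hE₁ _ _).trans ?_)
  rw [← hφ, ← hg]
  rfl

end Lift

section Main

variable {K Ω : Type u} [Field K] [Field Ω] [Algebra K Ω] [IsSepClosure K Ω]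
  {X : Scheme.{u}} (f : X ⟶ Spec (CommRingCat.of K)) [QuasiCompact f] [QuasiSeparated f]
  (F : EtCoh.Ab X)

attribute [local instance] pfl

theorem exists_ev_top (h1 : IsZero ((EtCoh.Rpush f 1).obj F))
    (h3 : Function.Injective (edge (EtCoh.pullPushAdj f)
      (EtCoh.const (Spec (CommRingCat.of K)) ℤ) F 3))
    (r : Spec (CommRingCat.of Ω) ⟶ (EtCoh.top (Spec (CommRingCat.of K))).left)
    (hr : r ≫ (EtCoh.top (Spec (CommRingCat.of K))).hom = xi K Ω)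
    (x : HT f F (xi K Ω) 2)
    (h : ∀ σ : Ω ≃ₐ[K] Ω, rs f F (Spec.map (CommRingCat.ofHom (σ : Ω →+* Ω))) (spec_map_comp σ) 2 x = x) :
    ∃ y : HQ F (pr f (EtCoh.top (Spec (CommRingCat.of K)))) 2, ev f F r hr 2 y = x := by
  have i1 : Algebra.IsSeparable K Ω := IsSepClosure.separable
  have i2 : IsSepClosed Ω := IsSepClosure.sep_closed K
  obtain ⟨G, E, hE⟩ := exists_edge_two f F h1 h3
  obtain ⟨s, hs⟩ := exists_rel_of_inv E x (fun σ _ => h σ)
  obtain ⟨y, hy⟩ := hE s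
  refine ⟨y, ?_⟩
  refine Rel.unique (E := E) (s := s) ?_ hs
  refine rel_of E r hr y s ?_
  rw [hy, toT_ext (toT _) (𝟙 _), map_id_apply]

omit [IsSepClosure K Ω] [QuasiCompact f] [QuasiSeparated f] in
theorem ev_hp {V : (Spec (CommRingCat.of K)).Etale} (r : Spec (CommRingCat.of Ω) ⟶ V.left)
    (hr : r ≫ V.hom = xi K Ω) (n : ℕ) (x : HH X F n) :
    ev f F r hr n (hp (pr f V) F n x) = hp (pullback.fst f (xi K Ω)) F n x :=
  hp_comp_th (mB f r hr) (pr f V) (pullback.fst f (xi K Ω)) (Etcore.LimBC0.mB_hom f r hr) F n x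

omit [QuasiCompact f] [QuasiSeparated f] in
theorem isIso_pr_top : IsIso (pr f (EtCoh.top (Spec (CommRingCat.of K)))) :=
  inferInstanceAs (IsIso (pullback.snd (𝟙 (Spec (CommRingCat.of K))) f))

omit [Algebra K Ω] [IsSepClosure K Ω] in
theorem comp_top (T : Scheme.{u}) (r : T ⟶ Spec (CommRingCat.of K)) :
    r ≫ (EtCoh.top (Spec (CommRingCat.of K))).hom = r := Category.comp_id _

/-- **Invariant classes of degree two lift.** -/
theorem exists_hp_eq (h1 : IsZero ((EtCoh.Rpush f 1).obj F))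
    (h3 : Function.Injective (edge (EtCoh.pullPushAdj f)
      (EtCoh.const (Spec (CommRingCat.of K)) ℤ) F 3))
    (x : HT f F (xi K Ω) 2)
    (h : ∀ σ : Ω ≃ₐ[K] Ω, rs f F (Spec.map (CommRingCat.ofHom (σ : Ω →+* Ω))) (spec_map_comp σ) 2 x = x) :
    ∃ y : HH X F 2, hp (pullback.fst f (xi K Ω)) F 2 y = x := by
  have hr : (xi K Ω : Spec (CommRingCat.of Ω) ⟶ (EtCoh.top (Spec (CommRingCat.of K))).left) ≫
    (EtCoh.top (Spec (CommRingCat.of K))).hom = xi K Ω := comp_top _ (xi K Ω)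
  obtain ⟨y, hy⟩ := exists_ev_top f F h1 h3 (xi K Ω) hr x h
  have hiso := isIso_pr_top f
  obtain ⟨y', hy'⟩ := (HpVia.hp_bijective_of_isIso (pr f (EtCoh.top (Spec (CommRingCat.of K)))) F 2).2 y
  have e1 := ev_hp f F (V := EtCoh.top (Spec (CommRingCat.of K))) (xi K Ω) hr 2 y'
  have e2 := congrArg (ev f F (V := EtCoh.top (Spec (CommRingCat.of K))) (xi K Ω) hr 2) hy'
  exact ⟨y', e1.symm.trans (e2.trans hy)⟩

end Main

end Groth.Agent.Dix.K282.InvLift
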