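import Groth.Agent.S0227
import Groth.Agent.S0236
import Groth.Agent.Sga4B.PicAffine
import Mathlib.GroupTheory.MonoidLocalization.UniqueFactorization
import Mathlib.RingTheory.PicardGroup
import Mathlib.Algebra.Polynomial.Laurent
import Mathlib.RingTheory.KrullDimension.PID
import Mathlib.RingTheory.Smooth.Basic

/-!
# Cohomology of `G_m` on split tori
-/

set_option autoImplicit false
universe u
open CategoryTheory CategoryTheory.Limits AlgebraicGeometry Opposite Polynomial
open scoped LaurentPolynomial

namespace Groth.Agent.Dix.K282.LaurGeo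

open Groth.Agent.Sga4B

section Algebra

theorem isDomain_laurent (R : Type u) [CommRing R] [IsDomain R] : IsDomain R[T;T⁻¹] := inferInstance

theorem ufd_laurent (R : Type u) [CommRing R] [IsDomain R] [UniqueFactorizationMonoid R] :
    UniqueFactorizationMonoid R[T;T⁻¹] :=
  UniqueFactorizationMonoid.of_isLocalization (Submonoid.powers (X : R[X])) R[T;T⁻¹]

/-- The ring is a unique factorization domain. -/
def IsUFD (R : Type u) [CommRing R] : Prop := IsDomain R ∧ UniqueFactorizationMonoid R

theorem isUFD_of_equiv {R R' : Type u} [CommRing R] [CommRing R'] (e : R ≃+* R') (h : IsUFD R) : IsUFD R' := by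
  obtain ⟨h1, h2⟩ := h
  have hdom : IsDomain R' := e.symm.toMulEquiv.isDomain R
  exact ⟨hdom, MulEquiv.uniqueFactorizationMonoid e.toMulEquiv h2⟩

theorem isUFD_torus (k : Type u) [Field k] (n : ℕ) :
    IsUFD (MonoidAlgebra k (Multiplicative (Fin n → ℤ))) := by
  induction n with
  | zero =>
    refine isUFD_of_equiv (MonoidAlgebra.uniqueRingEquiv (Multiplicative (Fin 0 → ℤ))).symm
      ⟨inferInstance, inferInstance⟩
  | succ n ih =>
    obtain ⟨h1, h2⟩ := ih
    have h3 : IsUFD (MonoidAlgebra k (Multiplicative (Fin n → ℤ)))[T;T⁻¹] :=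
      ⟨isDomain_laurent _, ufd_laurent _⟩
    let e1 : Multiplicative (Fin (n + 1) → ℤ) ≃* Multiplicative ℤ × Multiplicative (Fin n → ℤ) :=
      { toFun := fun f => (Multiplicative.ofAdd (f.toAdd 0), Multiplicative.ofAdd (fun i => f.toAdd i.succ))
        invFun := fun p => Multiplicative.ofAdd (Fin.cons p.1.toAdd p.2.toAdd)
        left_inv := fun f => by
          apply Multiplicative.toAdd.injective
          funext i
          refine Fin.cases ?_ (fun i => ?_) i <;> rfl
        right_inv := fun p => rfl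
        map_mul' := fun f g => rfl }
    let e2 : MonoidAlgebra k (Multiplicative (Fin (n + 1) → ℤ)) ≃+*
        MonoidAlgebra k (Multiplicative ℤ × Multiplicative (Fin n → ℤ)) :=
      MonoidAlgebra.mapDomainRingEquiv k e1
    let e3 : MonoidAlgebra k (Multiplicative ℤ × Multiplicative (Fin n → ℤ)) ≃+*
        MonoidAlgebra (MonoidAlgebra k (Multiplicative (Fin n → ℤ))) (Multiplicative ℤ) :=
      MonoidAlgebra.curryRingEquiv
    let e4 : (MonoidAlgebra k (Multiplicative (Fin n → ℤ)))[T;T⁻¹] ≃+*
        MonoidAlgebra (MonoidAlgebra k (Multiplicative (Fin n → ℤ))) (Multiplicative ℤ) :=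
      AddMonoidAlgebra.toMultiplicative _ _
    exact isUFD_of_equiv (e4.trans (e3.symm.trans e2.symm)) h3

theorem isPrincipal_laurent (k : Type u) [Field k] : IsPrincipalIdealRing k[T;T⁻¹] := by
  refine ⟨fun I => ?_⟩
  obtain ⟨a, ha⟩ := (IsPrincipalIdealRing.principal (I.under k[X])).principal
  refine ⟨algebraMap k[X] k[T;T⁻¹] a, ?_⟩
  rw [← IsLocalization.map_under (Submonoid.powers (X : k[X])) k[T;T⁻¹] I, ha]
  exact Ideal.map_span _ _ |>.trans (by rw [Set.image_singleton])

theorem not_isField (k : Type u) [Field k] : ¬ IsField k[T;T⁻¹] := by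
  intro h
  let _ := h.toField
  let f : k[T;T⁻¹] →ₐ[k] k := AddMonoidAlgebra.lift k k ℤ 1
  have h1 : ∀ n : ℤ, f (LaurentPolynomial.T n) = 1 := fun n => by
    change AddMonoidAlgebra.lift k k ℤ 1 (AddMonoidAlgebra.single n 1) = 1
    rw [AddMonoidAlgebra.lift_single, one_smul]
    rfl
  have h2 : (LaurentPolynomial.T 1 : k[T;T⁻¹]) = LaurentPolynomial.T 0 :=
    f.toRingHom.injective ((h1 1).trans (h1 0).symm)
  have h3 := AddMonoidAlgebra.of_injective (R := k) (M := ℤ) (a₁ := Multiplicative.ofAdd 1) (a₂ := Multiplicative.ofAdd 0) h2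
  exact absurd (Multiplicative.ofAdd.injective h3) (by norm_num)

theorem ringKrullDim_laurent (k : Type u) [Field k] : ringKrullDim k[T;T⁻¹] = 1 := by
  have := isPrincipal_laurent k
  exact IsPrincipalIdealRing.ringKrullDim_eq_one _ (not_isField k)

end Algebra

section UFD

variable {X : Scheme.{u}} {R : Type u} [CommRing R] (e : X ≅ Spec (CommRingCat.of R))

include e in
/-- `H¹(X, G_m) = 0` for `X` the spectrum of a unique factorization domain. -/
theorem subsingleton_H1_Gm (h : IsUFD R) : Subsingleton (EtCoh.H X (EtCoh.Gm X) 1) := by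
  obtain ⟨h1, h2⟩ := h
  rw [S0236.result]
  intro L hL
  let e' : R ≃+* Γ(X, ⊤) :=
    ((Scheme.ΓSpecIso (CommRingCat.of R)).symm ≪≫ Scheme.Γ.mapIso e.op).commRingCatIsoToRingEquiv
  have : IsAffine X := .of_isIso e.hom
  have hdom : IsDomain Γ(X, ⊤) := e'.symm.toMulEquiv.isDomain R
  have hufd : UniqueFactorizationMonoid Γ(X, ⊤) :=
    MulEquiv.uniqueFactorizationMonoid e'.toMulEquiv inferInstance
  refine PicAffine.nonempty_iso_of_pic L ?_ hL
  intro N _ _ hN
  exact Module.Invertible.free_iff_linearEquiv.1 inferInstance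

end UFD

section Curve

variable {k : Type u} [Field k] {X : Scheme.{u}} (e : X ≅ Spec (CommRingCat.of k[T;T⁻¹]))

/-- The structure morphism. -/
noncomputable def str : X ⟶ Spec (CommRingCat.of k) :=
  e.hom ≫ Spec.map (CommRingCat.ofHom (algebraMap k k[T;T⁻¹]))

instance tower : IsScalarTower k k[X] k[T;T⁻¹] := IsScalarTower.of_algebraMap_eq fun r => by
  change _ = Polynomial.toLaurent (Polynomial.C r)
  rw [Polynomial.toLaurent_C]
  rfl

instance smooth_alg : Algebra.Smooth k k[T;T⁻¹] := by
  have h1 : Algebra.Smooth k[X] k[T;T⁻¹] := Algebra.Smooth.of_isLocalization_Away (Polynomial.X : k[X])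
  have h2 : Algebra.Smooth k k[X] := ⟨inferInstance, inferInstance⟩
  exact Algebra.Smooth.comp k k[X] k[T;T⁻¹]

instance smooth_spec : Smooth (Spec.map (CommRingCat.ofHom (algebraMap k k[T;T⁻¹]))) := by
  rw [HasRingHomProperty.Spec_iff (P := @Smooth)]
  change (algebraMap k k[T;T⁻¹]).Smooth
  rw [RingHom.smooth_algebraMap]
  infer_instance

include e in
theorem topologicalKrullDim_eq : topologicalKrullDim X = 1 := by
  rw [IsHomeomorph.topologicalKrullDim_eq _ (Scheme.homeoOfIso e).isHomeomorph]
  change topologicalKrullDim (PrimeSpectrum k[T;T⁻¹]) = 1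
  rw [PrimeSpectrum.topologicalKrullDim_eq_ringKrullDim]
  exact ringKrullDim_laurent k

include e in
/-- `H^q(G_m, G_m) = 0` for `q > 0` over an algebraically closed field. -/
theorem subsingleton_H_Gm [IsAlgClosed k] (q : ℕ) (hq : 0 < q) :
    Subsingleton (EtCoh.H X (EtCoh.Gm X) q) := by
  rcases Nat.lt_or_ge q 2 with h | h
  · obtain rfl : q = 1 := by omega
    exact subsingleton_H1_Gm e ⟨isDomain_laurent k, ufd_laurent k⟩
  · have h1 : Smooth (str e) := by unfold str; infer_instance
    have h2 : IsAffine X := .of_isIso e.hom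
    have hne : Nonempty X := ⟨e.inv (Classical.arbitrary _)⟩
    have h3 : IsIntegral X := isIntegral_of_isOpenImmersion e.hom
    have h4 : IsSeparated (str e) := by unfold str; infer_instance
    have h5 : QuasiCompact (str e) := by unfold str; infer_instance
    exact S0227.result k X (str e) (topologicalKrullDim_eq e) q h

end Curve

end Groth.Agent.Dix.K282.LaurGeo
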