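import Groth.Agent.EtpbcB.EdgeLemma

/-!
# Lifting sections of `R² ` under an injectivity hypothesis in degree three

`L ⊣ R`, `L` exact, `edge adj A N n : Ext A (R N) n →+ Ext (L A) N n`.

* `exists_lift_coker`: if `edge` is injective in degree `2` for `X₁`, then maps from `A` to the cokernel of
  `R X₂ ⟶ R X₃` lift to `R X₃` (`X₂` injective).
* `edge_two_injective`: if `R X₂ ⟶ R X₃` is an epimorphism and `edge` is injective in degree `3` for `X₁`, then it is
  injective in degree `2` for `X₃`.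
-/

set_option autoImplicit false

universe w w' v v' u u'

open CategoryTheory CategoryTheory.Limits CategoryTheory.Abelian

namespace Groth.Agent.Dix.K282.LiftEdge

open Groth.Agent.EtpbcB.EdgeLemma

variable {C : Type u} [Category.{v} C] [Abelian C] [HasExt.{w} C]
variable {D : Type u'} [Category.{v'} D] [Abelian D] [HasExt.{w'} D]
variable {L : C ⥤ D} {R : D ⥤ C} [L.Additive] [PreservesFiniteLimits L] [PreservesFiniteColimits L]
variable (adj : L ⊣ R) [R.Additive] [PreservesFiniteLimits R]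
variable {S : ShortComplex D} (hS : S.ShortExact)

include hS in
theorem exists_lift_coker_kap (A : C) [Injective S.X₂]
    (h2 : Function.Injective (edge.{w, w'} adj A S.X₁ 2)) (φ : A ⟶ cokernel (kap R S)) :
    ∃ g : A ⟶ R.obj S.X₃, g ≫ cokernel.π (kap R S) = φ := by
  have hδ : (Ext.mk₀ φ).comp (shortExact_K (R := R) hS).extClass (zero_add 1) = 0 := by
    apply kap_inj adj hS A 0 h2
    rw [Ext.comp_assoc_of_third_deg_zero]
    have : (shortExact_K (R := R) hS).extClass.comp (Ext.mk₀ (kap R S)) (add_zero 1) = 0 :=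
      (shortExact_K (R := R) hS).extClass_comp
    erw [this]
    exact Ext.comp_zero (Ext.mk₀ φ) _ _ _ _
  obtain ⟨g, hg⟩ := Ext.covariant_sequence_exact₃ A (shortExact_K (R := R) hS) _ (rfl : 0 + 1 = 1) hδ
  obtain ⟨g, rfl⟩ := (Ext.mk₀_bijective _ _).2 g
  rw [Ext.mk₀_comp_mk₀] at hg
  exact ⟨g, (Ext.mk₀_bijective _ _).1 hg⟩

include hS in
theorem exists_lift_coker (A : C) [Injective S.X₂]
    (h2 : Function.Injective (edge.{w, w'} adj A S.X₁ 2)) (φ : A ⟶ cokernel (R.map S.g)) :
    ∃ g : A ⟶ R.obj S.X₃, g ≫ cokernel.π (R.map S.g) = φ := by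
  let c : cokernel (R.map S.g) ⟶ cokernel (kap R S) :=
    cokernel.desc _ (cokernel.π (kap R S)) (by rw [← π_kap, Category.assoc, cokernel.condition,
      comp_zero])
  let c' : cokernel (kap R S) ⟶ cokernel (R.map S.g) :=
    cokernel.desc _ (cokernel.π (R.map S.g)) (by
      rw [← cancel_epi (cokernel.π (R.map S.f)), ← Category.assoc, π_kap, cokernel.condition,
        comp_zero])
  have hc : c ≫ c' = 𝟙 _ := by
    rw [← cancel_epi (cokernel.π (R.map S.g))]
    simp [c, c']
  obtain ⟨g, hg⟩ := exists_lift_coker_kap adj hS A h2 (φ ≫ c)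
  refine ⟨g, ?_⟩
  have h1 : g ≫ cokernel.π (kap R S) ≫ c' = (φ ≫ c) ≫ c' := by rw [← hg, Category.assoc]
  rw [Category.assoc, hc, Category.comp_id, cokernel.π_desc] at h1
  exact h1

include hS in
theorem edge_succ_injective (A : C) [Injective S.X₂] [Epi (R.map S.g)] (n : ℕ)
    (h3 : Function.Injective (edge.{w, w'} adj A S.X₁ (n + 2))) :
    Function.Injective (edge.{w, w'} adj A S.X₃ (n + 1)) := by
  have hRI := injective_R adj S.X₂
  have hm := mono_kap (R := R) hS
  have he : Epi (kap R S) := by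
    have : Epi (cokernel.π (R.map S.f) ≫ kap R S) := by
      rw [π_kap]; infer_instance
    exact epi_of_epi (cokernel.π (R.map S.f)) (kap R S)
  have hi : IsIso (kap R S) := isIso_of_mono_of_epi _
  rw [injective_iff_map_eq_zero]
  intro y hy
  let e : Ext.{w} A (Bc R S) (n + 1) := y.comp (Ext.mk₀ (inv (kap R S))) (add_zero (n + 1))
  have hey : e.comp (Ext.mk₀ (kap R S)) (add_zero (n + 1)) = y := by
    change (y.comp (Ext.mk₀ (inv (kap R S))) (add_zero (n + 1))).comp (Ext.mk₀ (kap R S))
      (add_zero (n + 1)) = y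
    rw [Ext.comp_assoc_of_third_deg_zero, Ext.mk₀_comp_mk₀, IsIso.inv_hom_id, Ext.comp_mk₀_id]
  have h0 : e.comp (shortExact_T (R := R) hS).extClass (rfl : n + 1 + 1 = n + 1 + 1) = 0 := by
    apply h3
    rw [map_zero, edge_delta adj hS A (n + 1), hey, hy, Ext.zero_comp]
  obtain ⟨u, hu⟩ := Ext.covariant_sequence_exact₃ A (shortExact_T (R := R) hS) e rfl h0
  have hu0 : u = 0 := Ext.eq_zero_of_injective u
  rw [← hey, ← hu, hu0, Ext.zero_comp, Ext.zero_comp]

end Groth.Agent.Dix.K282.LiftEdge
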