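import Groth.Agent.Dix.K282.NormRel

/-!
# The norm of global functions along finite locally free morphisms: existence and uniqueness
-/

set_option autoImplicit false
universe u

open CategoryTheory CategoryTheory.Limits AlgebraicGeometry Opposite TensorProduct

namespace K282.NormRel

/-- A finite, finitely presented flat algebra is locally free. -/
theorem exists_away_free {A B : Type u} [CommRing A] [CommRing B] [Algebra A B] [Module.Finite A B]
    [Module.Flat A B] [Algebra.FinitePresentation A B] (q : Ideal A) [q.IsPrime] :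
    ∃ r : A, r ∉ q ∧ Module.Free (Localization.Away r) (Localization.Away r ⊗[A] B) := by
  have : Module.FinitePresentation A B := Module.FinitePresentation.of_finite_of_finitePresentation A B
  have : Module.Free (Localization.AtPrime q) (LocalizedModule q.primeCompl B) := by
    have h1 : Module.Flat (Localization.AtPrime q) (LocalizedModule q.primeCompl B) := inferInstance
    exact Module.free_of_flat_of_isLocalRing
  obtain ⟨r, hr, h1, -⟩ := Module.FinitePresentation.exists_free_localizedModule_powers q.primeCompl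
    (LocalizedModule.mkLinearMap q.primeCompl B) (Localization.AtPrime q)
  refine ⟨r, hr, ?_⟩
  exact Module.Free.of_equiv (LocalizedModule.equivTensorProduct (Submonoid.powers r) B)

theorem hasBas_ofHom (A B : Type u) [CommRing A] [CommRing B] [i : Algebra A B] [Module.Free A B]
    [Module.Finite A B] : ∃ n, HasBas (CommRingCat.ofHom (algebraMap A B)) n := by
  have e : (CommRingCat.ofHom (algebraMap A B)).hom.toAlgebra = i :=
    Algebra.algebra_ext _ _ fun r => rfl
  refine ⟨Fintype.card (Module.Free.ChooseBasisIndex A B), ?_⟩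
  have h : ∀ (m : ℕ), Nonempty (Module.Basis (Fin m) A B) → ∀ j : Algebra A B, j = i →
      Nonempty (@Module.Basis (Fin m) A B _ _ j.toModule) := by
    rintro m hm j rfl
    exact hm
  exact h _ ⟨(Module.Free.chooseBasis A B).reindex (Fintype.equivFin _)⟩ _ e

variable {X Y : Scheme.{u}}

/-- Charts over which `f` is free. -/
theorem exists_chart (f : X ⟶ Y) [IsFinite f] [Flat f] [LocallyOfFinitePresentation f] (p : Y) :
    ∃ (A B : CommRingCat.{u}) (φ : A ⟶ B) (t : Spec A ⟶ Y) (s : Spec B ⟶ X),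
      IsOpenImmersion t ∧ p ∈ Set.range t ∧ IsPullback s (Spec.map φ) f t ∧ ∃ n, HasBas φ n := by
  obtain ⟨A, u, hu, z, rfl⟩ := Scheme.exists_Spec_apply_eq p
  let f0 := pullback.snd f u
  have : IsAffine (pullback f u) := isAffine_of_isAffineHom f0
  let B := Γ(pullback f u, ⊤)
  let φ : A ⟶ B := Spec.preimage ((pullback f u).isoSpec.inv ≫ f0)
  have hφ : Spec.map φ = (pullback f u).isoSpec.inv ≫ f0 := Spec.map_preimage _
  have hpb : IsPullback ((pullback f u).isoSpec.inv ≫ pullback.fst f u) (Spec.map φ) f u := by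
    refine (IsPullback.of_hasPullback f u).of_iso (pullback f u).isoSpec (Iso.refl _) (Iso.refl _)
      (Iso.refl _) ?_ ?_ ?_ ?_
    · simp
    · rw [hφ]
      simp [f0]
    · simp
    · simp
  have h1 : IsFinite (Spec.map φ) := by rw [hφ]; infer_instance
  have h2 : Flat (Spec.map φ) := by rw [hφ]; infer_instance
  have h3 : LocallyOfFinitePresentation (Spec.map φ) := by rw [hφ]; infer_instance
  have k1 : φ.hom.Finite := (IsFinite.SpecMap_iff _).1 h1
  have k2 : φ.hom.Flat := Flat.SpecMap_iff.1 h2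
  have k3 : φ.hom.FinitePresentation := (HasRingHomProperty.Spec_iff (P := @LocallyOfFinitePresentation)).1 h3
  letI i1 : Algebra A B := φ.hom.toAlgebra
  haveI : Module.Finite A B := k1
  haveI : Module.Flat A B := k2
  haveI : Algebra.FinitePresentation A B := k3
  obtain ⟨r, hr, hfree⟩ := exists_away_free (A := A) (B := B) z.asIdeal
  let A' : CommRingCat.{u} := CommRingCat.of (Localization.Away r)
  let B' : CommRingCat.{u} := CommRingCat.of (Localization.Away r ⊗[A] B)
  let τ : A ⟶ A' := CommRingCat.ofHom (algebraMap A (Localization.Away r))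
  let σ : B ⟶ B' := CommRingCat.ofHom (Algebra.TensorProduct.includeRight.toRingHom : B →+* Localization.Away r ⊗[A] B)
  let φ' : A' ⟶ B' := CommRingCat.ofHom (algebraMap (Localization.Away r) (Localization.Away r ⊗[A] B))
  have hpo : IsPushout φ τ σ φ' := (CommRingCat.isPushout_tensorProduct A (Localization.Away r) B).flip
  have hp2 : IsPullback (Spec.map σ) (Spec.map φ') (Spec.map φ) (Spec.map τ) := 
    (isPullback_SpecMap_of_isPushout _ _ _ _ hpo)
  refine ⟨A', B', φ', Spec.map τ ≫ u, Spec.map σ ≫ (pullback f u).isoSpec.inv ≫ pullback.fst f u, ?_, ?_,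
    hp2.paste_horiz hpb, ?_⟩
  · have : IsOpenImmersion (Spec.map τ) :=
      inferInstanceAs (IsOpenImmersion (Spec.map (CommRingCat.ofHom (algebraMap A (Localization.Away r)))))
    infer_instance
  · have h5 : z ∈ Set.range (Spec.map τ) := by
      have := PrimeSpectrum.localization_away_comap_range (Localization.Away r) r
      change z ∈ Set.range (PrimeSpectrum.comap (algebraMap A (Localization.Away r)))
      rw [this]
      exact hr
    obtain ⟨w, hw⟩ := h5
    refine ⟨w, ?_⟩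
    rw [Scheme.Hom.comp_apply, hw]
  · have : Module.Finite (Localization.Away r) (Localization.Away r ⊗[A] B) := inferInstance
    exact hasBas_ofHom (Localization.Away r) (Localization.Away r ⊗[A] B)

theorem sep_pt {y y' : Γ(Y, ⊤)} (h : ∀ p : Y, ∃ (A : CommRingCat.{u}) (t : Spec A ⟶ Y),
    IsOpenImmersion t ∧ p ∈ Set.range t ∧ ev t y = ev t y') : y = y' := by
  choose A t h1 h2 h3 using h
  refine sep (Scheme.Cover.mkOfCovers (↥Y) (fun p => Spec (A p)) t (fun p => ⟨p, h2 p⟩) h1) fun p => ?_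
  exact (ConcreteCategory.bijective_of_isIso (Scheme.ΓSpecIso (A p)).hom).1 (h3 p)

theorem IsNm.unique {f : X ⟶ Y} [IsFinite f] [Flat f] [LocallyOfFinitePresentation f] {x : Γ(X, ⊤)}
    {y y' : Γ(Y, ⊤)} (h : IsNm f x y) (h' : IsNm f x y') : y = y' := by
  refine sep_pt fun p => ?_
  obtain ⟨A, B, φ, t, s, h1, h2, hs, n, hn⟩ := exists_chart f p
  exact ⟨A, t, h1, h2, by rw [h φ _ _ hs n hn, h' φ _ _ hs n hn]⟩

theorem isPushout_of_spec {A B A' B' : CommRingCat.{u}} {φ : A ⟶ B} {τ : A ⟶ A'} {σ : B ⟶ B'}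
    {φ' : A' ⟶ B'} (hs : IsPullback (Spec.map σ) (Spec.map φ') (Spec.map φ) (Spec.map τ)) :
    IsPushout φ τ σ φ' := by
  have hpb : IsPullback (Scheme.Spec.map σ.op) (Scheme.Spec.map φ'.op) (Scheme.Spec.map φ.op)
    (Scheme.Spec.map τ.op) := hs
  have w : σ.op ≫ φ.op = φ'.op ≫ τ.op := by
    apply Scheme.Spec.map_injective
    rw [Functor.map_comp, Functor.map_comp]
    exact hs.w
  exact (IsPullback.of_map Scheme.Spec w hpb).unop.flip

theorem ev_id_symm {A : CommRingCat.{u}} (a : A) : ev (𝟙 (Spec A)) ((Scheme.ΓSpecIso A).inv.hom a) = a := by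
  simp [ev]

theorem ev_symm {A A' : CommRingCat.{u}} (τ : A ⟶ A') (a : A) :
    ev (Spec.map τ) ((Scheme.ΓSpecIso A).inv.hom a) = τ.hom a := by
  have := ev_specMap τ (𝟙 (Spec A)) ((Scheme.ΓSpecIso A).inv.hom a)
  rwa [Category.comp_id, ev_id_symm] at this

/-- The norm over a ring. -/
theorem isNm_specMap {A B : CommRingCat.{u}} (φ : A ⟶ B) {n : ℕ} (hn : HasBas φ n)
    (x : Γ(Spec B, ⊤)) : IsNm (Spec.map φ) x ((Scheme.ΓSpecIso A).inv.hom (nrm φ (ev (𝟙 _) x))) := by
  intro A' B' φ' t s hs m hm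
  obtain ⟨τ, rfl⟩ := Spec.map_surjective t
  obtain ⟨σ, rfl⟩ := Spec.map_surjective s
  obtain ⟨-, h1⟩ := nrm_pushout (isPushout_of_spec hs) hn
  have h3 : ev (Spec.map σ) x = σ.hom (ev (𝟙 _) x) := by
    simpa using ev_specMap σ (𝟙 _) x
  rw [ev_symm, h3, h1]

theorem exists_factor {U : Scheme.{u}} {A : CommRingCat.{u}} (t : Spec A ⟶ Y) (u : U ⟶ Y) [IsOpenImmersion u]
    (q : Spec A) (hq : t q ∈ Set.range u) : ∃ (A' : CommRingCat.{u}) (τ : A ⟶ A') (v : Spec A' ⟶ U),
      IsOpenImmersion (Spec.map τ) ∧ q ∈ Set.range (Spec.map τ) ∧ Spec.map τ ≫ t = v ≫ u := by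
  obtain ⟨z, hz⟩ := hq
  obtain ⟨w, hw1, hw2⟩ := Scheme.Pullback.exists_preimage_pullback (f := t) (g := u) q z hz.symm
  obtain ⟨A', i, hi, c, hc⟩ := Scheme.exists_Spec_apply_eq w
  obtain ⟨τ, hτ⟩ := Spec.map_surjective (i ≫ pullback.fst t u)
  refine ⟨A', τ, i ≫ pullback.snd t u, ?_, ⟨c, ?_⟩, ?_⟩
  · rw [hτ]; infer_instance
  · rw [hτ, Scheme.Hom.comp_apply]
    exact (congrArg _ hc).trans hw1
  · rw [hτ, Category.assoc, Category.assoc, pullback.condition]

/-- Norms may be tested locally on the target. -/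
theorem isNm_of_cover {f : X ⟶ Y} {x : Γ(X, ⊤)} {y : Γ(Y, ⊤)}
    (h : ∀ p : Y, ∃ (U V : Scheme.{u}) (u : U ⟶ Y) (v : V ⟶ X) (g : V ⟶ U), IsOpenImmersion u ∧
      p ∈ Set.range u ∧ IsPullback v g f u ∧ IsNm g (v.appTop.hom x) (u.appTop.hom y)) : IsNm f x y := by
  intro A B φ t s hs n hn
  have key : t.appTop.hom y = (Scheme.ΓSpecIso A).inv.hom (nrm φ (ev s x)) := by
    refine sep_pt fun q => ?_
    obtain ⟨U, V, u, v, g, hu, hp, hpb, hN⟩ := h (t q)
    obtain ⟨A', τ, w, h1, h2, h3⟩ := exists_factor t u q hp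
    refine ⟨A', Spec.map τ, h1, h2, ?_⟩
    rw [ev_symm, ← ev_comp, h3]
    obtain ⟨B', σ, φ', hpo⟩ : ∃ (B' : CommRingCat.{u}) (σ : B ⟶ B') (φ' : A' ⟶ B'), IsPushout φ τ σ φ' :=
      ⟨_, _, _, IsPushout.of_hasPushout φ τ⟩
    have hpb1 : IsPullback (Spec.map σ) (Spec.map φ') (Spec.map φ) (Spec.map τ) :=
      isPullback_SpecMap_of_isPushout _ _ _ _ hpo
    have hpb2 : IsPullback (Spec.map σ ≫ s) (Spec.map φ') f (w ≫ u) := by
      rw [← h3]
      exact hpb1.paste_horiz hs
    obtain ⟨l, hl1, hl2⟩ := hpb.exists_lift (Spec.map σ ≫ s) (Spec.map φ' ≫ w) (by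
      rw [hpb2.w, Category.assoc])
    have hpb3 : IsPullback l (Spec.map φ') g w := by
      refine IsPullback.of_right (h₁₂ := v) (h₂₂ := u) (v₁₃ := f) ?_ hl2 hpb
      rw [hl1]
      exact hpb2
    obtain ⟨h5, h6⟩ := nrm_pushout hpo hn
    have h7 := hN φ' w l hpb3 n h5
    rw [← ev_comp, ← ev_comp, hl1] at h7
    rw [h7, ev_specMap, h6]
  have h2 := congrArg (ev (𝟙 (Spec A))) key
  rw [ev_id_symm, ← ev_comp, Category.id_comp] at h2
  exact h2

/-- Norms exist. -/
theorem exists_isNm (f : X ⟶ Y) [IsFinite f] [Flat f] [LocallyOfFinitePresentation f] (x : Γ(X, ⊤)) :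
    ∃ y, IsNm f x y := by
  choose A B φ t s h1 h2 h3 n hn using exists_chart f
  let 𝒰 : Y.OpenCover := Scheme.Cover.mkOfCovers (↥Y) (fun p => Spec (A p)) t (fun p => ⟨p, h2 p⟩) h1
  let a : ∀ p, Γ(Spec (A p), ⊤) := fun p =>
    (Scheme.ΓSpecIso (A p)).inv.hom (nrm (φ p) (ev (𝟙 _) ((s p).appTop.hom x)))
  have ha : ∀ p, IsNm (Spec.map (φ p)) ((s p).appTop.hom x) (a p) := fun p =>
    isNm_specMap (φ p) (hn p) _
  have hc : ∀ p q : Y, (pullback.fst (t p) (t q)).appTop.hom (a p) =
      (pullback.snd (t p) (t q)).appTop.hom (a q) := by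
    intro p q
    let g := pullback.snd f (pullback.fst (t p) (t q) ≫ t p)
    have sq : IsPullback (pullback.fst f (pullback.fst (t p) (t q) ≫ t p)) g f
        (pullback.fst (t p) (t q) ≫ t p) := IsPullback.of_hasPullback _ _
    have sq' : IsPullback (pullback.fst f (pullback.fst (t p) (t q) ≫ t p)) g f
        (pullback.snd (t p) (t q) ≫ t q) := by
      rw [← pullback.condition]
      exact sq
    obtain ⟨l, hl1, hl2⟩ := (h3 p).exists_lift (pullback.fst f (pullback.fst (t p) (t q) ≫ t p))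
      (g ≫ pullback.fst (t p) (t q)) (by rw [sq.w, Category.assoc])
    obtain ⟨m, hm1, hm2⟩ := (h3 q).exists_lift (pullback.fst f (pullback.fst (t p) (t q) ≫ t p))
      (g ≫ pullback.snd (t p) (t q)) (by rw [sq'.w, Category.assoc])
    have hL : IsPullback l g (Spec.map (φ p)) (pullback.fst (t p) (t q)) := by
      refine IsPullback.of_right (h₁₂ := s p) (h₂₂ := t p) (v₁₃ := f) ?_ hl2 (h3 p)
      rw [hl1]
      exact sq
    have hM : IsPullback m g (Spec.map (φ q)) (pullback.snd (t p) (t q)) := by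
      refine IsPullback.of_right (h₁₂ := s q) (h₂₂ := t q) (v₁₃ := f) ?_ hm2 (h3 q)
      rw [hm1]
      exact sq'
    have e1 := (ha p).bc hL
    have e2 := (ha q).bc hM
    have e3 : l.appTop.hom ((s p).appTop.hom x) = m.appTop.hom ((s q).appTop.hom x) := by
      have : l ≫ s p = m ≫ s q := by rw [hl1, hm1]
      have h4 : (l ≫ s p).appTop.hom x = (m ≫ s q).appTop.hom x := by rw [this]
      simpa [Scheme.Hom.comp_appTop] using h4
    rw [e3] at e1
    exact e1.unique e2
  obtain ⟨y, hy⟩ := glue 𝒰 a hc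
  refine ⟨y, isNm_of_cover fun p => ⟨Spec (A p), Spec (B p), t p, s p, Spec.map (φ p), h1 p, h2 p, h3 p, ?_⟩⟩
  have h5 : (t p).appTop.hom y = a p := hy p
  rw [h5]
  exact ha p

end K282.NormRel
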