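import Groth.Agent.Dix.K282.NormChart
import Groth.Prelude.Def_EtLim

/-!
# The norm map `f_* G_m ⟶ G_m` of a finite locally free morphism on the small étale site

* `nm f : Γ(X, O) →* Γ(Y, O)`, `nm_bc` (base change), `nm_appTop` (`nm (f^# y) = y ^ d`);
* `normGm f : (EtCoh.push f).obj (EtCoh.Gm X) ⟶ EtCoh.Gm Y` and
  `GmPush_normGm : EtLim.GmPush f ≫ normGm f = d • 𝟙 _` for `f` of constant degree `d`.
-/

set_option autoImplicit false
universe u

open CategoryTheory CategoryTheory.Limits AlgebraicGeometry Opposite TensorProduct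

namespace K282.NormGm

open K282.NormRel

variable {X Y : Scheme.{u}} (f : X ⟶ Y) [IsFinite f] [Flat f] [LocallyOfFinitePresentation f]

/-- The norm of functions. -/
noncomputable def nm : Γ(X, ⊤) →* Γ(Y, ⊤) where
  toFun x := (exists_isNm f x).choose
  map_one' := (exists_isNm f 1).choose_spec.unique (isNm_one f)
  map_mul' x y := (exists_isNm f (x * y)).choose_spec.unique
    ((exists_isNm f x).choose_spec.mul (exists_isNm f y).choose_spec)

theorem isNm_nm (x : Γ(X, ⊤)) : IsNm f x (nm f x) := (exists_isNm f x).choose_spec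

theorem nm_bc {X' Y' : Scheme.{u}} {f' : X' ⟶ Y'} [IsFinite f'] [Flat f'] [LocallyOfFinitePresentation f']
    {g' : X' ⟶ X} {g : Y' ⟶ Y} (sq : IsPullback g' f' f g) (x : Γ(X, ⊤)) :
    nm f' (g'.appTop.hom x) = g.appTop.hom (nm f x) :=
  (isNm_nm f' _).unique ((isNm_nm f x).bc sq)

theorem finrank_eq {A B : CommRingCat.{u}} [Nontrivial A] {φ : A ⟶ B} {n : ℕ} (hn : HasBas φ n) (p : Spec A) :
    (Spec.map φ).finrank p = n := by
  letI i1 : Algebra A B := φ.hom.toAlgebra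
  obtain ⟨b⟩ := hn
  haveI : Module.Free A B := Module.Free.of_basis b
  haveI : Module.Finite A B := Module.Finite.of_basis b
  have h1 := Scheme.Hom.finrank_SpecMap_algebraMap (↑A) (↑B) p
  have h2 : Spec.map (CommRingCat.ofHom (algebraMap A B)) = Spec.map φ := rfl
  rw [h2] at h1
  rw [h1, Module.rankAtStalk_eq_finrank_of_free]
  have h3 := Module.finrank_eq_card_basis b
  rw [Fintype.card_fin] at h3
  rw [h3]
  rfl

theorem isNm_pow {d : ℕ} (hd : ∀ y : Y, f.finrank y = d) (y : Γ(Y, ⊤)) :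
    IsNm f (f.appTop.hom y) (y ^ d) := by
  intro A B φ t s hs n hn
  rw [← ev_comp, hs.w, ev_specMap, nrm_self hn]
  have h1 : ev t (y ^ d) = ev t y ^ d := by simp [ev]
  rw [h1]
  by_cases hA : Nontrivial A
  · have h2 : d = n := by
      obtain ⟨p⟩ : Nonempty (PrimeSpectrum A) := inferInstance
      have h3 := Scheme.Hom.finrank_of_isPullback s (Spec.map φ) f t hs p
      rw [finrank_eq hn, hd] at h3
      exact h3.symm
    rw [h2]
  · have : Subsingleton A := not_nontrivial_iff_subsingleton.1 hA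
    exact Subsingleton.elim _ _

theorem nm_appTop {d : ℕ} (hd : ∀ y : Y, f.finrank y = d) (y : Γ(Y, ⊤)) :
    nm f (f.appTop.hom y) = y ^ d :=
  (isNm_nm f _).unique (isNm_pow f hd y)

/-- The norm on units, additively, one universe up. -/
noncomputable def nmU : EtCoh.ΓUnits.{u}.obj (op X) ⟶ EtCoh.ΓUnits.{u}.obj (op Y) :=
  AddCommGrpCat.uliftFunctor.{u + 1}.map
    (AddCommGrpCat.ofHom (MonoidHom.toAdditive (Units.map (nm f))))

theorem nmU_down (x : EtCoh.ΓUnits.{u}.obj (op X)) :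
    (Additive.toMul (ULift.down ((nmU f).hom x) : Additive (Γ(Y, ⊤))ˣ) : (Γ(Y, ⊤))ˣ) =
      Units.map (nm f) (Additive.toMul (ULift.down x : Additive (Γ(X, ⊤))ˣ)) := rfl

theorem units_down {X Y : Scheme.{u}} (g : X ⟶ Y) (x : EtCoh.ΓUnits.{u}.obj (op Y)) :
    (Additive.toMul (ULift.down ((EtCoh.ΓUnits.map g.op).hom x) : Additive (Γ(X, ⊤))ˣ) : (Γ(X, ⊤))ˣ) =
      Units.map (g.appTop.hom : Γ(Y, ⊤) →* Γ(X, ⊤)) (Additive.toMul (ULift.down x : Additive (Γ(Y, ⊤))ˣ)) := rfl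

theorem ext_units {X : Scheme.{u}} {x y : EtCoh.ΓUnits.{u}.obj (op X)}
    (h : ((Additive.toMul (ULift.down x : Additive (Γ(X, ⊤))ˣ) : (Γ(X, ⊤))ˣ) : Γ(X, ⊤)) =
      ((Additive.toMul (ULift.down y : Additive (Γ(X, ⊤))ˣ) : (Γ(X, ⊤))ˣ) : Γ(X, ⊤))) : x = y := by
  apply ULift.down_injective
  apply Additive.toMul.injective
  exact Units.ext h

theorem nmU_bc {X' Y' : Scheme.{u}} {f' : X' ⟶ Y'} [IsFinite f'] [Flat f'] [LocallyOfFinitePresentation f']
    {g' : X' ⟶ X} {g : Y' ⟶ Y} (sq : IsPullback g' f' f g) :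
    EtCoh.ΓUnits.map g'.op ≫ nmU f' = nmU f ≫ EtCoh.ΓUnits.map g.op := by
  ext x
  apply ext_units
  exact nm_bc f sq _

/-- The projection `U ×_Y X ⟶ U`. -/
noncomputable def pr (U : Y.Etale) : ((EtCoh.bc f).obj U).left ⟶ U.left :=
  pullback.fst U.hom f

set_option backward.isDefEq.respectTransparency.types false in
instance (U : Y.Etale) : IsFinite (pr f U) :=
  inferInstanceAs (IsFinite (pullback.fst (U.hom : U.left ⟶ Y) f))

set_option backward.isDefEq.respectTransparency.types false in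
instance (U : Y.Etale) : Flat (pr f U) :=
  inferInstanceAs (Flat (pullback.fst (U.hom : U.left ⟶ Y) f))

set_option backward.isDefEq.respectTransparency.types false in
instance (U : Y.Etale) : LocallyOfFinitePresentation (pr f U) :=
  inferInstanceAs (LocallyOfFinitePresentation (pullback.fst (U.hom : U.left ⟶ Y) f))

theorem isPullback_pr {U V : Y.Etale} (g : V ⟶ U) :
    IsPullback ((EtCoh.bc f).map g).left (pr f V) (pr f U) g.left := EtCoh.isPullback_bc_map f g

/-- The norm on sections over `U`. -/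
noncomputable def nmE (U : Y.Etale) :
    EtCoh.ΓUnits.{u}.obj (op ((EtCoh.bc f).obj U).left) ⟶ EtCoh.ΓUnits.{u}.obj (op U.left) :=
  nmU (pr f U)

theorem nmE_nat {U V : Y.Etale} (g : V ⟶ U) :
    EtCoh.ΓUnits.map ((EtCoh.bc f).map g).left.op ≫ nmE f V = nmE f U ≫ EtCoh.ΓUnits.map g.left.op :=
  nmU_bc (pr f U) (isPullback_pr f g)

/-- The norm map `f_* G_m ⟶ G_m`. -/
noncomputable def normGm : (EtCoh.push f).obj (EtCoh.Gm X) ⟶ EtCoh.Gm Y :=
  ⟨{ app := fun U => nmE f U.unop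
     naturality := fun U V g => nmE_nat f g.unop }⟩

theorem map_nmU {d : ℕ} (hd : ∀ y : Y, f.finrank y = d) :
    EtCoh.ΓUnits.map f.op ≫ nmU f = d • 𝟙 _ := by
  ext x
  apply ext_units
  refine (nm_appTop f hd _).trans ?_
  rfl

theorem finrank_pr {d : ℕ} (hd : ∀ y : Y, f.finrank y = d) (U : Y.Etale) (y : U.left) :
    (pr f U).finrank y = d := by
  have h := Scheme.Hom.finrank_of_isPullback _ _ _ _ (IsPullback.of_hasPullback U.hom f).flip y
  exact h.trans (hd _)

theorem map_nmE {d : ℕ} (hd : ∀ y : Y, f.finrank y = d) (U : Y.Etale) :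
    EtCoh.ΓUnits.map (pr f U).op ≫ nmE f U = d • 𝟙 _ := map_nmU (pr f U) (finrank_pr f hd U)

theorem GmPush_normGm {d : ℕ} (hd : ∀ y : Y, f.finrank y = d) :
    EtLim.GmPush f ≫ normGm f = d • 𝟙 (EtCoh.Gm Y) := by
  apply Sheaf.hom_ext
  have h1 : ((d • 𝟙 (EtCoh.Gm Y) : EtCoh.Gm Y ⟶ EtCoh.Gm Y)).hom = d • 𝟙 (EtCoh.Gm Y).obj := rfl
  rw [h1]
  apply NatTrans.ext
  funext U
  rw [NatTrans.app_nsmul]
  exact map_nmE f hd U.unop

end K282.NormGm
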