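import Groth.Agent.Dix.K282.GeoVan

/-!
# The edge map for a pointed algebra
-/

set_option autoImplicit false
universe u
open CategoryTheory CategoryTheory.Limits AlgebraicGeometry Opposite TensorProduct
open scoped Groth.Agent.Etcore.EtInst
open Groth.Agent.Etcore.EtInst

namespace Groth.Agent.Dix.K282.Pointed

open Groth.Agent.Lefpen.H365.FieldPts
open Groth.Agent.Dix.K282.PMap Groth.Agent.Dix.K282.AlgStk Groth.Agent.Dix.K282.GeoVan
  Groth.Agent.Dix.K282.Assemble

attribute [local instance] Groth.Agent.S0101.result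

variable {K : Type u} [Field K] {A : Type u} [CommRing A] [Algebra K A]

/-- The edge map of a pointed algebra is injective if it is so on the kernel of evaluation at the point. -/
theorem eH_injective_of_ker (ε : A →ₐ[K] K) (n : ℕ)
    (hker : ∀ y : HH _ (KK ε) (n + 1),
      eH (sp K A) (EtCoh.Gm (Spec (CommRingCat.of A))) (n + 1) (HHmap (kernel.ι _) (n + 1) y) = 0 → y = 0) :
    Function.Injective (eH (sp K A) (EtCoh.Gm (Spec (CommRingCat.of A))) (n + 1)) := by
  rw [injective_iff_map_eq_zero]
  intro x hx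
  have hfin : IsFinite (sp K K) := isFinite_self
  have h1 : HHmap (Pmap (sm ε) (sp K A) (sp K K) (sm_sp ε)) (n + 1) x = 0 := by
    apply eH_injective_of_isFinite (sp K K) (EtCoh.Gm (Spec (CommRingCat.of K))) n
    rw [map_zero, eH_Pmap, hx, map_zero]
  obtain ⟨y, hy⟩ := exists_map_ker _ _ (Pmap_split ε (Algebra.ofId K A) (Subsingleton.elim _ _)) (n + 1) x h1
  rw [← hy, hker y (by rw [hy, hx]), map_zero]

end Groth.Agent.Dix.K282.Pointed
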