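import Mathlib.Algebra.MonoidAlgebra.NoZeroDivisors
import Mathlib.Algebra.MonoidAlgebra.Basic
import Mathlib.Algebra.Group.UniqueProds.VectorSpace

/-!
# Units of group algebras
-/

set_option autoImplicit false
universe u v

namespace Groth.Agent.Dix.K282.UnitsMA

open MonoidAlgebra Finset

variable {k : Type u} {G : Type v} [Field k] [CommGroup G] [TwoUniqueProds G]

/-- The units of a group algebra of a group with two unique products are trivial. -/
theorem exists_eq_single (a b : MonoidAlgebra k G) (h : a * b = 1) :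
    ∃ (g : G) (c : k), c ≠ 0 ∧ a = single g c := by
  classical
  have ha : a ≠ 0 := fun h0 => by
    rw [h0, zero_mul] at h
    exact one_ne_zero h.symm
  have hb : b ≠ 0 := fun h0 => by
    rw [h0, mul_zero] at h
    exact one_ne_zero h.symm
  have hA : 0 < #a.coeff.support := by
    rw [Finset.card_pos, Finsupp.support_nonempty_iff]
    simpa using ha
  have hB : 0 < #b.coeff.support := by
    rw [Finset.card_pos, Finsupp.support_nonempty_iff]
    simpa using hb
  have key : ¬ 1 < #a.coeff.support * #b.coeff.support := by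
    intro h1
    obtain ⟨p, hp, q, hq, hne, hu, hv⟩ := TwoUniqueProds.uniqueMul_of_one_lt_card h1
    rw [Finset.mem_product, Finsupp.mem_support_iff, Finsupp.mem_support_iff] at hp hq
    have h2 : ∀ r : G × G, a.coeff r.1 ≠ 0 ∧ b.coeff r.2 ≠ 0 →
        UniqueMul a.coeff.support b.coeff.support r.1 r.2 → r.1 * r.2 = 1 := by
      intro r hr hr'
      by_contra hr1
      have h3 := coeff_mul_mul_of_uniqueMul hr'
      rw [h, one_def, coeff_single, Finsupp.single_apply, if_neg (fun h4 => hr1 h4.symm)] at h3
      exact mul_ne_zero hr.1 hr.2 h3.symm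
    have h3 := h2 p hp hu
    have h4 := h2 q hq hv
    have h5 := hu (Finsupp.mem_support_iff.2 hq.1) (Finsupp.mem_support_iff.2 hq.2) (h4.trans h3.symm)
    exact hne (Prod.ext h5.1 h5.2).symm
  have hA1 : #a.coeff.support = 1 := by
    by_contra h1
    apply key
    have h2 : 2 ≤ #a.coeff.support := by omega
    exact lt_of_lt_of_le (by norm_num) (Nat.mul_le_mul h2 hB)
  rw [Finset.card_eq_one] at hA1
  obtain ⟨g, hg⟩ := hA1
  refine ⟨g, a.coeff g, ?_, ?_⟩
  · rw [← Finsupp.mem_support_iff, hg]
    exact Finset.mem_singleton_self g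
  · apply MonoidAlgebra.coeff_injective
    rw [coeff_single]
    exact (Finsupp.support_eq_singleton.1 hg).2

variable (k G) in
/-- A description of a pointed `k`-algebra as a group algebra; all values `m g` are `1` at the point. -/
structure Spl {R : Type*} [CommRing R] [Algebra k R] (pt : R →ₐ[k] k) where
  /-- the monomials -/
  m : G →* Rˣ
  pt_m : ∀ g, pt (m g : R) = 1
  bij : Function.Bijective (MonoidAlgebra.lift k R G ((Units.coeHom R).comp m))

section Spl

variable {R : Type*} [CommRing R] [Algebra k R] (pt : R →ₐ[k] k)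

omit [TwoUniqueProds G] in
theorem ext' {R' : Type*} [CommRing R'] [Algebra k R'] {a b : MonoidAlgebra k G →ₐ[k] R'}
    (h : ∀ g, a (single g 1) = b (single g 1)) : a = b :=
  MonoidAlgebra.algHom_ext h (Subsingleton.elim _ _)

omit [TwoUniqueProds G] in
/-- Rescaling the monomials. -/
theorem nonempty_spl (e : R ≃ₐ[k] MonoidAlgebra k G) : Nonempty (Spl k G pt) := by
  let of' : G →* (MonoidAlgebra k G)ˣ := (MonoidAlgebra.of k G).toHomUnits
  let m₀ : G →* Rˣ := (Units.map (e.symm : MonoidAlgebra k G →* R)).comp of'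
  have hm₀ : ∀ g, (m₀ g : R) = e.symm (single g 1) := fun g => rfl
  let c : G →* kˣ := (Units.map (pt : R →* k)).comp m₀
  have hc : ∀ g, ((c g : kˣ) : k) = pt (m₀ g) := fun g => rfl
  let m : G →* Rˣ := (Units.map (algebraMap k R : k →* R)).comp c⁻¹ * m₀
  have hm : ∀ g, (m g : R) = algebraMap k R (((c g)⁻¹ : kˣ) : k) * m₀ g := fun g => rfl
  refine ⟨⟨m, fun g => ?_, ?_⟩⟩
  · rw [hm, map_mul, AlgHom.commutes, ← hc]
    exact Units.inv_mul (c g)
  · let φ : MonoidAlgebra k G →ₐ[k] MonoidAlgebra k G :=
      (e : R →ₐ[k] MonoidAlgebra k G).comp (MonoidAlgebra.lift k R G ((Units.coeHom R).comp m))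
    let ψ : MonoidAlgebra k G →ₐ[k] MonoidAlgebra k G :=
      MonoidAlgebra.lift k _ G
        ((Units.coeHom _).comp ((Units.map (algebraMap k (MonoidAlgebra k G) : k →* _)).comp c * of'))
    have hφ : ∀ g, φ (single g 1) = algebraMap k _ (((c g)⁻¹ : kˣ) : k) * single g 1 := by
      intro g
      change e (MonoidAlgebra.lift k R G ((Units.coeHom R).comp m) (single g 1)) = _
      rw [lift_single, one_smul]
      change e (m g : R) = _
      rw [hm, map_mul, AlgEquiv.commutes, hm₀, AlgEquiv.apply_symm_apply]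
    have hψ : ∀ g, ψ (single g 1) = algebraMap k _ ((c g : kˣ) : k) * single g 1 := by
      intro g
      change MonoidAlgebra.lift k _ G _ (single g 1) = _
      rw [lift_single, one_smul]
      rfl
    have h1 : φ.comp ψ = AlgHom.id k _ := by
      refine ext' fun g => ?_
      change (φ (ψ (single g 1))) = single g 1
      rw [hψ, map_mul, hφ, AlgHom.commutes, ← mul_assoc, ← map_mul, Units.mul_inv, map_one, one_mul]
    have h2 : ψ.comp φ = AlgHom.id k _ := by
      refine ext' fun g => ?_
      change (ψ (φ (single g 1))) = single g 1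
      rw [hφ, map_mul, hψ, AlgHom.commutes, ← mul_assoc, ← map_mul, Units.inv_mul, map_one, one_mul]
    have h3 : Function.Bijective φ := (AlgEquiv.ofAlgHom φ ψ h1 h2).bijective
    exact (Function.Bijective.of_comp_iff' e.bijective _).1 h3

variable {pt} (S : Spl k G pt)

include S in
/-- The units with value `1` at the point are the monomials. -/
theorem Spl.exists_eq (u : Rˣ) (hu : pt u = 1) : ∃ g, u = S.m g := by
  let E : MonoidAlgebra k G ≃ₐ[k] R := AlgEquiv.ofBijective _ S.bij
  have hE : ∀ g c, E (single g c) = c • (S.m g : R) := fun g c => lift_single _ _ _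
  obtain ⟨g, c, hc, h⟩ := exists_eq_single (E.symm (u : R)) (E.symm ((u⁻¹ : Rˣ) : R)) (by
    rw [← map_mul, Units.mul_inv, map_one])
  rw [AlgEquiv.symm_apply_eq, hE] at h
  have h1 : c = 1 := by
    rw [h, map_smul, S.pt_m, smul_eq_mul, mul_one] at hu
    exact hu
  refine ⟨g, Units.ext ?_⟩
  rw [h, h1, one_smul]

omit [TwoUniqueProds G] in
include S in
theorem Spl.m_injective : Function.Injective S.m := by
  intro g h hgh
  have h1 : MonoidAlgebra.lift k R G ((Units.coeHom R).comp S.m) (single g 1) =
      MonoidAlgebra.lift k R G ((Units.coeHom R).comp S.m) (single h 1) := by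
    rw [lift_single, lift_single]
    change (1 : k) • (S.m g : R) = (1 : k) • (S.m h : R)
    rw [hgh]
  exact MonoidAlgebra.of_injective (S.bij.1 h1)

omit [TwoUniqueProds G] in
include S in
theorem Spl.ringHom_ext {R' : Type*} [CommRing R'] (f f' : R →+* R')
    (h1 : ∀ c : k, f (algebraMap k R c) = f' (algebraMap k R c))
    (h2 : ∀ g, f (S.m g : R) = f' (S.m g : R)) : f = f' := by
  have h3 : f.comp (MonoidAlgebra.lift k R G ((Units.coeHom R).comp S.m) : MonoidAlgebra k G →+* R) =
      f'.comp (MonoidAlgebra.lift k R G ((Units.coeHom R).comp S.m) : MonoidAlgebra k G →+* R) := by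
    apply MonoidAlgebra.ringHom_ext
    · intro c
      change f (MonoidAlgebra.lift k R G _ (single 1 c)) = f' (MonoidAlgebra.lift k R G _ (single 1 c))
      rw [lift_single, map_one, Algebra.smul_def, mul_one, h1]
    · intro g
      change f (MonoidAlgebra.lift k R G _ (single g 1)) = f' (MonoidAlgebra.lift k R G _ (single g 1))
      rw [lift_single, one_smul]
      exact h2 g
  ext x
  obtain ⟨y, rfl⟩ := S.bij.2 x
  exact DFunLike.congr_fun h3 y

omit [TwoUniqueProds G] in
include S in
theorem Spl.exists_hom {R' : Type*} [CommRing R'] (i : k →+* R') (χ : G →* R'ˣ) :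
    ∃ f : R →+* R', (∀ c : k, f (algebraMap k R c) = i c) ∧ ∀ g, f (S.m g : R) = χ g := by
  let _ : Algebra k R' := i.toAlgebra
  let E : MonoidAlgebra k G ≃ₐ[k] R := AlgEquiv.ofBijective _ S.bij
  have hE : ∀ g c, E (single g c) = c • (S.m g : R) := fun g c => lift_single _ _ _
  let f : R →ₐ[k] R' := (MonoidAlgebra.lift k R' G ((Units.coeHom R').comp χ)).comp
    (E.symm : R →ₐ[k] MonoidAlgebra k G)
  refine ⟨f, fun c => f.commutes c, fun g => ?_⟩
  have h1 : E.symm (S.m g : R) = single g 1 := by
    rw [AlgEquiv.symm_apply_eq, hE, one_smul]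
  change MonoidAlgebra.lift k R' G _ (E.symm (S.m g : R)) = _
  rw [h1, lift_single, one_smul]
  rfl

end Spl

end Groth.Agent.Dix.K282.UnitsMA
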