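import Groth.Agent.Dix.K282.QuadDesc
import Groth.Agent.Dix.K282.UnitsMA
import Groth.Agent.Dix.K282.Pointed
import Mathlib.LinearAlgebra.FreeModule.PID

/-!
# The norm one torus of a quadratic extension
-/

set_option autoImplicit false
universe u
open TensorProduct

namespace Groth.Agent.Dix.K282.NormOne

open Groth.Agent.Dix.K282.QuadDesc Groth.Agent.Dix.K282.UnitsMA

/-- The data of a quadratic separable closure. -/
structure Quad (K Ω : Type u) [Field K] [Field Ω] [Algebra K Ω] where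
  /-- the conjugation -/
  σ : Ω ≃ₐ[K] Ω
  hσσ : ∀ c, σ (σ c) = c
  hfix : ∀ c, σ c = c → ∃ t : K, algebraMap K Ω t = c
  /-- an imaginary element -/
  i : Ω
  hi : i ≠ 0
  hσi : σ i = -i
  h2 : (2 : Ω) ≠ 0

variable {K Ω : Type u} [Field K] [Field Ω] [Algebra K Ω] (D : Quad K Ω)

variable (Ω) in
/-- The Laurent polynomials over `Ω`. -/
abbrev R₁ := MonoidAlgebra Ω (Multiplicative ℤ)

variable (Ω) in
/-- The monomials. -/
noncomputable def mo : Multiplicative ℤ →* (R₁ Ω)ˣ := (MonoidAlgebra.of Ω (Multiplicative ℤ)).toHomUnits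

theorem mo_val (g : Multiplicative ℤ) : ((mo Ω g : (R₁ Ω)ˣ) : R₁ Ω) = MonoidAlgebra.single g 1 := rfl

theorem single_one' (c : Ω) : (MonoidAlgebra.single (1 : Multiplicative ℤ) c : R₁ Ω) = algebraMap Ω (R₁ Ω) c := rfl

/-- The twisted conjugation. -/
noncomputable def τ : R₁ Ω →+* R₁ Ω :=
  MonoidAlgebra.liftNCRingHom ((algebraMap Ω (R₁ Ω)).comp (D.σ : Ω →+* Ω))
    ((Units.coeHom (R₁ Ω)).comp ((mo Ω).comp (invMonoidHom : Multiplicative ℤ →* Multiplicative ℤ)))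
    (fun _ _ => Commute.all _ _)

theorem τ_algebraMap (c : Ω) : τ D (algebraMap Ω (R₁ Ω) c) = algebraMap Ω (R₁ Ω) (D.σ c) := by
  change MonoidAlgebra.liftNCRingHom _ _ _ (MonoidAlgebra.single 1 c) = _
  rw [MonoidAlgebra.liftNCRingHom_single, map_one, mul_one]
  rfl

theorem τ_mo (g : Multiplicative ℤ) : τ D (mo Ω g : R₁ Ω) = (mo Ω g⁻¹ : R₁ Ω) := by
  change MonoidAlgebra.liftNCRingHom _ _ _ (MonoidAlgebra.single g 1) = _
  rw [MonoidAlgebra.liftNCRingHom_single, map_one, one_mul]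
  rfl

/-- Ring homomorphisms out of `R₁` are determined by the constants and the monomials. -/
theorem ringHom_ext {R' : Type*} [CommRing R'] (f f' : R₁ Ω →+* R')
    (h1 : ∀ c, f (algebraMap Ω (R₁ Ω) c) = f' (algebraMap Ω (R₁ Ω) c))
    (h2 : ∀ g, f (mo Ω g : R₁ Ω) = f' (mo Ω g : R₁ Ω)) : f = f' :=
  MonoidAlgebra.ringHom_ext h1 h2

theorem τ_τ (r : R₁ Ω) : τ D (τ D r) = r := by
  have h : (τ D).comp (τ D) = RingHom.id _ := by
    apply ringHom_ext
    · intro c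
      change τ D (τ D _) = _
      rw [τ_algebraMap, τ_algebraMap, D.hσσ]
      rfl
    · intro g
      change τ D (τ D _) = _
      rw [τ_mo, τ_mo, inv_inv]
      rfl
  exact DFunLike.congr_fun h r

variable (Ω) in
/-- The unit point. -/
noncomputable def pt₁ : R₁ Ω →ₐ[Ω] Ω := MonoidAlgebra.lift Ω Ω (Multiplicative ℤ) 1

theorem pt₁_mo (g : Multiplicative ℤ) : pt₁ Ω (mo Ω g : R₁ Ω) = 1 := by
  change MonoidAlgebra.lift Ω Ω (Multiplicative ℤ) 1 (MonoidAlgebra.single g 1) = 1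
  rw [MonoidAlgebra.lift_single, one_smul]
  rfl

theorem pt₁_τ (r : R₁ Ω) : pt₁ Ω (τ D r) = D.σ (pt₁ Ω r) := by
  have h : ((pt₁ Ω : R₁ Ω →ₐ[Ω] Ω) : R₁ Ω →+* Ω).comp (τ D) =
      (D.σ : Ω →+* Ω).comp ((pt₁ Ω : R₁ Ω →ₐ[Ω] Ω) : R₁ Ω →+* Ω) := by
    apply ringHom_ext
    · intro c
      change pt₁ Ω (τ D _) = D.σ (pt₁ Ω _)
      rw [τ_algebraMap, AlgHom.commutes, AlgHom.commutes]
      rfl
    · intro g
      change pt₁ Ω (τ D _) = D.σ (pt₁ Ω _)
      rw [τ_mo, pt₁_mo, pt₁_mo, map_one]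
  exact DFunLike.congr_fun h r

variable (Ω) in
/-- `R₁` as a pointed group algebra. -/
noncomputable def spl₁ : Spl Ω (Multiplicative ℤ) (pt₁ Ω) where
  m := mo Ω
  pt_m := pt₁_mo
  bij := by
    have h : MonoidAlgebra.lift Ω (R₁ Ω) (Multiplicative ℤ) ((Units.coeHom (R₁ Ω)).comp (mo Ω)) =
        AlgHom.id Ω (R₁ Ω) := by
      refine ext' fun g => ?_
      rw [MonoidAlgebra.lift_single, one_smul]
      rfl
    rw [h]
    exact Function.bijective_id

/-- The fixed algebra. -/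
noncomputable abbrev B : Subalgebra K (R₁ Ω) := fix D.σ (τ D) (τ_algebraMap D)

noncomputable def θ' : (B D) ⊗[K] Ω →ₐ[K] R₁ Ω := θ D.σ (τ D) (τ_algebraMap D)

theorem θ'_tmul (b : B D) (c : Ω) : θ' D (b ⊗ₜ c) = b * algebraMap Ω (R₁ Ω) c := θ_tmul _ _ _ _ _

theorem θ'_bijective : Function.Bijective (θ' D) :=
  θ_bijective D.σ (τ D) (τ_τ D) (τ_algebraMap D) D.i D.hi D.hσi D.h2 D.hfix D.hσσ

/-- `B ⊗ Ω = R₁`. -/
noncomputable def θe : (B D) ⊗[K] Ω ≃+* R₁ Ω := RingEquiv.ofBijective (θ' D).toRingHom (θ'_bijective D)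

/-- The values of `B` at the unit point lie in `K`. -/
noncomputable def z : B D →ₐ[K] K :=
  ((Algebra.botEquivOfInjective (algebraMap K Ω).injective : (⊥ : Subalgebra K Ω) ≃ₐ[K] K) :
    (⊥ : Subalgebra K Ω) →ₐ[K] K).comp
    ((((pt₁ Ω).restrictScalars K).comp (B D).val).codRestrict ⊥ fun b => by
      obtain ⟨t, ht⟩ := D.hfix (pt₁ Ω b) (by
        rw [← pt₁_τ]
        exact congrArg _ b.2)
      exact Algebra.mem_bot.2 ⟨t, ht⟩)

theorem algebraMap_z (b : B D) : algebraMap K Ω (z D b) = pt₁ Ω (b : R₁ Ω) := by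
  have h := ((Algebra.botEquivOfInjective (algebraMap K Ω).injective :
    (⊥ : Subalgebra K Ω) ≃ₐ[K] K).symm_apply_apply
      ((((pt₁ Ω).restrictScalars K).comp (B D).val).codRestrict ⊥ (fun b => by
      obtain ⟨t, ht⟩ := D.hfix (pt₁ Ω b) (by
        rw [← pt₁_τ]
        exact congrArg _ b.2)
      exact Algebra.mem_bot.2 ⟨t, ht⟩) b))
  exact congrArg Subtype.val h

theorem z_comp (A : Type u) [CommRing A] [Algebra K A] (j : A →ₐ[K] B D) (ε : A →ₐ[K] K)
    (h : ∀ a, pt₁ Ω (j a : R₁ Ω) = algebraMap K Ω (ε a)) : (z D).comp j = (AlgHom.id K K).comp ε := by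
  ext a
  apply (algebraMap K Ω).injective
  change algebraMap K Ω (z D (j a)) = algebraMap K Ω (ε a)
  rw [algebraMap_z, h]

theorem lid_z (w : (B D) ⊗[K] Ω) :
    Algebra.TensorProduct.lid K Ω (Algebra.TensorProduct.map (z D) (AlgHom.id K Ω) w) =
      pt₁ Ω (θ' D w) := by
  induction w using TensorProduct.induction_on with
  | zero => simp only [map_zero]
  | add x y hx hy => simp only [map_add, hx, hy]
  | tmul b c =>
    rw [Algebra.TensorProduct.map_tmul, Algebra.TensorProduct.lid_tmul, Algebra.smul_def, algebraMap_z,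
      θ'_tmul, map_mul, AlgHom.commutes]
    rfl

end Groth.Agent.Dix.K282.NormOne
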