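import Mathlib.AlgebraicGeometry.Morphisms.FlatRank
import Mathlib.RingTheory.Localization.Free
import Mathlib.RingTheory.TensorProduct.IsBaseChangeFree
import Mathlib.Algebra.Module.LocalizedModule.Basic
import Groth.Prelude.Def_Mor2
import Groth.Prelude.Def_EtGm
import Groth.Agent.Ega2.H275.NormRes

/-!
# The norm of global functions along finite locally free morphisms

`IsNm f x y`: `y ∈ Γ(Y, O)` is the norm of `x ∈ Γ(X, O)` along `f : X ⟶ Y`.
* `IsNm.bc`: base change; `IsNm.unique`, `exists_isNm` for finite locally free `f`.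
-/

set_option autoImplicit false
universe u

open CategoryTheory CategoryTheory.Limits AlgebraicGeometry Opposite TensorProduct

namespace K282.NormRel

section Rings

variable {A B A' B' : CommRingCat.{u}}

/-- The norm of `B` over `A`. -/
noncomputable def nrm (φ : A ⟶ B) : B →* A :=
  letI := φ.hom.toAlgebra
  Algebra.norm A

/-- `B` is free of rank `n` over `A`. -/
def HasBas (φ : A ⟶ B) (n : ℕ) : Prop :=
  letI := φ.hom.toAlgebra
  Nonempty (Module.Basis (Fin n) A B)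

theorem nrm_pushout {φ : A ⟶ B} {τ : A ⟶ A'} {σ : B ⟶ B'} {φ' : A' ⟶ B'} (h : IsPushout φ τ σ φ')
    {n : ℕ} (hb : HasBas φ n) : HasBas φ' n ∧ ∀ b : B, nrm φ' (σ.hom b) = τ.hom (nrm φ b) := by
  letI i1 : Algebra A B := φ.hom.toAlgebra
  letI i2 : Algebra A A' := τ.hom.toAlgebra
  letI i3 : Algebra B B' := σ.hom.toAlgebra
  letI i4 : Algebra A' B' := φ'.hom.toAlgebra
  letI i5 : Algebra A B' := (φ ≫ σ).hom.toAlgebra
  haveI : IsScalarTower A B B' := IsScalarTower.of_algebraMap_eq' rfl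
  haveI : IsScalarTower A A' B' := IsScalarTower.of_algebraMap_eq' (by
    change (φ ≫ σ).hom = _
    rw [h.w]
    rfl)
  have h1 : Algebra.IsPushout A A' B B' := CommRingCat.isPushout_iff_isPushout.1 h.flip
  obtain ⟨b⟩ := hb
  have hbc := h1.out
  have h3 : ∀ k, hbc.basis b k = σ.hom (b k) := fun k => by
    rw [IsBaseChange.basis_apply]
    rfl
  refine ⟨⟨hbc.basis b⟩, fun x => ?_⟩
  refine Groth.Agent.Ega2.H275.NormRes.norm_map τ.hom σ.hom (fun a => ?_) b (hbc.basis b) h3 x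
  exact congr($(h.w).hom a)

theorem nrm_self {φ : A ⟶ B} {n : ℕ} (hb : HasBas φ n) (a : A) : nrm φ (φ.hom a) = a ^ n := by
  letI i1 : Algebra A B := φ.hom.toAlgebra
  obtain ⟨b⟩ := hb
  have h1 := Algebra.norm_algebraMap_of_basis b a
  rw [Fintype.card_fin] at h1
  exact h1

end Rings

/-- The value of a global function on an affine valued point. -/
noncomputable def ev {X : Scheme.{u}} {A : CommRingCat.{u}} (t : Spec A ⟶ X) (x : Γ(X, ⊤)) : A :=
  (Scheme.ΓSpecIso A).hom.hom (t.appTop.hom x)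

theorem ev_comp {X Y : Scheme.{u}} {A : CommRingCat.{u}} (t : Spec A ⟶ X) (g : X ⟶ Y) (y : Γ(Y, ⊤)) :
    ev (t ≫ g) y = ev t (g.appTop.hom y) := by
  simp [ev, Scheme.Hom.comp_appTop]

theorem ev_specMap {X : Scheme.{u}} {A A' : CommRingCat.{u}} (τ : A ⟶ A') (t : Spec A ⟶ X)
    (x : Γ(X, ⊤)) : ev (Spec.map τ ≫ t) x = τ.hom (ev t x) := by
  have h1 := Scheme.ΓSpecIso_naturality τ
  have h2 := congr($(h1).hom (t.appTop.hom x))
  simp only [ev, Scheme.Hom.comp_appTop]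
  exact h2

variable {X Y : Scheme.{u}}

/-- `y` is the norm of `x` along `f`. -/
def IsNm (f : X ⟶ Y) (x : Γ(X, ⊤)) (y : Γ(Y, ⊤)) : Prop :=
  ∀ ⦃A B : CommRingCat.{u}⦄ (φ : A ⟶ B) (t : Spec A ⟶ Y) (s : Spec B ⟶ X),
    IsPullback s (Spec.map φ) f t → ∀ n : ℕ, HasBas φ n → ev t y = nrm φ (ev s x)

theorem IsNm.bc {X' Y' : Scheme.{u}} {f : X ⟶ Y} {f' : X' ⟶ Y'} {g' : X' ⟶ X} {g : Y' ⟶ Y}
    (sq : IsPullback g' f' f g) {x : Γ(X, ⊤)} {y : Γ(Y, ⊤)} (h : IsNm f x y) :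
    IsNm f' (g'.appTop.hom x) (g.appTop.hom y) := by
  intro A B φ t s hs n hn
  rw [← ev_comp, ← ev_comp]
  exact h φ (t ≫ g) (s ≫ g') (hs.paste_horiz sq) n hn

theorem IsNm.mul {f : X ⟶ Y} {x x' : Γ(X, ⊤)} {y y' : Γ(Y, ⊤)} (h : IsNm f x y) (h' : IsNm f x' y') :
    IsNm f (x * x') (y * y') := by
  intro A B φ t s hs n hn
  have h1 : ∀ {Z : Scheme.{u}} {C : CommRingCat.{u}} (t : Spec C ⟶ Z) (a b : Γ(Z, ⊤)),
      ev t (a * b) = ev t a * ev t b := fun t a b => by simp [ev]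
  rw [h1, h1, map_mul, h φ t s hs n hn, h' φ t s hs n hn]

theorem isNm_one (f : X ⟶ Y) : IsNm f 1 1 := by
  intro A B φ t s hs n hn
  simp [ev]

/-- Two functions which agree on a covering are equal. -/
theorem sep (𝒰 : Y.OpenCover) {y y' : Γ(Y, ⊤)}
    (h : ∀ i, (𝒰.f i).appTop.hom y = (𝒰.f i).appTop.hom y') : y = y' := by
  apply EtCoh.ΓRepr.{u}.homEquiv.symm.injective
  refine 𝒰.hom_ext _ _ fun i => ?_
  apply EtCoh.ΓRepr.{u}.homEquiv.injective
  rw [EtCoh.ΓRepr.homEquiv_comp, EtCoh.ΓRepr.homEquiv_comp, Equiv.apply_symm_apply,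
    Equiv.apply_symm_apply]
  exact h i

/-- Gluing of functions. -/
theorem glue (𝒰 : Y.OpenCover) (y : ∀ i, Γ(𝒰.X i, ⊤))
    (h : ∀ i j, (pullback.fst (𝒰.f i) (𝒰.f j)).appTop.hom (y i) =
      (pullback.snd (𝒰.f i) (𝒰.f j)).appTop.hom (y j)) :
    ∃ z : Γ(Y, ⊤), ∀ i, (𝒰.f i).appTop.hom z = y i := by
  let m : ∀ i, 𝒰.X i ⟶ Spec (.of (MvPolynomial PUnit (ULift.{u} ℤ))) :=
    fun i => EtCoh.ΓRepr.{u}.homEquiv.symm (y i)
  have hm : ∀ i j, pullback.fst (𝒰.f i) (𝒰.f j) ≫ m i = pullback.snd (𝒰.f i) (𝒰.f j) ≫ m j := by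
    intro i j
    apply EtCoh.ΓRepr.{u}.homEquiv.injective
    rw [EtCoh.ΓRepr.homEquiv_comp, EtCoh.ΓRepr.homEquiv_comp, Equiv.apply_symm_apply,
      Equiv.apply_symm_apply]
    exact h i j
  refine ⟨EtCoh.ΓRepr.{u}.homEquiv (𝒰.glueMorphisms m hm), fun i => ?_⟩
  have h1 := EtCoh.ΓRepr.{u}.homEquiv_comp (𝒰.f i) (𝒰.glueMorphisms m hm)
  rw [Scheme.Cover.ι_glueMorphisms, Equiv.apply_symm_apply] at h1
  exact h1.symm

end K282.NormRel
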