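import Groth.Agent.Dix.K282.QMain

/-!
# Invariant Brauer classes on Weil restrictions of the multiplicative group
-/

set_option autoImplicit false
universe u
open CategoryTheory CategoryTheory.Limits AlgebraicGeometry Opposite TensorProduct
open scoped Groth.Agent.Etcore.EtInst
open Groth.Agent.Etcore.EtInst

namespace Groth.Agent.Dix.K282.QEnd

open Groth.Agent.Dix.K282.EtSplit Groth.Agent.Dix.K282.WeilAlg Groth.Agent.Dix.K282.UnitsMA
  Groth.Agent.Dix.K282.TorusStk Groth.Agent.Dix.K282.QTorus Groth.Agent.Dix.K282.AlgStk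
  Groth.Agent.Dix.K282.QTest Groth.Agent.Dix.K282.QMain
open Groth.Agent.Lefpen.H365.FieldPts Groth.Agent.Dix.K282.PMap

attribute [local instance] Algebra.TensorProduct.rightAlgebra

/-- The geometric fibres of isomorphic schemes. -/
noncomputable def fibIso {X X' Y Z : Scheme.{u}} (φ : X' ≅ X) (f : X ⟶ Y) (f' : X' ⟶ Y) (w : φ.hom ≫ f = f')
    (g : Z ⟶ Y) : pullback f' g ≅ pullback f g :=
  asIso (pullback.map f' g f g φ.hom (𝟙 Z) (𝟙 Y) (by rw [Category.comp_id, w]) (by
    rw [Category.comp_id, Category.id_comp]))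

/-- **Invariant Brauer classes on a quasi-trivial torus.** -/
theorem main (k : Type u) [Field k] [CharZero k]
    (Ω : Type u) [Field Ω] [Algebra k Ω] [IsSepClosure k Ω]
    (L : Type u) [CommRing L] [Algebra k L] [Algebra.Etale k L] [Module.Finite k L]
    (T : Over (Spec (CommRingCat.of k)))
    (q : Red.bc (Spec.map (CommRingCat.ofHom (algebraMap k L))) T ⟶ Red.Gm (Spec (CommRingCat.of L)))
    (hT : WeilRes.IsWeilRes (Spec.map (CommRingCat.ofHom (algebraMap k L))) (Red.Gm (Spec (CommRingCat.of L))) T q)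
    [∀ ⦃Y Z : Scheme.{u}⦄ (g : Y ⟶ Z), PreservesFiniteLimits (EtCoh.pull g)] :
    Dix.brInv Ω T.hom ≤
      (EtLim.HGmPull (pullback.fst T.hom (Spec.map (CommRingCat.ofHom (algebraMap k Ω)))) 2).range := by
  have h2 : IsSepClosed Ω := IsSepClosure.sep_closed k
  have h3 : IsAlgClosure k Ω := inferInstance
  have h4 : IsAlgClosed Ω := h3.isAlgClosed
  obtain ⟨P, _, _, ⟨W⟩⟩ := exists_WG k L
  obtain ⟨φ, hφ⟩ := exists_iso W hT
  obtain ⟨n, ⟨F⟩⟩ := exists_fam k Ω L
  have hφ' : φ.hom ≫ sp k P = T.hom := hφ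
  have hqc : QuasiCompact T.hom := by
    rw [← hφ']
    infer_instance
  have hqs : QuasiSeparated T.hom := by
    rw [← hφ']
    infer_instance
  refine BrLift.brInv_le_range T.hom ?_ ?_
  · refine VanGm.isZero_Rpush_Gm (Ω := Ω) T.hom 0 fun x => ?_
    let e : P ⊗[k] Ω ≃+* MonoidAlgebra Ω (Multiplicative (Fin n → ℤ)) :=
      (RingEquiv.ofBijective (al W F).toRingHom (al_bijective W F)).symm
    have := LaurGeo.subsingleton_H1_Gm (fibIso φ (sp k P) T.hom hφ' (xi k Ω) ≪≫ psI k Ω P)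
      (LaurGeo.isUFD_of_equiv e.symm (LaurGeo.isUFD_torus Ω n))
    exact Subsingleton.elim (α := EtCoh.H _ _ 1) _ _
  · rw [edge_injective_iff]
    exact eH_injective_of_iso φ (sp k P) T.hom hφ' (2 + 1) (QMain.eH_injective W F)

end Groth.Agent.Dix.K282.QEnd
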