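import Groth.Agent.Sga7.H77.HSigma
import Groth.Agent.Dix.K282.GeoVan

/-!
# Cohomology of `G_m` on a finite disjoint union
-/

set_option autoImplicit false
universe w u
open CategoryTheory CategoryTheory.Limits AlgebraicGeometry Opposite TensorProduct
open scoped Groth.Agent.Etcore.EtInst
open Groth.Agent.Etcore.EtInst

namespace Groth.Agent.Dix.K282.SigmaGm

open Groth.Agent.CurvesA Groth.Agent.CurvesA.SiteZU Groth.Agent.CurvesA.AcycLocal
  Groth.Agent.CurvesA.AcycEtale Groth.Agent.CurvesA.PushAcyclic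
open Groth.Agent.Lefpen.H365.FieldPts Groth.Agent.Dix.K282.AlgStk

/-- `Ext^q(ℤ_V, G_m) = H^q(V, G_m)`. -/
noncomputable def extEquivHGm {X : Scheme.{u}} (V : X.Etale) (q : ℕ) :
    Abelian.Ext ((Z X).obj V) (EtCoh.Gm X) q ≃+ EtCoh.H V.left (EtCoh.Gm V.left) q :=
  (extEquivH V (EtCoh.Gm X) q).trans
    (Etrest.IsoInv.HCongr (Sga4h.EtaleRes2.GmRestr V.hom) q)

/-- Vanishing of the cohomology of `G_m` on a disjoint union. -/
theorem subsingleton_H_sigma {X : Scheme.{u}} {g : ℕ} {ι : Type u} (c : Fin g ≃ ι) (Y : ι → Scheme.{u})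
    (e : ∐ Y ≅ X) (q : ℕ) (h : ∀ i, Subsingleton (EtCoh.H (Y i) (EtCoh.Gm (Y i)) q)) :
    Subsingleton (EtCoh.H X (EtCoh.Gm X) q) := by
  let V : Fin g → X.Etale := fun i => Scheme.Etale.mk (Sigma.ι Y (c i) ≫ e.hom)
  let f : ∀ i, V i ⟶ EtCoh.top X := fun i =>
    (Etbase.ExactSections.topIsTerminal X).from (V i)
  have hfl : ∀ i, (f i).left = Sigma.ι Y (c i) ≫ e.hom := fun i => by
    have h := MorphismProperty.Over.w (f i)
    exact (Category.comp_id _).symm.trans h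
  obtain ⟨E⟩ := Sga7.H77.HSigma.nonempty_extEquivPi V f (by
    intro i
    rw [hfl]
    exact (inferInstance : Mono (Sigma.ι Y (c i) ≫ e.hom))) (by
    intro i j x y h
    rw [hfl, hfl] at h
    have h2 : (Sigma.ι Y (c i)) x = (Sigma.ι Y (c j)) y := (Scheme.homeoOfIso e).injective h
    exact c.injective (congrArg Sigma.fst ((sigmaι_eq_iff Y (c i) (c j) x y).1 h2))) (by
    intro x
    obtain ⟨i, y, hy⟩ := (sigmaOpenCover Y).exists_eq (e.inv x)
    obtain ⟨i, rfl⟩ := c.surjective i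
    refine ⟨i, y, ?_⟩
    rw [hfl]
    have h1 : e.hom (e.inv x) = x := by
      rw [← Scheme.Hom.comp_apply, e.inv_hom_id]
      rfl
    exact (congrArg e.hom hy).trans h1) (EtCoh.Gm X) q
  have h1 : ∀ i, Subsingleton (Abelian.Ext ((Z X).obj (V i)) (EtCoh.Gm X) q) := fun i =>
    @Equiv.subsingleton _ _ (extEquivHGm (V i) q).toEquiv (h (c i))
  have h2 : Subsingleton (∀ i, Abelian.Ext ((Z X).obj (V i)) (EtCoh.Gm X) q) := inferInstance
  exact @Equiv.subsingleton _ _ ((HEquiv.{u + 1, u + 1} (J := X.smallEtaleTopology)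
    (Etbase.ExactSections.topIsTerminal X) (EtCoh.Gm X) q).trans E).toEquiv h2

/-- The isomorphism with a disjoint union. -/
noncomputable def sigmaIso {ι : Type u} [Finite ι] {S : Type u} [CommRing S] (R : ι → Type u) [∀ i, CommRing (R i)]
    (e : S ≃+* (∀ i, R i)) : (∐ fun i => Spec (CommRingCat.of (R i))) ≅ Spec (CommRingCat.of S) :=
  asIso (sigmaSpec fun i => CommRingCat.of (R i)) ≪≫ GeoVan.specIso e.symm

theorem subsingleton_H_pi {n : ℕ} {ι : Type u} [Finite ι] (c : Fin n ≃ ι) {X : Scheme.{u}} {S : Type u}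
    [CommRing S] (R : ι → Type u) [∀ i, CommRing (R i)] (e : S ≃+* (∀ i, R i)) (φ : X ≅ Spec (CommRingCat.of S)) (q : ℕ)
    (h : ∀ i, Subsingleton (EtCoh.H (Spec (CommRingCat.of (R i))) (EtCoh.Gm (Spec (CommRingCat.of (R i)))) q)) :
    Subsingleton (EtCoh.H X (EtCoh.Gm X) q) :=
  subsingleton_H_sigma c (fun i => Spec (CommRingCat.of (R i))) (sigmaIso R e ≪≫ φ.symm) q h

variable {K Ω : Type u} [Field K] [Field Ω] [Algebra K Ω] {B : Type u} [CommRing B] [Algebra K B]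

theorem van_of_laurent_pi [IsAlgClosed Ω] {n : ℕ}
    (e : B ⊗[K] Ω ≃+* (Fin n → MonoidAlgebra Ω (Multiplicative ℤ))) (q : ℕ)
    (x : HH (pullback (sp K B) (xi K Ω)) (EtCoh.Gm (pullback (sp K B) (xi K Ω))) (q + 1)) : x = 0 := by
  have h1 := LaurGeo.subsingleton_H_Gm (k := Ω)
    (GeoVan.specIso ((RingEquiv.refl _).trans (AddMonoidAlgebra.toMultiplicative Ω ℤ).symm) :
      Spec (CommRingCat.of (MonoidAlgebra Ω (Multiplicative ℤ))) ≅ _) (q + 1) q.succ_pos
  let e' : B ⊗[K] Ω ≃+* (ULift.{u} (Fin n) → MonoidAlgebra Ω (Multiplicative ℤ)) :=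
    e.trans (RingEquiv.piCongrLeft (fun _ => MonoidAlgebra Ω (Multiplicative ℤ)) Equiv.ulift.symm)
  have := subsingleton_H_pi Equiv.ulift.symm (fun _ => MonoidAlgebra Ω (Multiplicative ℤ)) e' (psI K Ω B)
    (q + 1) (fun _ => h1)
  exact Subsingleton.elim (α := EtCoh.H _ _ (q + 1)) _ _

variable [Algebra.IsSeparable K Ω] [IsSepClosed Ω]

theorem eH_injective_of_laurent_pi [IsAlgClosed Ω] {m : ℕ}
    (e : B ⊗[K] Ω ≃+* (Fin m → MonoidAlgebra Ω (Multiplicative ℤ))) (n : ℕ) :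
    Function.Injective (PMap.eH (sp K B) (EtCoh.Gm (Spec (CommRingCat.of B))) (n + 1)) :=
  VanGm.eH_injective (Ω := Ω) (sp K B) n fun q _ x => van_of_laurent_pi e q x

end Groth.Agent.Dix.K282.SigmaGm
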