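import Groth.Agent.Dix.K282.QTest
import Groth.Agent.Dix.K282.SigmaGm
import Groth.Agent.Dix.K282.RealEnd

/-!
# Invariant Brauer classes on quasi-trivial tori
-/

set_option autoImplicit false
universe u
open CategoryTheory CategoryTheory.Limits AlgebraicGeometry Opposite TensorProduct
open scoped Groth.Agent.Etcore.EtInst
open Groth.Agent.Etcore.EtInst

namespace Groth.Agent.Dix.K282.QMain

open Groth.Agent.Dix.K282.EtSplit Groth.Agent.Dix.K282.WeilAlg Groth.Agent.Dix.K282.UnitsMA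
  Groth.Agent.Dix.K282.TorusStk Groth.Agent.Dix.K282.QTorus Groth.Agent.Dix.K282.AlgStk
  Groth.Agent.Dix.K282.QTest

attribute [local instance] Algebra.TensorProduct.rightAlgebra

section Alg

variable {K Ω L : Type u} [Field K] [Field Ω] [Algebra K Ω] [CommRing L] [Algebra K L]
  {P : Type u} [CommRing P] [Algebra K P] (W : WG K L P) {n : ℕ} (F : Fam K Ω L n)
  (ε : P →ₐ[K] K) (hε : Algebra.TensorProduct.map ε (AlgHom.id K L) (W.u : P ⊗[K] L) = 1)
  (δ : L ⊗[K] L) (hδ : δ * δ = δ)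
  (hδ1 : ∀ s : L →ₐ[K] Ω, Algebra.TensorProduct.productMap s s δ = 1)
  (hδ0 : ∀ s t : L →ₐ[K] Ω, s ≠ t → Algebra.TensorProduct.productMap s t δ = 0)

theorem exists_j : ∃ j : P →ₐ[K] P₁ K ⊗[K] L, Algebra.TensorProduct.map j (AlgHom.id K L) (W.u : P ⊗[K] L) =
    (vv K δ hδ (Multiplicative.ofAdd 1) : (P₁ K ⊗[K] L) ⊗[K] L) := W.ex _ _

variable (j : P →ₐ[K] P₁ K ⊗[K] L) (hj : Algebra.TensorProduct.map j (AlgHom.id K L) (W.u : P ⊗[K] L) =
    (vv K δ hδ (Multiplicative.ofAdd 1) : (P₁ K ⊗[K] L) ⊗[K] L))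

include hε hj in
theorem z_j : (z K L).comp j = (Algebra.ofId K L).comp ε := by
  apply W.uniq
  rw [QTorus.map_comp, QTorus.map_comp, hj, hε, map_z_vv, map_one]

variable (Ω) in
/-- The map on units. -/
noncomputable def uu (i : Fin n) : (P ⊗[K] Ω)ˣ →* (P₁ K ⊗[K] Ω)ˣ :=
  Units.map ((w K (F.s i)).comp (Algebra.TensorProduct.map j (AlgHom.id K Ω))).toMonoidHom

theorem uu_val (i : Fin n) (y : (P ⊗[K] Ω)ˣ) : (uu Ω F j i y : P₁ K ⊗[K] Ω) =
    w K (F.s i) (Algebra.TensorProduct.map j (AlgHom.id K Ω) (y : P ⊗[K] Ω)) := rfl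

include hδ1 hδ0 hj in
theorem uu_mS (i : Fin n) (g : Multiplicative (Fin n → ℤ)) : uu Ω F j i (mS W F g) = mo' K Ω (crd i g) := by
  refine DFunLike.congr_fun (hom_ext (H := (P₁ K ⊗[K] Ω)ˣ) (f := (uu Ω F j i).comp (mS W F))
    (g := (mo' K Ω).comp (crd i)) ?_) g
  intro k
  apply Units.ext
  change (uu Ω F j i (mS W F (gen k)) : P₁ K ⊗[K] Ω) = (mo' K Ω (crd i (gen k)) : P₁ K ⊗[K] Ω)
  rw [mS_gen, uu_val, x_val, QTorus.map_map, hj]
  by_cases hik : i = k
  · subst hik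
    rw [w_vv_self K (F.s i) δ hδ (hδ1 _)]
    have h1 : crd i (gen i) = Multiplicative.ofAdd (1 : ℤ) :=
      congrArg Multiplicative.ofAdd (Pi.single_eq_same (M := fun _ : Fin n => ℤ) i 1)
    rw [h1]
  · rw [w_vv_ne K (F.s i) (F.s k) δ hδ (hδ0 _ _ fun h => hik (F.s_injective h))]
    have h1 : crd i (gen k) = 1 :=
      congrArg Multiplicative.ofAdd (Pi.single_eq_of_ne (M := fun _ : Fin n => ℤ) hik 1)
    rw [h1, map_one]
    rfl

variable (h : (z K L).comp j = (Algebra.ofId K L).comp ε)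

include hδ1 hδ0 hj hε F in
theorem psi_bijective : Function.Bijective (RealMain.psi Ω (z K L) ε j (Algebra.ofId K L) h) := by
  have hu : ∀ i g, uu Ω F j i (mS W F g) = mo' K Ω (crd i g) := fun i g =>
    uu_mS W F δ hδ hδ1 hδ0 j hj i g
  let S := spl W F ε hε
  constructor
  · rw [injective_iff_map_eq_zero]
    intro a ha
    obtain ⟨g, rfl⟩ := (mon_bijective ε S).2 a
    have h1 := congrArg (fun t : (mA Ω (z K L)).ker => (t.1.toMul : (P₁ K ⊗[K] L) ⊗[K] Ω)) ha
    have h2 : Algebra.TensorProduct.map j (AlgHom.id K Ω) (mS W F g.toMul : P ⊗[K] Ω) = 1 := h1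
    have h3 : g.toMul = 1 := by
      apply Multiplicative.toAdd.injective
      funext i
      have h4 : mo' K Ω (crd i g.toMul) = mo' K Ω 1 := by
        rw [← hu, map_one]
        apply Units.ext
        rw [uu_val, h2]
        exact map_one (w K (F.s i)).toRingHom
      exact congrArg Multiplicative.toAdd ((spl₁ K Ω).m_injective h4)
    have h5 : g = 0 := h3
    rw [h5, map_zero]
  · intro b
    have h1 : ∀ i, ∃ g : Multiplicative ℤ, w K (F.s i) (b.1.toMul : (P₁ K ⊗[K] L) ⊗[K] Ω) =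
        (mo' K Ω g : P₁ K ⊗[K] Ω) := by
      intro i
      have h2 : Algebra.TensorProduct.map (z K L) (AlgHom.id K Ω) (b.1.toMul : (P₁ K ⊗[K] L) ⊗[K] Ω) = 1 := by
        have h3 : mA Ω (z K L) b.1 = 0 := b.2
        rw [← mA_val, h3]
        rfl
      obtain ⟨g, hg⟩ := (spl₁ K Ω).exists_eq (Units.map (w K (F.s i)).toMonoidHom b.1.toMul) (by
        change ptA (aug K) (w K (F.s i) (b.1.toMul : (P₁ K ⊗[K] L) ⊗[K] Ω)) = 1
        rw [ptA_w, h2, map_one])
      exact ⟨g, congrArg Units.val hg⟩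
    choose g hg using h1
    let G : Multiplicative (Fin n → ℤ) := Multiplicative.ofAdd fun i => (g i).toAdd
    have hG : ∀ i, crd i G = g i := fun i => rfl
    refine ⟨mon ε S (Additive.ofMul G), ?_⟩
    apply Subtype.ext
    apply Additive.toMul.injective
    apply Units.ext
    change Algebra.TensorProduct.map j (AlgHom.id K Ω) (mS W F G : P ⊗[K] Ω) = _
    apply (sw K (Ω := Ω) (L := L)).injective
    apply ev_injective (P₁ K ⊗[K] Ω) F
    intro i
    rw [← w_eq, ← w_eq, hg, ← hG, ← hu, uu_val]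

/-- `B ⊗ Ω` is a product of Laurent polynomial rings. -/
noncomputable def eB : (P₁ K ⊗[K] L) ⊗[K] Ω ≃+* (Fin n → MonoidAlgebra Ω (Multiplicative ℤ)) :=
  (RingEquiv.ofBijective (RingHom.pi fun i => (w K (F.s i)).toRingHom)
    ((ev_bijective (P₁ K ⊗[K] Ω) F).comp (sw K (Ω := Ω) (L := L)).bijective)).trans
    (RingEquiv.piCongrRight fun _ => (e₁ K Ω).toRingEquiv)

end Alg

section Coh

open Groth.Agent.Lefpen.H365.FieldPts Groth.Agent.Dix.K282.StkData Groth.Agent.Dix.K282.PMap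
open Groth.Agent.Dix.K282.GeoVan Groth.Agent.Dix.K282.Assemble Groth.Agent.Dix.K282.Pointed
open Groth.Agent.Dix.K282.RealMain

variable {K Ω L : Type u} [Field K] [Field Ω] [Algebra K Ω] [CommRing L] [Algebra K L]
  {P : Type u} [CommRing P] [Algebra K P] (W : WG K L P) {n : ℕ} (F : Fam K Ω L n)

include W F in
theorem eH_injective [Algebra.Etale K L] [Algebra.IsSeparable K Ω] [IsAlgClosed Ω] :
    Function.Injective (eH (sp K P) (EtCoh.Gm (Spec (CommRingCat.of P))) (2 + 1)) := by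
  obtain ⟨ε, hε⟩ := exists_ε W
  obtain ⟨δ, hδ, hδ1, hδ0⟩ := exists_diag K L
  obtain ⟨j, hj⟩ := exists_j W δ hδ
  have h := z_j W ε hε δ hδ j hj
  have hψ := psi_bijective W F ε hε δ hδ (hδ1 Ω) (hδ0 Ω) j hj h
  refine eH_injective_of_ker ε 2 fun y hy => ?_
  have hκ := stkK_kap' Ω (z K L) ε j (Algebra.ofId K L) h
  have hm : Mono (kap (z K L) ε j (Algebra.ofId K L) h) :=
    mono_of_injective (stkK Ω ε) (stkK Ω (z K L)) _ (psi Ω (z K L) ε j (Algebra.ofId K L) h) hκ hψ.1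
  have he : Epi (kap (z K L) ε j (Algebra.ofId K L) h) :=
    epi_of_surjective (stkK Ω ε) (stkK Ω (z K L)) _ (psi Ω (z K L) ε j (Algebra.ofId K L) h) hκ hψ.2
  have hi : IsIso (kap (z K L) ε j (Algebra.ofId K L) h) := isIso_of_mono_of_epi _
  have h0 : HHmap (kap (z K L) ε j (Algebra.ofId K L) h) 3 y = 0 :=
    kap_eq_zero (z K L) ε j (Algebra.ofId K L) h Algebra.TensorProduct.includeRight (z_comp K L) 3
      (SigmaGm.eH_injective_of_laurent_pi (eB F) 2) y hy
  have h1 := congrArg (HHmap (inv (kap (z K L) ε j (Algebra.ofId K L) h)) 3) h0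
  rwa [← HHmap_comp, IsIso.hom_inv_id, HHmap_id, map_zero] at h1

/-- Transport of the injectivity of the edge map along an isomorphism. -/
theorem eH_injective_of_iso {X X' Y : Scheme.{u}} (φ : X' ≅ X) (f : X ⟶ Y) (f' : X' ⟶ Y) (w : φ.hom ≫ f = f')
    (m : ℕ) (h : Function.Injective (eH f (EtCoh.Gm X) m)) : Function.Injective (eH f' (EtCoh.Gm X') m) := by
  rw [injective_iff_map_eq_zero]
  intro y hy
  have w' : φ.inv ≫ f' = f := by rw [← w, Iso.inv_hom_id_assoc]
  have h1 : HHmap (Pmap φ.inv f' f w') m y = 0 := by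
    apply h
    rw [map_zero, eH_Pmap, hy, map_zero]
  have h2 := congrArg (HHmap (Pmap φ.hom f f' w) m) h1
  rw [← HHmap_comp, Pmap_comp φ.hom φ.inv f' f f' w' w (𝟙 X') φ.hom_inv_id (Category.id_comp _),
    Pmap_id, HHmap_id, map_zero] at h2
  exact h2

end Coh

end Groth.Agent.Dix.K282.QMain
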