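import Groth.Agent.Dix.K282.QTorus
import Mathlib.RingTheory.TensorProduct.MonoidAlgebra

/-!
# The test object for the Weil restriction of the multiplicative group
-/

set_option autoImplicit false
universe u
open TensorProduct

namespace Groth.Agent.Dix.K282.QTest

open Groth.Agent.Dix.K282.EtSplit Groth.Agent.Dix.K282.WeilAlg Groth.Agent.Dix.K282.UnitsMA
  Groth.Agent.Dix.K282.TorusStk Groth.Agent.Dix.K282.QTorus Groth.Agent.Dix.K282.AlgStk

attribute [local instance] Algebra.TensorProduct.rightAlgebra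

section P1

variable (K : Type u) [Field K]

/-- The Laurent polynomials. -/
abbrev P₁ := MonoidAlgebra K (Multiplicative ℤ)

/-- The unit point. -/
noncomputable def aug : P₁ K →ₐ[K] K := MonoidAlgebra.lift K K (Multiplicative ℤ) 1

/-- The monomials. -/
noncomputable def mo : Multiplicative ℤ →* (P₁ K)ˣ := (MonoidAlgebra.of K (Multiplicative ℤ)).toHomUnits

theorem mo_val (g : Multiplicative ℤ) : (mo K g : P₁ K) = MonoidAlgebra.single g 1 := rfl

theorem aug_mo (g : Multiplicative ℤ) : aug K (mo K g : P₁ K) = 1 := by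
  rw [aug, mo_val, MonoidAlgebra.lift_single, one_smul]
  rfl

variable (Ω : Type u) [Field Ω] [Algebra K Ω]

/-- The monomials over `Ω`. -/
noncomputable def mo' : Multiplicative ℤ →* (P₁ K ⊗[K] Ω)ˣ :=
  (Units.map (Algebra.TensorProduct.includeLeft : P₁ K →ₐ[K] P₁ K ⊗[K] Ω).toMonoidHom).comp (mo K)

theorem mo'_val (g : Multiplicative ℤ) : (mo' K Ω g : P₁ K ⊗[K] Ω) = (mo K g : P₁ K) ⊗ₜ 1 := rfl

/-- The comparison of `P₁ ⊗ Ω` with the Laurent polynomials over `Ω`. -/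
noncomputable def e₁ : P₁ K ⊗[K] Ω ≃ₐ[Ω] MonoidAlgebra Ω (Multiplicative ℤ) :=
  (Algebra.TensorProduct.commRight K Ω (P₁ K)).symm.trans (MonoidAlgebra.scalarTensorEquiv K Ω)

theorem e₁_symm_single (g : Multiplicative ℤ) : (e₁ K Ω).symm (MonoidAlgebra.single g 1) =
    (mo' K Ω g : P₁ K ⊗[K] Ω) := by
  change Algebra.TensorProduct.commRight K Ω (P₁ K) ((MonoidAlgebra.scalarTensorEquiv K Ω).symm
    (MonoidAlgebra.single g 1)) = _
  rw [MonoidAlgebra.scalarTensorEquiv_symm_single, Algebra.TensorProduct.commRight_tmul]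
  rfl

/-- `P₁ ⊗ Ω` as a pointed group algebra. -/
noncomputable def spl₁ : Spl Ω (Multiplicative ℤ) (ptA (Ω := Ω) (aug K)) where
  m := mo' K Ω
  pt_m g := by
    rw [mo'_val, ptA_tmul, aug_mo, map_one, one_mul]
  bij := by
    have h : MonoidAlgebra.lift Ω (P₁ K ⊗[K] Ω) (Multiplicative ℤ) ((Units.coeHom _).comp (mo' K Ω)) =
        (e₁ K Ω).symm.toAlgHom := by
      refine ext' fun g => ?_
      rw [MonoidAlgebra.lift_single, one_smul]
      exact (e₁_symm_single K Ω g).symm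
    rw [h]
    exact (e₁ K Ω).symm.bijective

end P1

variable (K Ω L : Type u) [Field K] [Field Ω] [Algebra K Ω] [CommRing L] [Algebra K L]

/-- The unit section of the test object. -/
noncomputable def z : P₁ K ⊗[K] L →ₐ[K] L :=
  Algebra.TensorProduct.productMap ((Algebra.ofId K L).comp (aug K)) (AlgHom.id K L)

variable {L} in
theorem z_tmul (p : P₁ K) (l : L) : z K L (p ⊗ₜ l) = algebraMap K L (aug K p) * l := by
  rw [z, Algebra.TensorProduct.productMap_apply_tmul]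
  rfl

theorem z_comp : (z K L).comp (Algebra.TensorProduct.includeRight : L →ₐ[K] P₁ K ⊗[K] L) = AlgHom.id K L := by
  ext l
  change z K L (1 ⊗ₜ l) = l
  rw [z_tmul, map_one, map_one, one_mul]

variable {L} in
/-- The diagonal idempotent in the test object. -/
noncomputable def dl (δ : L ⊗[K] L) : (P₁ K ⊗[K] L) ⊗[K] L :=
  Algebra.TensorProduct.map (Algebra.TensorProduct.includeRight : L →ₐ[K] P₁ K ⊗[K] L) (AlgHom.id K L) δ

/-- The variable. -/
noncomputable def tt (g : Multiplicative ℤ) : ((P₁ K ⊗[K] L) ⊗[K] L)ˣ :=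
  Units.map ((Algebra.TensorProduct.includeLeft : P₁ K ⊗[K] L →ₐ[K] (P₁ K ⊗[K] L) ⊗[K] L).comp
    (Algebra.TensorProduct.includeLeft : P₁ K →ₐ[K] P₁ K ⊗[K] L)).toMonoidHom (mo K g)

theorem tt_val (g : Multiplicative ℤ) : (tt K L g : (P₁ K ⊗[K] L) ⊗[K] L) = ((mo K g : P₁ K) ⊗ₜ 1) ⊗ₜ 1 := rfl

theorem tt_mul_inv (g : Multiplicative ℤ) :
    (tt K L g : (P₁ K ⊗[K] L) ⊗[K] L) * (tt K L g⁻¹ : (P₁ K ⊗[K] L) ⊗[K] L) = 1 := by
  have h : tt K L g * tt K L g⁻¹ = 1 := by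
    rw [tt, tt, map_inv, map_inv, mul_inv_cancel]
  exact congrArg Units.val h

section Unit

variable {L} (δ : L ⊗[K] L) (hδ : δ * δ = δ)

include hδ in
theorem dl_mul : dl K δ * dl K δ = dl K δ := by
  rw [dl, ← map_mul, hδ]

include hδ in
theorem vv_mul (g : Multiplicative ℤ) :
    ((tt K L g : (P₁ K ⊗[K] L) ⊗[K] L) * dl K δ + (1 - dl K δ)) *
      ((tt K L g⁻¹ : (P₁ K ⊗[K] L) ⊗[K] L) * dl K δ + (1 - dl K δ)) = 1 := by
  have h1 := dl_mul K δ hδ
  have h2 := tt_mul_inv K L g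
  generalize (tt K L g : (P₁ K ⊗[K] L) ⊗[K] L) = a at h2 ⊢
  generalize (tt K L g⁻¹ : (P₁ K ⊗[K] L) ⊗[K] L) = b at h2 ⊢
  generalize dl K δ = d at h1 ⊢
  calc (a * d + (1 - d)) * (b * d + (1 - d))
      = (a * b) * (d * d) + (a + b) * (d - d * d) + (1 - d) - (d - d * d) := by ring
    _ = 1 := by rw [h1, h2]; ring

/-- The unit of the test object. -/
noncomputable def vv (g : Multiplicative ℤ) : ((P₁ K ⊗[K] L) ⊗[K] L)ˣ where
  val := (tt K L g : (P₁ K ⊗[K] L) ⊗[K] L) * dl K δ + (1 - dl K δ)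
  inv := (tt K L g⁻¹ : (P₁ K ⊗[K] L) ⊗[K] L) * dl K δ + (1 - dl K δ)
  val_inv := vv_mul K δ hδ _
  inv_val := by
    have h := vv_mul K δ hδ g⁻¹
    rw [inv_inv] at h
    exact h

theorem map_z_dl : Algebra.TensorProduct.map (z K L) (AlgHom.id K L) (dl K δ) = δ := by
  rw [dl]
  generalize δ = y
  induction y using TensorProduct.induction_on with
  | zero => simp only [map_zero]
  | add x y hx hy => simp only [map_add, hx, hy]
  | tmul r l =>
    rw [Algebra.TensorProduct.map_tmul, Algebra.TensorProduct.map_tmul]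
    change z K L (1 ⊗ₜ r) ⊗ₜ l = r ⊗ₜ l
    rw [z_tmul, map_one, map_one, one_mul]

theorem map_z_tt (g : Multiplicative ℤ) : Algebra.TensorProduct.map (z K L) (AlgHom.id K L)
    (tt K L g : (P₁ K ⊗[K] L) ⊗[K] L) = 1 := by
  rw [tt_val, Algebra.TensorProduct.map_tmul, z_tmul, aug_mo, map_one, one_mul, map_one]
  rfl

theorem map_z_vv (g : Multiplicative ℤ) : Algebra.TensorProduct.map (z K L) (AlgHom.id K L)
    (vv K δ hδ g : (P₁ K ⊗[K] L) ⊗[K] L) = 1 := by
  change Algebra.TensorProduct.map (z K L) (AlgHom.id K L)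
    ((tt K L g : (P₁ K ⊗[K] L) ⊗[K] L) * dl K δ + (1 - dl K δ)) = 1
  rw [map_add, map_mul, map_sub, map_one, map_z_tt, map_z_dl, one_mul, add_sub_cancel]

end Unit

section Ev

variable {Ω L}

/-- Exchanging the factors. -/
noncomputable def sw : (P₁ K ⊗[K] L) ⊗[K] Ω ≃ₐ[K] (P₁ K ⊗[K] Ω) ⊗[K] L :=
  (Algebra.TensorProduct.assoc K K K (P₁ K) L Ω).trans
    ((Algebra.TensorProduct.congr AlgEquiv.refl (Algebra.TensorProduct.comm K L Ω)).trans
      (Algebra.TensorProduct.assoc K K K (P₁ K) Ω L).symm)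

theorem sw_tmul (p : P₁ K) (l : L) (c : Ω) : sw K ((p ⊗ₜ l) ⊗ₜ c) = (p ⊗ₜ c) ⊗ₜ l := rfl

/-- The component at a homomorphism `L ⟶ Ω`. -/
noncomputable def w (s : L →ₐ[K] Ω) : (P₁ K ⊗[K] L) ⊗[K] Ω →ₐ[K] P₁ K ⊗[K] Ω :=
  (ev (P₁ K ⊗[K] Ω) s).comp (sw K (Ω := Ω) (L := L)).toAlgHom

theorem w_eq (s : L →ₐ[K] Ω) (y : (P₁ K ⊗[K] L) ⊗[K] Ω) : w K s y = ev (P₁ K ⊗[K] Ω) s (sw K y) := rfl

theorem w_tmul (s : L →ₐ[K] Ω) (p : P₁ K) (l : L) (c : Ω) :
    w K s ((p ⊗ₜ l) ⊗ₜ c) = p ⊗ₜ (c * s l) := by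
  rw [w_eq, sw_tmul, ev_tmul]
  change (p ⊗ₜ[K] c) * (1 ⊗ₜ[K] (s l)) = _
  rw [Algebra.TensorProduct.tmul_mul_tmul, mul_one]

theorem w_tt (s t : L →ₐ[K] Ω) (g : Multiplicative ℤ) :
    w K s (Algebra.TensorProduct.map (AlgHom.id K _) t (tt K L g : (P₁ K ⊗[K] L) ⊗[K] L)) =
      (mo' K Ω g : P₁ K ⊗[K] Ω) := by
  rw [tt_val, Algebra.TensorProduct.map_tmul, map_one, AlgHom.id_apply, w_tmul, map_one, mul_one]
  rfl

theorem w_dl (s t : L →ₐ[K] Ω) (δ : L ⊗[K] L) :
    w K s (Algebra.TensorProduct.map (AlgHom.id K _) t (dl K δ)) =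
      1 ⊗ₜ Algebra.TensorProduct.productMap s t δ := by
  rw [dl]
  generalize δ = y
  induction y using TensorProduct.induction_on with
  | zero => simp only [map_zero, tmul_zero]
  | add x y hx hy => simp only [map_add, hx, hy, tmul_add]
  | tmul r l =>
    rw [Algebra.TensorProduct.map_tmul, Algebra.TensorProduct.map_tmul,
      Algebra.TensorProduct.productMap_apply_tmul]
    change w K s ((1 ⊗ₜ r) ⊗ₜ t l) = _
    rw [w_tmul, mul_comm]

theorem w_vv_self (s : L →ₐ[K] Ω) (δ : L ⊗[K] L) (hδ : δ * δ = δ)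
    (h : Algebra.TensorProduct.productMap s s δ = 1) (g : Multiplicative ℤ) :
    w K s (Algebra.TensorProduct.map (AlgHom.id K _) s (vv K δ hδ g : (P₁ K ⊗[K] L) ⊗[K] L)) =
      (mo' K Ω g : P₁ K ⊗[K] Ω) := by
  change w K s (Algebra.TensorProduct.map (AlgHom.id K _) s
    ((tt K L g : (P₁ K ⊗[K] L) ⊗[K] L) * dl K δ + (1 - dl K δ))) = _
  have h1 : w K s 1 = 1 := map_one (w K s).toRingHom
  rw [map_add, map_add, map_mul, map_mul, map_sub, map_sub, map_one, h1, w_tt, w_dl, h,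
    ← Algebra.TensorProduct.one_def, mul_one, sub_self, add_zero]

theorem w_vv_ne (s t : L →ₐ[K] Ω) (δ : L ⊗[K] L) (hδ : δ * δ = δ)
    (h : Algebra.TensorProduct.productMap s t δ = 0) (g : Multiplicative ℤ) :
    w K s (Algebra.TensorProduct.map (AlgHom.id K _) t (vv K δ hδ g : (P₁ K ⊗[K] L) ⊗[K] L)) = 1 := by
  change w K s (Algebra.TensorProduct.map (AlgHom.id K _) t
    ((tt K L g : (P₁ K ⊗[K] L) ⊗[K] L) * dl K δ + (1 - dl K δ))) = _
  have h1 : w K s 1 = 1 := map_one (w K s).toRingHom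
  rw [map_add, map_add, map_mul, map_mul, map_sub, map_sub, map_one, h1, w_tt, w_dl, h,
    tmul_zero, mul_zero, zero_add, sub_zero]

theorem ptA_w (s : L →ₐ[K] Ω) (y : (P₁ K ⊗[K] L) ⊗[K] Ω) :
    ptA (aug K) (w K s y) = Algebra.TensorProduct.productMap s (AlgHom.id K Ω)
      (Algebra.TensorProduct.map (z K L) (AlgHom.id K Ω) y) := by
  induction y using TensorProduct.induction_on with
  | zero => simp only [map_zero]
  | add x y hx hy => simp only [map_add, hx, hy]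
  | tmul q c =>
    induction q using TensorProduct.induction_on with
    | zero => simp only [zero_tmul, map_zero]
    | add x y hx hy => simp only [add_tmul, map_add, hx, hy]
    | tmul p l =>
      rw [w_tmul, ptA_tmul, Algebra.TensorProduct.map_tmul, Algebra.TensorProduct.productMap_apply_tmul,
        z_tmul, map_mul, AlgHom.commutes]
      change _ = algebraMap K Ω (aug K p) * s l * c
      ring

end Ev

end Groth.Agent.Dix.K282.QTest
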