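import Groth.Agent.Dix.K282.NormOne

/-!
# The kernel of evaluation on the units of `A ⊗ Ω`, `A` a form of a group algebra
-/

set_option autoImplicit false
universe u
open TensorProduct

namespace Groth.Agent.Dix.K282.TorusStk

open Groth.Agent.Dix.K282.QuadDesc Groth.Agent.Dix.K282.UnitsMA Groth.Agent.Dix.K282.AlgStk

attribute [local instance] Algebra.TensorProduct.rightAlgebra

/-- The anti-invariant functionals for an involution on a lattice. -/
theorem exists_phi (M : Type*) [AddCommGroup M] [Module.Finite ℤ M] [Module.Free ℤ M] (s : M →+ M)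
    (hs : ∀ m, s (s m) = m) :
    ∃ (r : ℕ) (φ : Fin r → (M →+ ℤ)), (∀ i m, φ i (s m) = - φ i m) ∧
      (∀ t : Fin r → ℤ, ∃ m, ∀ i, φ i m = t i) ∧ ∀ m, (∀ i, φ i m = 0) → s m = m := by
  let D : M →ₗ[ℤ] M := LinearMap.id - s.toIntLinearMap
  have hD : ∀ m, D m = m - s m := fun m => rfl
  let b := Module.finBasis ℤ (LinearMap.range D)
  let q : M →+ LinearMap.range D := D.rangeRestrict.toAddMonoidHom
  have hq : ∀ m, ((q m : LinearMap.range D) : M) = m - s m := fun m => rfl
  refine ⟨_, fun i => (b.coord i).toAddMonoidHom.comp q, ?_, ?_, ?_⟩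
  · intro i m
    have h1 : q (s m) = - q m := by
      apply Subtype.ext
      rw [hq, Submodule.coe_neg, hq, hs, neg_sub]
    change b.coord i (q (s m)) = - b.coord i (q m)
    rw [h1, map_neg]
  · intro t
    obtain ⟨m, hm⟩ := LinearMap.surjective_rangeRestrict D (b.equivFun.symm t)
    refine ⟨m, fun i => ?_⟩
    change b.coord i (D.rangeRestrict m) = t i
    rw [hm, Module.Basis.coord_apply, ← Module.Basis.equivFun_apply, LinearEquiv.apply_symm_apply]
  · intro m hm
    have h1 : b.repr (q m) = 0 := by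
      ext i
      exact hm i
    have h2 : q m = 0 := by
      rwa [← map_zero b.repr, b.repr.injective.eq_iff] at h1
    have h3 := congrArg Subtype.val h2
    rw [hq] at h3
    exact (sub_eq_zero.1 h3).symm

variable {K Ω : Type u} [Field K] [Field Ω] [Algebra K Ω] {A : Type u} [CommRing A] [Algebra K A]
  (ε : A →ₐ[K] K)

theorem algebraMap_eq (c : Ω) : algebraMap Ω (A ⊗[K] Ω) c = 1 ⊗ₜ c := rfl

/-- Evaluation at the point. -/
noncomputable def ptA : A ⊗[K] Ω →ₐ[Ω] Ω :=
  { ((Algebra.TensorProduct.lid K Ω : K ⊗[K] Ω →ₐ[K] Ω).comp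
      (Algebra.TensorProduct.map ε (AlgHom.id K Ω))).toRingHom with
    commutes' := fun c => by
      change Algebra.TensorProduct.lid K Ω (Algebra.TensorProduct.map ε (AlgHom.id K Ω) (1 ⊗ₜ c)) = c
      rw [Algebra.TensorProduct.map_tmul, map_one, Algebra.TensorProduct.lid_tmul, one_smul]
      rfl }

theorem ptA_eq (x : A ⊗[K] Ω) : ptA ε x =
    Algebra.TensorProduct.lid K Ω (Algebra.TensorProduct.map ε (AlgHom.id K Ω) x) := rfl

theorem ptA_tmul (a : A) (c : Ω) : ptA ε (a ⊗ₜ c) = algebraMap K Ω (ε a) * c := by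
  rw [ptA_eq, Algebra.TensorProduct.map_tmul, Algebra.TensorProduct.lid_tmul, Algebra.smul_def]
  rfl

theorem mem_ker_iff (a : Additive (A ⊗[K] Ω)ˣ) :
    a ∈ (mA Ω ε).ker ↔ ptA ε (a.toMul : A ⊗[K] Ω) = 1 := by
  rw [AddMonoidHom.mem_ker]
  constructor
  · intro h
    rw [ptA_eq, ← mA_val, h]
    exact map_one (Algebra.TensorProduct.lid K Ω)
  · intro h
    apply Additive.toMul.injective
    apply Units.ext
    rw [mA_val]
    apply (Algebra.TensorProduct.lid K Ω).injective
    rw [ptA_eq] at h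
    exact h.trans (map_one (Algebra.TensorProduct.lid K Ω)).symm

variable (K Ω A) in
/-- The Galois action. -/
noncomputable def galA (σ : Ω ≃ₐ[K] Ω) : A ⊗[K] Ω →ₐ[K] A ⊗[K] Ω :=
  Algebra.TensorProduct.map (AlgHom.id K A) (σ : Ω →ₐ[K] Ω)

theorem galA_tmul (σ : Ω ≃ₐ[K] Ω) (a : A) (c : Ω) : galA K Ω A σ (a ⊗ₜ c) = a ⊗ₜ σ c :=
  Algebra.TensorProduct.map_tmul _ _ _ _

theorem ptA_galA (σ : Ω ≃ₐ[K] Ω) (x : A ⊗[K] Ω) : ptA ε (galA K Ω A σ x) = σ (ptA ε x) := by
  induction x using TensorProduct.induction_on with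
  | zero => simp only [map_zero]
  | add x y hx hy => simp only [map_add, hx, hy]
  | tmul a c => rw [galA_tmul, ptA_tmul, ptA_tmul, map_mul, AlgEquiv.commutes]

theorem gal_mem (σ : Ω ≃ₐ[K] Ω) (a : Additive (A ⊗[K] Ω)ˣ) (ha : a ∈ (mA Ω ε).ker) :
    gal Ω A σ a ∈ (mA Ω ε).ker := by
  rw [mem_ker_iff] at ha ⊢
  rw [gal_val]
  exact (ptA_galA ε σ _).trans (by rw [ha, map_one])

/-- The Galois action on the kernel. -/
noncomputable def galK (σ : Ω ≃ₐ[K] Ω) : (mA Ω ε).ker →+ (mA Ω ε).ker :=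
  ((gal Ω A σ).comp (mA Ω ε).ker.subtype).codRestrict _ fun a => gal_mem ε σ a.1 a.2

theorem galK_val (σ : Ω ≃ₐ[K] Ω) (a : (mA Ω ε).ker) : (galK ε σ a : Additive (A ⊗[K] Ω)ˣ) = gal Ω A σ a.1 := rfl

theorem gal_comp (σ τ : Ω ≃ₐ[K] Ω) (a : Additive (A ⊗[K] Ω)ˣ) :
    gal Ω A σ (gal Ω A τ a) = gal Ω A (σ * τ) a := by
  apply Additive.toMul.injective
  apply Units.ext
  rw [gal_val, gal_val, gal_val]
  generalize (a.toMul : A ⊗[K] Ω) = x
  induction x using TensorProduct.induction_on with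
  | zero => simp only [map_zero]
  | add x y hx hy => simp only [map_add, hx, hy]
  | tmul a c => rfl

theorem gal_one (a : Additive (A ⊗[K] Ω)ˣ) : gal Ω A (1 : Ω ≃ₐ[K] Ω) a = a := by
  apply Additive.toMul.injective
  apply Units.ext
  rw [gal_val]
  generalize (a.toMul : A ⊗[K] Ω) = x
  induction x using TensorProduct.induction_on with
  | zero => simp only [map_zero]
  | add x y hx hy => simp only [map_add, hx, hy]
  | tmul a c => rfl

section Spl

variable {G : Type*} [CommGroup G] (S : Spl Ω G (ptA (Ω := Ω) ε))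

/-- The monomials in the kernel. -/
noncomputable def mon : Additive G →+ (mA Ω ε).ker :=
  (S.m.toAdditive).codRestrict _ fun g => (mem_ker_iff ε _).2 (S.pt_m g.toMul)

theorem mon_val (g : G) : (((mon ε S (Additive.ofMul g) : (mA Ω ε).ker) : Additive (A ⊗[K] Ω)ˣ).toMul) =
    S.m g := rfl

theorem mon_bijective [TwoUniqueProds G] : Function.Bijective (mon ε S) := by
  constructor
  · intro g h hgh
    have h1 := congrArg (fun t : (mA Ω ε).ker => (t : Additive (A ⊗[K] Ω)ˣ).toMul) hgh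
    exact Additive.toMul.injective (S.m_injective h1)
  · intro a
    obtain ⟨g, hg⟩ := S.exists_eq a.1.toMul ((mem_ker_iff ε _).1 a.2)
    exact ⟨Additive.ofMul g, Subtype.ext (Additive.toMul.injective hg.symm)⟩

/-- The kernel is the group of characters. -/
noncomputable def monE [TwoUniqueProds G] : Additive G ≃+ (mA Ω ε).ker :=
  AddEquiv.ofBijective (mon ε S) (mon_bijective ε S)

end Spl

end Groth.Agent.Dix.K282.TorusStk
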