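import Groth.Agent.Sga3B.Hens.WeilRes
import Groth.Agent.MultTori.K965.WeilGm
import Mathlib.AlgebraicGeometry.Gluing

/-!
# The Weil restriction of the multiplicative group along a finite algebra over a field is affine
-/

set_option autoImplicit false
universe u
open CategoryTheory CategoryTheory.Limits AlgebraicGeometry TensorProduct

namespace Groth.Agent.Dix.K282.WeilAlg

variable (K L : Type u) [Field K] [CommRing L] [Algebra K L]

/-- The unit `u` of `P ⊗ L` is universal. -/
structure WG (P : Type u) [CommRing P] [Algebra K P] where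
  /-- the universal unit -/
  u : (P ⊗[K] L)ˣ
  ex : ∀ (B : Type u) [CommRing B] [Algebra K B] (v : (B ⊗[K] L)ˣ),
    ∃ φ : P →ₐ[K] B, Algebra.TensorProduct.map φ (AlgHom.id K L) (u : P ⊗[K] L) = v
  uniq : ∀ (B : Type u) [CommRing B] [Algebra K B] (φ φ' : P →ₐ[K] B),
    Algebra.TensorProduct.map φ (AlgHom.id K L) (u : P ⊗[K] L) =
      Algebra.TensorProduct.map φ' (AlgHom.id K L) (u : P ⊗[K] L) → φ = φ'

/-- Algebra maps out of the Laurent polynomials are determined by the image of the variable. -/
theorem laurent_ext {R : Type*} [CommRing R] [Algebra K R] {f g : MonoidAlgebra K (Multiplicative ℤ) →ₐ[K] R}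
    (h : f (MonoidAlgebra.single (Multiplicative.ofAdd 1) 1) = g (MonoidAlgebra.single (Multiplicative.ofAdd 1) 1)) :
    f = g := by
  have h1 : (f : MonoidAlgebra K (Multiplicative ℤ) →* R).comp (MonoidAlgebra.of K (Multiplicative ℤ)) =
      (g : MonoidAlgebra K (Multiplicative ℤ) →* R).comp (MonoidAlgebra.of K (Multiplicative ℤ)) :=
    MonoidHom.ext_mint h
  exact MonoidAlgebra.algHom_ext (fun x => DFunLike.congr_fun h1 x) (Subsingleton.elim _ _)

theorem exists_WG [Module.Finite K L] : ∃ (P : Type u) (_ : CommRing P) (_ : Algebra K P), Nonempty (WG K L P) := by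
  have hfp : Algebra.FinitePresentation K (MonoidAlgebra K (Multiplicative ℤ)) :=
    Algebra.FinitePresentation.of_finiteType.1 inferInstance
  obtain ⟨P, _, _, _, π, hπ⟩ := Sga3B.Hens.WeilRes.exists_weil K L (ι := PUnit.{u + 1})
    (fun _ => MonoidAlgebra K (Multiplicative ℤ))
  let t : (MonoidAlgebra K (Multiplicative ℤ))ˣ :=
    (MonoidAlgebra.of K (Multiplicative ℤ)).toHomUnits (Multiplicative.ofAdd 1)
  let u : (P ⊗[K] L)ˣ := Units.map (π PUnit.unit : MonoidAlgebra K (Multiplicative ℤ) →* P ⊗[K] L) t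
  have hu : (u : P ⊗[K] L) = π PUnit.unit (MonoidAlgebra.single (Multiplicative.ofAdd 1) 1) := rfl
  refine ⟨P, inferInstance, inferInstance, ⟨⟨u, ?_, ?_⟩⟩⟩
  · intro B _ _ v
    let e : MonoidAlgebra K (Multiplicative ℤ) →ₐ[K] B ⊗[K] L :=
      MonoidAlgebra.lift K (B ⊗[K] L) (Multiplicative ℤ) ((Units.coeHom _).comp (zpowersHom _ v))
    have he : e (MonoidAlgebra.single (Multiplicative.ofAdd 1) 1) = v := by
      change MonoidAlgebra.lift K (B ⊗[K] L) (Multiplicative ℤ) _ _ = _
      rw [MonoidAlgebra.lift_single, one_smul]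
      change ((zpowersHom _ v (Multiplicative.ofAdd 1) : (B ⊗[K] L)ˣ) : B ⊗[K] L) = v
      rw [zpowersHom_apply, toAdd_ofAdd, zpow_one]
    obtain ⟨φ, hφ, _⟩ := hπ B fun _ => e
    refine ⟨φ, ?_⟩
    rw [hu]
    exact (DFunLike.congr_fun (hφ PUnit.unit) _).trans he
  · intro B _ _ φ φ' h
    obtain ⟨ψ, _, hψ⟩ := hπ B fun i => (Algebra.TensorProduct.map φ (AlgHom.id K L)).comp (π i)
    refine (hψ φ fun i => rfl).trans (hψ φ' fun i => ?_).symm
    refine laurent_ext K ?_
    exact h.symm

section Iso

/-- A morphism of schemes which is bijective on points with values in rings is an isomorphism. -/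
theorem isIso_of_points {X Y : Scheme.{u}} (f : X ⟶ Y)
    (h : ∀ (R : CommRingCat.{u}), Function.Bijective (fun g : Spec R ⟶ X => g ≫ f)) : IsIso f := by
  have hm : Mono f := by
    refine ⟨fun {Z} a b hab => ?_⟩
    refine Z.affineCover.hom_ext _ _ fun i => ?_
    apply (h _).1
    change (_ ≫ a) ≫ f = (_ ≫ b) ≫ f
    rw [Category.assoc, Category.assoc, hab]
  have hex : ∀ i : Y.affineCover.I₀, ∃ s : Y.affineCover.X i ⟶ X, s ≫ f = Y.affineCover.f i :=
    fun i => (h (Y.affineOpenCover.X i)).2 (Y.affineCover.f i)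
  choose s hs' using hex
  let σ : Y ⟶ X := Y.affineCover.glueMorphisms s (fun i j => by
    rw [← cancel_mono f, Category.assoc, Category.assoc, hs', hs']
    exact pullback.condition)
  have hσ : σ ≫ f = 𝟙 Y := by
    refine Y.affineCover.hom_ext _ _ fun i => ?_
    rw [← Category.assoc, Scheme.Cover.ι_glueMorphisms, hs', Category.comp_id]
  have h2 : f ≫ σ = 𝟙 X := by
    rw [← cancel_mono f, Category.assoc, hσ, Category.comp_id, Category.id_comp]
  exact ⟨σ, h2, hσ⟩

open K965.WeilGm

variable {K L} {P : Type u} [CommRing P] [Algebra K P] (W : WG K L P)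
  {T : Over (Spec (CommRingCat.of K))}
  {q : Red.bc (ff K L) T ⟶ Red.Gm (Spec (CommRingCat.of L))}
  (hT : WeilRes.IsWeilRes (ff K L) (Red.Gm (Spec (CommRingCat.of L))) T q)

include W hT in
/-- The Weil restriction is the spectrum of `P`. -/
theorem exists_iso : ∃ φ : T.left ≅ Spec (CommRingCat.of P),
    φ.hom ≫ Spec.map (CommRingCat.ofHom (algebraMap K P)) = T.hom := by
  obtain ⟨g, hg⟩ := (wrU_bijective hT P).2 W.u
  have hg' : wrU q g = W.u := hg
  have hw : g.left ≫ T.hom = Spec.map (CommRingCat.ofHom (algebraMap K P)) := Over.w g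
  have hiso : IsIso g.left := by
    apply isIso_of_points
    intro R
    constructor
    · intro a b hab
      have hab' : a ≫ g.left = b ≫ g.left := hab
      have hab2 : a ≫ Spec.map (CommRingCat.ofHom (algebraMap K P)) =
          b ≫ Spec.map (CommRingCat.ofHom (algebraMap K P)) := by
        rw [← hw, ← Category.assoc, hab', Category.assoc]
      obtain ⟨a, rfl⟩ := Spec.map_surjective a
      obtain ⟨b, rfl⟩ := Spec.map_surjective b
      let _ : Algebra K R := (a.hom.comp (algebraMap K P)).toAlgebra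
      let a' : P →ₐ[K] R := { a.hom with commutes' := fun r => rfl }
      have hb : ∀ r, b.hom (algebraMap K P r) = algebraMap K R r := fun r => by
        rw [← Spec.map_comp, ← Spec.map_comp] at hab2
        exact (DFunLike.congr_fun (congrArg CommRingCat.Hom.hom (Spec.map_injective hab2)) r).symm
      let b' : P →ₐ[K] R := { b.hom with commutes' := hb }
      have h1 : som a' ≫ g = som b' ≫ g := by
        apply Over.OverMorphism.ext
        exact hab'
      have h2 := congrArg (fun v : (R ⊗[K] L)ˣ => (v : R ⊗[K] L)) (congrArg (wrU q) h1)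
      simp only [wrU_som, hg'] at h2
      have h3 : a' = b' := W.uniq R a' b' h2
      have h4 : a = b := by
        ext x
        exact DFunLike.congr_fun h3 x
      rw [h4]
    · intro a
      obtain ⟨ψ, hψ⟩ := Spec.map_surjective (a ≫ T.hom)
      let _ : Algebra K R := ψ.hom.toAlgebra
      let a' : so K R ⟶ T := Over.homMk a hψ.symm
      obtain ⟨φ, hφ⟩ := W.ex R (wrU q a')
      refine ⟨Spec.map (CommRingCat.ofHom φ.toRingHom), ?_⟩
      have h1 : som φ ≫ g = a' := by
        apply (wrU_bijective hT R).1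
        apply Units.ext
        rw [wrU_som, hg']
        exact hφ
      exact congrArg (fun k => k.left) h1
  refine ⟨(asIso g.left).symm, ?_⟩
  rw [← hw]
  exact IsIso.inv_hom_id_assoc g.left T.hom

end Iso

end Groth.Agent.Dix.K282.WeilAlg
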