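import Groth.Agent.Dix.K282.EtSplit
import Groth.Agent.Dix.K282.WeilAlg
import Groth.Agent.Dix.K282.TorusStk

/-!
# The Weil restriction of the multiplicative group is split over the separable closure
-/

set_option autoImplicit false
universe u
open TensorProduct

namespace Groth.Agent.Dix.K282.QTorus

open Groth.Agent.Dix.K282.EtSplit Groth.Agent.Dix.K282.WeilAlg Groth.Agent.Dix.K282.UnitsMA
  Groth.Agent.Dix.K282.TorusStk

attribute [local instance] Algebra.TensorProduct.rightAlgebra

section Gens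

variable {n : ℕ}

/-- The generators of `ℤ^n`. -/
def gen (i : Fin n) : Multiplicative (Fin n → ℤ) := Multiplicative.ofAdd (Pi.single i 1)

theorem hom_ext {H : Type*} [CommGroup H] {f g : Multiplicative (Fin n → ℤ) →* H}
    (h : ∀ i, f (gen i) = g (gen i)) : f = g := by
  have h1 : MonoidHom.toAdditiveRight f = MonoidHom.toAdditiveRight g := by
    refine AddMonoidHom.functions_ext (M := fun _ : Fin n => ℤ) _ _ _ (fun i x => ?_)
    have h2 : (Pi.single i x : Fin n → ℤ) = x • Pi.single i 1 := by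
      rw [← Pi.single_smul, smul_eq_mul, mul_one]
    rw [h2, map_zsmul, map_zsmul]
    congr 1
    exact congrArg Additive.ofMul (h i)
  exact MonoidHom.toAdditiveRight.injective h1

/-- The homomorphism with given values at the generators. -/
noncomputable def lft {H : Type*} [CommGroup H] (x : Fin n → H) : Multiplicative (Fin n → ℤ) →* H :=
  ∏ i : Fin n, (zpowersHom H (x i)).comp (AddMonoidHom.toMultiplicative (Pi.evalAddMonoidHom (fun _ => ℤ) i))

theorem lft_gen {H : Type*} [CommGroup H] (x : Fin n → H) (i : Fin n) : lft x (gen i) = x i := by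
  rw [lft, MonoidHom.finsetProd_apply, Finset.prod_eq_single i]
  · change x i ^ (Pi.single i (1 : ℤ) : Fin n → ℤ) i = x i
    rw [Pi.single_eq_same, zpow_one]
  · intro j _ hj
    change x j ^ (Pi.single i (1 : ℤ) : Fin n → ℤ) j = 1
    rw [Pi.single_eq_of_ne hj, zpow_zero]
  · intro h
    exact absurd (Finset.mem_univ i) h

/-- The coordinates. -/
noncomputable def crd (i : Fin n) : Multiplicative (Fin n → ℤ) →* Multiplicative ℤ :=
  AddMonoidHom.toMultiplicative (Pi.evalAddMonoidHom (fun _ => ℤ) i)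

theorem algHom_ext {k R : Type*} [Field k] [CommRing R] [Algebra k R]
    {f g : MonoidAlgebra k (Multiplicative (Fin n → ℤ)) →ₐ[k] R}
    (h : ∀ i, f (MonoidAlgebra.single (gen i) 1) = g (MonoidAlgebra.single (gen i) 1)) : f = g := by
  have h1 : (Units.map (f : _ →* R)).comp (MonoidAlgebra.of k (Multiplicative (Fin n → ℤ))).toHomUnits =
      (Units.map (g : _ →* R)).comp (MonoidAlgebra.of k (Multiplicative (Fin n → ℤ))).toHomUnits :=
    hom_ext fun i => Units.ext (h i)
  refine ext' fun g' => ?_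
  exact congrArg Units.val (DFunLike.congr_fun h1 g')

end Gens

variable {K Ω L : Type u} [Field K] [Field Ω] [Algebra K Ω] [CommRing L] [Algebra K L]
  {P : Type u} [CommRing P] [Algebra K P] (W : WG K L P) {n : ℕ} (F : Fam K Ω L n)

/-- The coordinate functions. -/
noncomputable def x (i : Fin n) : (P ⊗[K] Ω)ˣ :=
  Units.map (Algebra.TensorProduct.map (AlgHom.id K P) (F.s i) : P ⊗[K] L →* P ⊗[K] Ω) W.u

theorem x_val (i : Fin n) : (x W F i : P ⊗[K] Ω) =
    Algebra.TensorProduct.map (AlgHom.id K P) (F.s i) (W.u : P ⊗[K] L) := rfl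

theorem map_map (s : L →ₐ[K] Ω) {B : Type u} [CommRing B] [Algebra K B] (φ : P →ₐ[K] B) (y : P ⊗[K] L) :
    Algebra.TensorProduct.map φ (AlgHom.id K Ω) (Algebra.TensorProduct.map (AlgHom.id K P) s y) =
      Algebra.TensorProduct.map (AlgHom.id K B) s (Algebra.TensorProduct.map φ (AlgHom.id K L) y) := by
  induction y using TensorProduct.induction_on with
  | zero => simp only [map_zero]
  | add x y hx hy => simp only [map_add, hx, hy]
  | tmul r l => rfl

/-- The unit point. -/
theorem exists_ε : ∃ ε : P →ₐ[K] K,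
    Algebra.TensorProduct.map ε (AlgHom.id K L) (W.u : P ⊗[K] L) = 1 := by
  obtain ⟨ε, hε⟩ := W.ex K 1
  exact ⟨ε, hε⟩

section Point

variable (ε : P →ₐ[K] K) (hε : Algebra.TensorProduct.map ε (AlgHom.id K L) (W.u : P ⊗[K] L) = 1)

include hε in
theorem pt_x (i : Fin n) : ptA ε (x W F i : P ⊗[K] Ω) = 1 := by
  rw [ptA_eq, x_val, map_map, hε, map_one, map_one]

theorem ev_incl (s : L →ₐ[K] Ω) (y : P ⊗[K] L) :
    ev (P ⊗[K] Ω) s (Algebra.TensorProduct.map (Algebra.TensorProduct.includeLeft : P →ₐ[K] P ⊗[K] Ω)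
      (AlgHom.id K L) y) = Algebra.TensorProduct.map (AlgHom.id K P) s y := by
  induction y using TensorProduct.induction_on with
  | zero => simp only [map_zero]
  | add x y hx hy => simp only [map_add, hx, hy]
  | tmul r l =>
    rw [Algebra.TensorProduct.map_tmul, ev_tmul, Algebra.TensorProduct.map_tmul]
    change (r ⊗ₜ[K] (1 : Ω)) * (1 ⊗ₜ[K] (s l)) = r ⊗ₜ s l
    rw [Algebra.TensorProduct.tmul_mul_tmul, mul_one, one_mul]

/-- The monomials. -/
noncomputable def mS : Multiplicative (Fin n → ℤ) →* (P ⊗[K] Ω)ˣ := lft (x W F)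

theorem mS_gen (i : Fin n) : mS W F (gen i) = x W F i := lft_gen _ i

include hε in
theorem pt_mS (g : Multiplicative (Fin n → ℤ)) : ptA ε (mS W F g : P ⊗[K] Ω) = 1 := by
  have h1 : (Units.map (ptA (Ω := Ω) ε : P ⊗[K] Ω →* Ω)).comp (mS W F) = 1 := by
    apply hom_ext
    intro i
    apply Units.ext
    change ptA ε (mS W F (gen i) : P ⊗[K] Ω) = 1
    rw [mS_gen]
    exact pt_x W F ε hε i
  exact congrArg Units.val (DFunLike.congr_fun h1 g)

/-- The map from the group algebra. -/
noncomputable def al : MonoidAlgebra Ω (Multiplicative (Fin n → ℤ)) →ₐ[Ω] P ⊗[K] Ω :=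
  MonoidAlgebra.lift Ω (P ⊗[K] Ω) (Multiplicative (Fin n → ℤ)) ((Units.coeHom _).comp (mS W F))

theorem al_single (g : Multiplicative (Fin n → ℤ)) : al W F (MonoidAlgebra.single g 1) = mS W F g := by
  rw [al, MonoidAlgebra.lift_single, one_smul]
  rfl

section Beta

variable {R : Type u} [CommRing R] [Algebra K R] [Algebra Ω R] [IsScalarTower K Ω R] (φ : P →ₐ[K] R)

/-- The map induced on `P ⊗ Ω`. -/
noncomputable def be : P ⊗[K] Ω →ₐ[Ω] R :=
  { Algebra.TensorProduct.productMap φ (IsScalarTower.toAlgHom K Ω R) with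
    commutes' := fun c => by
      change Algebra.TensorProduct.productMap φ (IsScalarTower.toAlgHom K Ω R) (1 ⊗ₜ c) = _
      rw [Algebra.TensorProduct.productMap_apply_tmul, map_one, one_mul]
      rfl }

theorem be_tmul (p : P) (c : Ω) : be φ (p ⊗ₜ c) = φ p * algebraMap Ω R c := by
  change Algebra.TensorProduct.productMap φ (IsScalarTower.toAlgHom K Ω R) (p ⊗ₜ c) = _
  rw [Algebra.TensorProduct.productMap_apply_tmul]
  rfl

theorem be_map (s : L →ₐ[K] Ω) (y : P ⊗[K] L) : be φ (Algebra.TensorProduct.map (AlgHom.id K P) s y) =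
    ev R s (Algebra.TensorProduct.map φ (AlgHom.id K L) y) := by
  induction y using TensorProduct.induction_on with
  | zero => simp only [map_zero]
  | add x y hx hy => simp only [map_add, hx, hy]
  | tmul r l =>
    rw [Algebra.TensorProduct.map_tmul, Algebra.TensorProduct.map_tmul, ev_tmul]
    exact be_tmul φ _ _

end Beta

theorem exists_φ : ∃ φ : P →ₐ[K] MonoidAlgebra Ω (Multiplicative (Fin n → ℤ)), ∀ i,
    ev (MonoidAlgebra Ω (Multiplicative (Fin n → ℤ))) (F.s i)
      (Algebra.TensorProduct.map φ (AlgHom.id K L) (W.u : P ⊗[K] L)) = MonoidAlgebra.single (gen i) 1 := by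
  obtain ⟨v, hv⟩ := exists_ev_unit (MonoidAlgebra Ω (Multiplicative (Fin n → ℤ))) F
    fun i => (MonoidAlgebra.of Ω (Multiplicative (Fin n → ℤ))).toHomUnits (gen i)
  obtain ⟨φ, hφ⟩ := W.ex _ v
  refine ⟨φ, fun i => ?_⟩
  rw [hφ, hv]
  rfl

theorem map_comp (B C : Type u) [CommRing B] [CommRing C] [Algebra K B] [Algebra K C] (φ : P →ₐ[K] B)
    (ψ : B →ₐ[K] C) (y : P ⊗[K] L) : Algebra.TensorProduct.map (ψ.comp φ) (AlgHom.id K L) y =
      Algebra.TensorProduct.map ψ (AlgHom.id K L) (Algebra.TensorProduct.map φ (AlgHom.id K L) y) := by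
  induction y using TensorProduct.induction_on with
  | zero => simp only [map_zero]
  | add x y hx hy => simp only [map_add, hx, hy]
  | tmul r l => rfl

section Inv

variable (φ : P →ₐ[K] MonoidAlgebra Ω (Multiplicative (Fin n → ℤ)))
  (hφ : ∀ i, ev (MonoidAlgebra Ω (Multiplicative (Fin n → ℤ))) (F.s i)
      (Algebra.TensorProduct.map φ (AlgHom.id K L) (W.u : P ⊗[K] L)) = MonoidAlgebra.single (gen i) 1)

include hφ in
theorem be_al : (be φ).comp (al W F) = AlgHom.id Ω _ := by
  apply algHom_ext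
  intro i
  change be φ (al W F (MonoidAlgebra.single (gen i) 1)) = MonoidAlgebra.single (gen i) 1
  rw [al_single, mS_gen, x_val, be_map, hφ]

include hφ in
theorem al_φ : ((al W F).restrictScalars K).comp φ = (Algebra.TensorProduct.includeLeft : P →ₐ[K] P ⊗[K] Ω) := by
  apply W.uniq
  apply ev_injective (P ⊗[K] Ω) F
  intro i
  rw [map_comp, ev_map, hφ, al_single, mS_gen, ev_incl, x_val]

include hφ in
theorem al_be : (al W F).comp (be φ) = AlgHom.id Ω _ := by
  apply AlgHom.ext
  intro y
  change al W F (be φ y) = y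
  induction y using TensorProduct.induction_on with
  | zero => simp only [map_zero]
  | add x y hx hy => simp only [map_add, hx, hy]
  | tmul p c =>
    rw [be_tmul, map_mul, AlgHom.commutes]
    have h5 : al W F (φ p) = p ⊗ₜ 1 := DFunLike.congr_fun (al_φ W F φ hφ) p
    rw [h5]
    change (p ⊗ₜ[K] (1 : Ω)) * (1 ⊗ₜ[K] c) = p ⊗ₜ c
    rw [Algebra.TensorProduct.tmul_mul_tmul, mul_one, one_mul]

end Inv

theorem al_bijective : Function.Bijective (al W F) := by
  obtain ⟨φ, hφ⟩ := exists_φ W F
  exact (AlgEquiv.ofAlgHom (al W F) (be φ) (al_be W F φ hφ) (be_al W F φ hφ)).bijective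

/-- **The splitting.** -/
noncomputable def spl : Spl Ω (Multiplicative (Fin n → ℤ)) (ptA (Ω := Ω) ε) where
  m := mS W F
  pt_m := pt_mS W F ε hε
  bij := al_bijective W F

end Point

end Groth.Agent.Dix.K282.QTorus
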