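import Mathlib.RingTheory.TensorProduct.Maps
import Mathlib.FieldTheory.Galois.Basic

/-!
# Galois descent for algebras along a quadratic extension
-/

set_option autoImplicit false
universe u
open TensorProduct

namespace Groth.Agent.Dix.K282.QuadDesc

variable {K Ω : Type u} [Field K] [Field Ω] [Algebra K Ω]
  {R : Type u} [CommRing R] [Algebra Ω R] [Algebra K R] [IsScalarTower K Ω R]
  (σ : Ω ≃ₐ[K] Ω) (τ : R →+* R) (hτ : ∀ r, τ (τ r) = r)
  (hτσ : ∀ c : Ω, τ (algebraMap Ω R c) = algebraMap Ω R (σ c))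

include hτσ in
omit [Algebra K R] [IsScalarTower K Ω R] in
theorem τ_const [Algebra K R] [IsScalarTower K Ω R] (t : K) : τ (algebraMap K R t) = algebraMap K R t := by
  rw [IsScalarTower.algebraMap_apply K Ω R, hτσ, AlgEquiv.commutes]

/-- The fixed subalgebra. -/
def fix : Subalgebra K R where
  carrier := {r | τ r = r}
  mul_mem' := fun {a b} ha hb => by
    change τ (a * b) = a * b
    rw [map_mul, ha, hb]
  add_mem' := fun {a b} ha hb => by
    change τ (a + b) = a + b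
    rw [map_add, ha, hb]
  algebraMap_mem' := τ_const σ τ hτσ

theorem mem_fix (r : R) : r ∈ fix σ τ hτσ ↔ τ r = r := Iff.rfl

/-- `b ⊗ c ↦ b c`. -/
noncomputable def θ : (fix σ τ hτσ) ⊗[K] Ω →ₐ[K] R :=
  Algebra.TensorProduct.productMap (fix σ τ hτσ).val (IsScalarTower.toAlgHom K Ω R)

theorem θ_tmul (b : fix σ τ hτσ) (c : Ω) : θ σ τ hτσ (b ⊗ₜ c) = b * algebraMap Ω R c := by
  rw [θ, Algebra.TensorProduct.productMap_apply_tmul]
  rfl

variable (i : Ω) (hi : i ≠ 0) (hσi : σ i = -i) (h2 : (2 : Ω) ≠ 0)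

/-- the even part -/
def pp : R →+ fix σ τ hτσ where
  toFun r := ⟨algebraMap Ω R (2⁻¹) * (r + τ r), by
    rw [mem_fix, map_mul, map_add, hτ, hτσ, map_inv₀, map_ofNat, add_comm]⟩
  map_zero' := by
    apply Subtype.ext
    change algebraMap Ω R (2⁻¹) * (0 + τ 0) = 0
    rw [map_zero, add_zero, mul_zero]
  map_add' r s := by
    apply Subtype.ext
    change algebraMap Ω R (2⁻¹) * (r + s + τ (r + s)) = algebraMap Ω R (2⁻¹) * (r + τ r) +
      algebraMap Ω R (2⁻¹) * (s + τ s)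
    rw [map_add]
    ring

include hσi in
/-- the odd part -/
def qq : R →+ fix σ τ hτσ where
  toFun r := ⟨algebraMap Ω R ((2 * i)⁻¹) * (r - τ r), by
    rw [mem_fix, map_mul, map_sub, hτ, hτσ, map_inv₀, map_mul, map_ofNat, hσi, mul_neg, inv_neg, map_neg]
    ring⟩
  map_zero' := by
    apply Subtype.ext
    change algebraMap Ω R ((2 * i)⁻¹) * (0 - τ 0) = 0
    rw [map_zero, sub_zero, mul_zero]
  map_add' r s := by
    apply Subtype.ext
    change algebraMap Ω R ((2 * i)⁻¹) * (r + s - τ (r + s)) = algebraMap Ω R ((2 * i)⁻¹) * (r - τ r) +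
      algebraMap Ω R ((2 * i)⁻¹) * (s - τ s)
    rw [map_add]
    ring

/-- the inverse of `θ` -/
noncomputable def inv' : R →+ (fix σ τ hτσ) ⊗[K] Ω where
  toFun r := (pp σ τ hτ hτσ r) ⊗ₜ 1 + (qq σ τ hτ hτσ i hσi r) ⊗ₜ i
  map_zero' := by rw [map_zero, map_zero, zero_tmul, zero_tmul, add_zero]
  map_add' r s := by
    rw [map_add, map_add, add_tmul, add_tmul]
    abel

include hi h2 in
theorem θ_inv' (r : R) : θ σ τ hτσ (inv' σ τ hτ hτσ i hσi r) = r := by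
  change θ σ τ hτσ ((pp σ τ hτ hτσ r) ⊗ₜ 1 + (qq σ τ hτ hτσ i hσi r) ⊗ₜ i) = r
  rw [map_add, θ_tmul, θ_tmul, map_one, mul_one]
  change algebraMap Ω R (2⁻¹) * (r + τ r) + algebraMap Ω R ((2 * i)⁻¹) * (r - τ r) * algebraMap Ω R i = r
  have e1 : algebraMap Ω R ((2 * i)⁻¹) * algebraMap Ω R i = algebraMap Ω R (2⁻¹) := by
    rw [← map_mul]
    congr 1
    field_simp
  have e2 : algebraMap Ω R (2⁻¹) * 2 = 1 := by
    have : (2 : R) = algebraMap Ω R 2 := (map_ofNat _ 2).symm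
    rw [this, ← map_mul, inv_mul_cancel₀ h2, map_one]
  calc algebraMap Ω R (2⁻¹) * (r + τ r) + algebraMap Ω R ((2 * i)⁻¹) * (r - τ r) * algebraMap Ω R i
      = algebraMap Ω R (2⁻¹) * (r + τ r) +
        (algebraMap Ω R ((2 * i)⁻¹) * algebraMap Ω R i) * (r - τ r) := by ring
    _ = (algebraMap Ω R (2⁻¹) * 2) * r := by rw [e1]; ring
    _ = r := by rw [e2, one_mul]

variable (hfix : ∀ c : Ω, σ c = c → ∃ t : K, algebraMap K Ω t = c) (hσσ : ∀ c, σ (σ c) = c)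

include hi h2 hfix hσσ in
theorem inv'_θ (z : (fix σ τ hτσ) ⊗[K] Ω) : inv' σ τ hτ hτσ i hσi (θ σ τ hτσ z) = z := by
  induction z using TensorProduct.induction_on with
  | zero => rw [map_zero, map_zero]
  | add x y hx hy => rw [map_add, map_add, hx, hy]
  | tmul b c =>
    obtain ⟨t, ht⟩ := hfix (2⁻¹ * (c + σ c)) (by
      rw [map_mul, map_add, hσσ, map_inv₀, map_ofNat, add_comm])
    obtain ⟨s, hs⟩ := hfix ((2 * i)⁻¹ * (c - σ c)) (by
      rw [map_mul, map_sub, hσσ, map_inv₀, map_mul, map_ofNat, hσi, mul_neg, inv_neg]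
      ring)
    have hb : τ (b : R) = b := b.2
    have e1 : pp σ τ hτ hτσ (θ σ τ hτσ (b ⊗ₜ c)) = t • b := by
      apply Subtype.ext
      change algebraMap Ω R (2⁻¹) * (θ σ τ hτσ (b ⊗ₜ c) + τ (θ σ τ hτσ (b ⊗ₜ c))) = t • (b : R)
      rw [θ_tmul, map_mul, hb, hτσ, Algebra.smul_def, IsScalarTower.algebraMap_apply K Ω R, ht, map_mul, map_add]
      ring
    have e2 : qq σ τ hτ hτσ i hσi (θ σ τ hτσ (b ⊗ₜ c)) = s • b := by
      apply Subtype.ext
      change algebraMap Ω R ((2 * i)⁻¹) * (θ σ τ hτσ (b ⊗ₜ c) - τ (θ σ τ hτσ (b ⊗ₜ c))) = s • (b : R)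
      rw [θ_tmul, map_mul, hb, hτσ, Algebra.smul_def, IsScalarTower.algebraMap_apply K Ω R, hs, map_mul, map_sub]
      ring
    change (pp σ τ hτ hτσ (θ σ τ hτσ (b ⊗ₜ c))) ⊗ₜ 1 + (qq σ τ hτ hτσ i hσi (θ σ τ hτσ (b ⊗ₜ c))) ⊗ₜ i = _
    rw [e1, e2, smul_tmul, smul_tmul, ← tmul_add]
    congr 1
    rw [Algebra.smul_def, Algebra.smul_def, ht, hs]
    field_simp
    ring

include hi hσi h2 hfix hσσ hτ in
/-- **Descent**: `R^τ ⊗ Ω = R`. -/
theorem θ_bijective : Function.Bijective (θ σ τ hτσ) :=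
  Function.bijective_iff_has_inverse.2 ⟨inv' σ τ hτ hτσ i hσi,
    inv'_θ σ τ hτ hτσ i hi hσi h2 hfix hσσ, θ_inv' σ τ hτ hτσ i hi hσi h2⟩

end Groth.Agent.Dix.K282.QuadDesc
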