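import Groth.Agent.Dix.K282.StkData
import Groth.Agent.Etbc.H201.CycVan
import Groth.Agent.CurvesA.EtFieldTors
import Groth.Agent.CurvesA.EtFieldH
import Groth.Agent.Etrest.SHPoint

/-!
# Vanishing of `H³(K, N)` when the separable closure of `K` is a cyclic extension of finite degree and the Galois
# group acts trivially on the torsion free stalk of `N`
-/

set_option autoImplicit false
universe w v u
open CategoryTheory CategoryTheory.Limits AlgebraicGeometry Opposite Abelian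
open scoped Groth.Agent.Etcore.EtInst
open Groth.Agent.Etcore.EtInst

namespace Groth.Agent.Dix.K282.RealVan

open Groth.Agent.CurvesA Groth.Agent.CurvesA.EtFieldObj Groth.Agent.CurvesA.EtFieldDesc
  Groth.Agent.CurvesA.EtFieldTr Groth.Agent.CurvesA.ExtMid
open Groth.Agent.Sga4h.TameFieldStep
open Groth.Agent.Lefpen.H365.FieldPts
open Groth.Agent.Dix.K282.StkData
open Groth.Agent.Etcore.PullCoh (map_res res_comp res_id map_comp_app)

section Abstract

variable {𝒜 : Type u} [Category.{v} 𝒜] [Abelian 𝒜] [HasExt.{w} 𝒜]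

theorem ext3_eq_zero {Q Z : 𝒜} {D N : Z ⟶ Z} {ε : Z ⟶ Q} (c : Cyc D N ε) {F : 𝒜}
    (h1 : Van Z 1 F) (h2 : Van Z 2 F) (h3 : Van Z 3 F) (h0 : ∀ b : Z ⟶ F, N ≫ b = 0 → b = 0) :
    Van Q 3 F := by
  intro x
  obtain ⟨y, rfl⟩ := Ext.contravariant_sequence_exact₃ c.h₁ F x (h3 _) (by omega : 1 + 2 = 3)
  obtain ⟨z, rfl⟩ := Ext.contravariant_sequence_exact₃ c.h₂ F y (h2 _) (by omega : 1 + 1 = 2)
  obtain ⟨w, rfl⟩ := Ext.contravariant_sequence_exact₃ c.h₁ F z (h1 _) (by omega : 1 + 0 = 1)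
  obtain ⟨w, rfl⟩ := (Ext.mk₀_bijective _ _).2 w
  have he : Epi c.d := c.h₂.epi_g
  have hb : c.d ≫ w = 0 := by
    apply h0
    have h : (c.t ≫ c.d : Q ⟶ c.I) = 0 := c.w₂
    refine (congrArg (fun k => k ≫ c.d ≫ w) c.ht).symm.trans ?_
    rw [Category.assoc, ← Category.assoc c.t, h, zero_comp, comp_zero]
  have hw : w = 0 := by rw [← cancel_epi c.d, hb, comp_zero]
  rw [hw, Ext.mk₀_zero, Ext.comp_zero, Ext.comp_zero, Ext.comp_zero]

end Abstract

variable (K Ω : Type u) [Field K] [Field Ω] [Algebra K Ω] [FiniteDimensional K Ω] [IsGalois K Ω]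
  [IsSepClosed Ω]

omit [IsGalois K Ω] in
theorem van_ZL [Algebra.IsSeparable K Ω] (F : EtCoh.Ab (Spec (CommRingCat.of K))) (q : ℕ) (hq : 0 < q) :
    Van (ZL K Ω) q F := by
  refine EtFieldTors.van_ZL_iff Ω F q fun x => ?_
  have := Etrest.SHPoint.subsingleton_H_of_sepClosed Ω (EtFieldTors.R Ω F) q hq
  exact (EtFieldH.HEquiv (EtFieldTors.R Ω F) q).symm.injective (Subsingleton.elim _ _)

variable {K Ω}

/-- `H³(K, F) = 0` if the Galois group acts trivially on the torsion free group `F(Ω)`. -/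
theorem HH_three_eq_zero (σ : Ω ≃ₐ[K] Ω) (hσ : ∀ g : Ω ≃ₐ[K] Ω, ∃ i : ℕ, g = σ ^ i)
    (F : EtCoh.Ab (Spec (CommRingCat.of K)))
    (htriv : ∀ (g : Ω ≃ₐ[K] Ω) (s : F.obj.obj (op (etObj K Ω))),
      F.obj.map (aut (K := K) g).op s = s)
    (htf : ∀ (n : ℕ), n ≠ 0 → ∀ (s : F.obj.obj (op (etObj K Ω))), n • s = 0 → s = 0)
    (x : HH (Spec (CommRingCat.of K)) F 3) : x = 0 := by
  obtain ⟨c⟩ := Etbc.H201.CycVan.exists_cyc (K := K) σ hσ
  have hv : Van (ZL K K) 3 F := by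
    refine ext3_eq_zero c (van_ZL K Ω F 1 one_pos) (van_ZL K Ω F 2 two_pos)
      (van_ZL K Ω F 3 three_pos) ?_
    intro b hb
    apply SiteZU.ev_injective.{u + 1}
    rw [map_zero]
    apply htf (orderOf σ) (orderOf_pos σ).ne'
    have h1 : EtFieldCyc.Nm (K := K) σ ≫ b = orderOf σ • b := by
      rw [EtFieldCyc.Nm, Preadditive.sum_comp]
      rw [Finset.sum_congr rfl (g := fun _ => b) (fun i _ => ?_), Finset.sum_const, Finset.card_range]
      apply SiteZU.ev_injective.{u + 1}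
      rw [SiteZU.ev_map_comp]
      exact htriv (σ ^ i) _
    rw [← map_nsmul, ← h1, hb, map_zero]
  exact (EtFieldH.HEquiv F 3).injective ((hv _).trans (map_zero _).symm)

section Stk

variable {G : EtCoh.Ab (Spec (CommRingCat.of K))} {S : Type v} [AddCommGroup S] (E : Stk Ω G S)

/-- The same for a sheaf with a description of the stalk. -/
theorem HH_three_eq_zero_of_stk (σ : Ω ≃ₐ[K] Ω) (hσ : ∀ g : Ω ≃ₐ[K] Ω, ∃ i : ℕ, g = σ ^ i)
    (htriv : ∀ (g : Ω ≃ₐ[K] Ω) (V : (Spec (CommRingCat.of K)).Etale)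
      (r : Spec (CommRingCat.of Ω) ⟶ V.left) (hr : r ≫ V.hom = xi K Ω)
      (hr' : (Spec.map (CommRingCat.ofHom (g : Ω →+* Ω)) ≫ r) ≫ V.hom = xi K Ω) (s : EtCoh.sect G V),
      E.ev V (Spec.map (CommRingCat.ofHom (g : Ω →+* Ω)) ≫ r) hr' s = E.ev V r hr s)
    (htf : ∀ (n : ℕ), n ≠ 0 → ∀ (s : S), n • s = 0 → s = 0)
    (x : HH (Spec (CommRingCat.of K)) G 3) : x = 0 := by
  have hr₀ : 𝟙 _ ≫ (etObj K Ω).hom = xi K Ω := Category.id_comp _
  -- all points of `etObj K Ω` are conjugate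
  have key : ∀ (r : Spec (CommRingCat.of Ω) ⟶ (etObj K Ω).left) (_ : r ≫ (etObj K Ω).hom = xi K Ω),
      ∃ g : Ω ≃ₐ[K] Ω, r = Spec.map (CommRingCat.ofHom (g : Ω →+* Ω)) := by
    intro r hr
    obtain ⟨φ, rfl⟩ := Spec.map_surjective r
    obtain ⟨ψ, rfl⟩ := exists_algHom_of_SpecMap φ hr
    refine ⟨AlgEquiv.ofBijective ψ (Algebra.IsAlgebraic.algHom_bijective ψ), ?_⟩
    rfl
  have hev : ∀ (r : Spec (CommRingCat.of Ω) ⟶ (etObj K Ω).left) (hr : r ≫ (etObj K Ω).hom = xi K Ω)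
      (s : EtCoh.sect G (etObj K Ω)), E.ev _ r hr s = E.ev (etObj K Ω) (𝟙 _) hr₀ s := by
    intro r hr s
    obtain ⟨g, rfl⟩ := key r hr
    have h := htriv g (etObj K Ω) (𝟙 _) hr₀
      ((congrArg (fun k => k ≫ (etObj K Ω).hom) (Category.comp_id _)).trans hr) s
    rw [← h]
    congr 1
  have hinj : ∀ s : EtCoh.sect G (etObj K Ω), E.ev (etObj K Ω) (𝟙 _) hr₀ s = 0 → s = 0 := by
    intro s hs
    apply E.eq_zero (etObj K Ω) s
    intro r hr
    rw [hev r hr, hs]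
  refine HH_three_eq_zero σ hσ G ?_ ?_ x
  · intro g s
    rw [← sub_eq_zero]
    apply hinj
    rw [map_sub, sub_eq_zero]
    have hg : (aut (K := K) g).left ≫ (etObj K Ω).hom = xi K Ω := by
      exact MorphismProperty.Over.w (aut (K := K) g)
    rw [E.nat (aut (K := K) g) (𝟙 _) hr₀ (aut (K := K) g).left hg (Category.id_comp _) s]
    exact hev _ hg s
  · intro n hn s hs
    apply hinj
    apply htf n hn
    rw [← map_nsmul, hs, map_zero]

end Stk

end Groth.Agent.Dix.K282.RealVan
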