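import Groth.Agent.Sga3A.FibTorus
import Groth.Agent.Sga3A.FibMain
import Mathlib.RingTheory.Finiteness.Descent

/-!
# Tori over a separably closed field are split
-/

set_option autoImplicit false
universe u
open TensorProduct SGA3b

namespace Groth.Agent.Dix.K282.TorusSplit

open Groth.Agent.Sga3A.MultBC Groth.Agent.Sga3A.TypeLemma Groth.Agent.Sga3A.FibTorus
  Groth.Agent.Sga3A.FibMain

theorem finiteType {K A : Type u} [Field K] [CommRing A] [HopfAlgebra K A] (hT : IsTorusConst K A) :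
    Algebra.FiniteType K A := by
  obtain ⟨R', _, _, hff, n, ⟨e⟩⟩ := hT
  have h1 : Algebra.FiniteType R' (MonoidAlgebra R' (Multiplicative (Fin n → ℤ))) := inferInstance
  have h2 : Algebra.FiniteType R' (R' ⊗[K] A) := h1.equiv e.symm.toAlgEquiv
  exact Algebra.FiniteType.of_finiteType_tensorProduct_of_faithfullyFlat R'

/-- A torus over `K` is split over a separably closed extension. -/
theorem exists_split (K Ω A : Type u) [Field K] [Field Ω] [Algebra K Ω] [IsSepClosed Ω] [CommRing A]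
    [HopfAlgebra K A] (hT : IsTorus K A) :
    ∃ n : ℕ, Nonempty (Ω ⊗[K] A ≃ₐc[Ω] MonoidAlgebra Ω (Multiplicative (Fin n → ℤ))) := by
  have hc := const_of_isLocalRing K A hT
  have hft := finiteType hc
  obtain ⟨R', _, _, hff, n, ⟨e⟩⟩ := hc
  have hnt : Nontrivial R' := nontrivial_of_ff K R'
  have hm : IsMultTypeConst Ω (Ω ⊗[K] A) := by
    obtain ⟨e1⟩ := exists_congr (Ω ⊗[K] R') (MulEquiv.ulift : ULift.{u} (Multiplicative (Fin n → ℤ)) ≃* _).symm
    obtain ⟨e2⟩ := diag_of_algHom (B := A) (Algebra.TensorProduct.includeRight : R' →ₐ[K] Ω ⊗[K] R') ⟨e⟩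
    exact ⟨Ω ⊗[K] R', inferInstance, inferInstance, inferInstance, _, inferInstance,
      ⟨((bcTower K Ω (Ω ⊗[K] R') A).trans e2).trans e1⟩⟩
  obtain ⟨M, _, ⟨e3⟩⟩ := isDiag_of_isSepClosed Ω (Ω ⊗[K] A) inferInstance (isMultType_of_const hm)
  obtain ⟨g⟩ := mulEquiv_of_common (B := A) (S := Ω) (S' := R') (T := Ω ⊗[K] R')
    (Algebra.TensorProduct.includeLeft : Ω →ₐ[K] Ω ⊗[K] R')
    (Algebra.TensorProduct.includeRight : R' →ₐ[K] Ω ⊗[K] R') ⟨e3⟩ ⟨e⟩
  obtain ⟨e4⟩ := exists_congr Ω g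
  exact ⟨n, ⟨e3.trans e4⟩⟩

end Groth.Agent.Dix.K282.TorusSplit
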