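import Groth.Agent.Dix.K282.RealMap
import Groth.Agent.Dix.K282.RealVan
import Groth.Agent.Dix.K282.TorusSplit

/-!
# `H³(K, f_* G_m) ⟶ H³(T, G_m)` is injective for a torus `T` over a real closed field
-/

set_option autoImplicit false
universe u
open CategoryTheory CategoryTheory.Limits AlgebraicGeometry Opposite TensorProduct
open scoped Groth.Agent.Etcore.EtInst
open Groth.Agent.Etcore.EtInst

namespace Groth.Agent.Dix.K282.RealMain

open Groth.Agent.Lefpen.H365.FieldPts Groth.Agent.Dix.K282.StkData Groth.Agent.Dix.K282.PMap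
open Groth.Agent.Dix.K282.QuadDesc Groth.Agent.Dix.K282.UnitsMA Groth.Agent.Dix.K282.AlgStk
open Groth.Agent.Dix.K282.TorusStk Groth.Agent.Dix.K282.NormOne Groth.Agent.Dix.K282.RealMap
open Groth.Agent.Dix.K282.GeoVan Groth.Agent.Dix.K282.Assemble Groth.Agent.Dix.K282.Pointed

attribute [local instance] Algebra.TensorProduct.rightAlgebra

section Psi

variable {K Ω : Type u} [Field K] [Field Ω] [Algebra K Ω]
  {A B C C' : Type u} [CommRing A] [CommRing B] [CommRing C] [CommRing C'] [Algebra K A] [Algebra K B]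
  [Algebra K C] [Algebra K C']

theorem mA_comp (j : A →ₐ[K] B) (l : B →ₐ[K] C) (m : A →ₐ[K] C) (h : l.comp j = m)
    (a : Additive (A ⊗[K] Ω)ˣ) : mA Ω l (mA Ω j a) = mA Ω m a := by
  subst h
  apply Additive.toMul.injective
  apply Units.ext
  rw [mA_val, mA_val, mA_val]
  generalize (a.toMul : A ⊗[K] Ω) = x
  induction x using TensorProduct.induction_on with
  | zero => simp only [map_zero]
  | add x y hx hy => simp only [map_add, hx, hy]
  | tmul a c => rfl

variable (Ω)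

/-- The map on the kernels of evaluation. -/
noncomputable def psi (z : B →ₐ[K] C) (z' : A →ₐ[K] C') (j : A →ₐ[K] B) (c : C' →ₐ[K] C)
    (h : z.comp j = c.comp z') : (mA Ω z').ker →+ (mA Ω z).ker :=
  ((mA Ω j).comp (mA Ω z').ker.subtype).codRestrict _ fun a => by
    rw [AddMonoidHom.mem_ker]
    change mA Ω z (mA Ω j a.1) = 0
    rw [mA_comp j z _ rfl, h, ← mA_comp z' c _ rfl]
    have h1 : mA Ω z' a.1 = 0 := a.2
    rw [h1, map_zero]

theorem psi_val (z : B →ₐ[K] C) (z' : A →ₐ[K] C') (j : A →ₐ[K] B) (c : C' →ₐ[K] C)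
    (h : z.comp j = c.comp z') (a : (mA Ω z').ker) :
    (psi Ω z z' j c h a : Additive (B ⊗[K] Ω)ˣ) = mA Ω j a.1 := rfl

variable [Algebra.IsSeparable K Ω] [IsSepClosed Ω]

theorem stkK_kap' (z : B →ₐ[K] C) (z' : A →ₐ[K] C')
    (j : A →ₐ[K] B) (c : C' →ₐ[K] C) (h : z.comp j = c.comp z')
    (V : (Spec (CommRingCat.of K)).Etale)
    (r : Spec (CommRingCat.of Ω) ⟶ V.left) (hr : r ≫ V.hom = xi K Ω) (s : EtCoh.sect (KK z') V) :
    (stkK Ω z).ev V r hr ((kap z z' j c h).hom.app (op V) s) =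
      psi Ω z z' j c h ((stkK Ω z').ev V r hr s) :=
  Subtype.ext (stkK_kap Ω z z' j c h V r hr s)

theorem stkK_gal (ε : A →ₐ[K] K) (σ : Ω ≃ₐ[K] Ω) (V : (Spec (CommRingCat.of K)).Etale)
    (r : Spec (CommRingCat.of Ω) ⟶ V.left) (hr : r ≫ V.hom = xi K Ω) (s : EtCoh.sect (KK ε) V) :
    (stkK Ω ε).ev V (Spec.map (CommRingCat.ofHom (σ : Ω →+* Ω)) ≫ r) (gal_hom Ω r hr σ) s =
      galK ε σ ((stkK Ω ε).ev V r hr s) := by
  apply Subtype.ext
  rw [galK_val, stkK_ev, stkK_ev]
  exact stkA_gal Ω σ V r hr _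

end Psi

variable {K Ω : Type u} [Field K] [Field Ω] [Algebra K Ω] (D : Quad K Ω) {A : Type u} [CommRing A] [Algebra K A]
  (ε : A →ₐ[K] K) {n : ℕ} (S : Spl Ω (Multiplicative (Fin n → ℤ)) (ptA (Ω := Ω) ε))

theorem torsionFree {M : Type*} [AddCommGroup M] [Module.Free ℤ M] (k : ℕ) (hk : k ≠ 0) (m : M)
    (h : k • m = 0) : m = 0 := by
  have h1 : (k : ℤ) • m = 0 := by rwa [natCast_zsmul]
  exact (smul_eq_zero.1 h1).resolve_left (by exact_mod_cast hk)

include D S in
/-- The edge map is injective in degree 3. -/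
theorem eH_injective_torus [FiniteDimensional K Ω] [IsGalois K Ω] [IsAlgClosed Ω]
    (hgal : ∀ g : Ω ≃ₐ[K] Ω, g = 1 ∨ g = D.σ) :
    Function.Injective (eH (sp K A) (EtCoh.Gm (Spec (CommRingCat.of A))) (2 + 1)) := by
  refine eH_injective_of_ker ε 2 fun y hy => ?_
  let e : (Fin n → ℤ) ≃ₗ[ℤ] (mA Ω ε).ker :=
    ((AddEquiv.additiveMultiplicative (Fin n → ℤ)).symm.trans (monE ε S)).toIntLinearEquiv
  have hfree : Module.Free ℤ (mA Ω ε).ker := Module.Free.of_equiv e
  have hfin : Module.Finite ℤ (mA Ω ε).ker := Module.Finite.equiv e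
  have hσ1 : D.σ * D.σ = 1 := by
    ext c
    exact D.hσσ c
  obtain ⟨r, φ, hφ, hsurj, hker⟩ := exists_phi (mA Ω ε).ker (galK ε D.σ) (fun m => by
    apply Subtype.ext
    rw [galK_val, galK_val, gal_comp, hσ1, gal_one])
  choose j hj1 hj2 using fun i => exists_j D ε S (φ i) (hφ i)
  refine eq_zero_of_family (stkK Ω (z D)) 3 r (KK ε) (mA Ω ε).ker (stkK Ω ε)
    (fun i => kap (z D) ε (j i) (AlgHom.id K K) (hj1 i))
    (fun i => psi Ω (z D) ε (j i) (AlgHom.id K K) (hj1 i)) ?_ ?_ ?_ y ?_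
  · intro i V r hr s
    exact stkK_kap' Ω (z D) ε (j i) (AlgHom.id K K) (hj1 i) V r hr s
  · intro t
    choose m hm using fun i => exists_mo D (t i)
    obtain ⟨s, hs⟩ := hsurj m
    refine ⟨s, fun i => eq_of_θ' D ?_⟩
    rw [psi_val, hj2, hs, hm]
  · intro N ι T _ EN θ hθ hev h0 x
    have h1 : ∀ t, galK ε D.σ (θ t) = θ t := by
      intro t
      apply hker
      intro i
      have h2 := congrArg (fun w : (mA Ω (z D)).ker => θ' D (w.1.toMul : (B D) ⊗[K] Ω)) (h0 t i)
      have h3 := (hj2 i (θ t)).symm.trans h2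
      have h4 : (mo Ω (Multiplicative.ofAdd (φ i (θ t))) : R₁ Ω) = mo Ω 1 := by
        rw [map_one]
        exact h3.trans (map_one (θ' D))
      exact Multiplicative.ofAdd.injective ((spl₁ Ω).m_injective (Units.ext h4))
    have htf : ∀ k : ℕ, k ≠ 0 → ∀ t : T, k • t = 0 → t = 0 := by
      intro k hk t ht
      apply hθ
      rw [map_zero]
      apply torsionFree k hk
      rw [← map_nsmul, ht, map_zero]
    refine RealVan.HH_three_eq_zero_of_stk EN D.σ (fun g => ?_) ?_ htf x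
    · rcases hgal g with rfl | rfl
      · exact ⟨0, rfl⟩
      · exact ⟨1, (pow_one _).symm⟩
    · intro g V r hr hr' s
      apply hθ
      rw [← hev, ← hev]
      refine (stkK_gal Ω ε g V r hr _).trans ?_
      rw [hev]
      rcases hgal g with rfl | rfl
      · apply Subtype.ext
        rw [galK_val, gal_one]
      · exact h1 _
  · intro i
    exact kap_eq_zero (z D) ε (j i) (AlgHom.id K K) (hj1 i) (Algebra.ofId K (B D)) (Subsingleton.elim _ _) 3
      (eH_injective_of_laurent (θe D) 2) y hy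

end Groth.Agent.Dix.K282.RealMain
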