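import Groth.Agent.Dix.K282.TorusStk

/-!
# Maps of a torus to the norm one torus
-/

set_option autoImplicit false
universe u
open TensorProduct

namespace Groth.Agent.Dix.K282.RealMap

open Groth.Agent.Dix.K282.QuadDesc Groth.Agent.Dix.K282.UnitsMA Groth.Agent.Dix.K282.AlgStk
open Groth.Agent.Dix.K282.TorusStk Groth.Agent.Dix.K282.NormOne

attribute [local instance] Algebra.TensorProduct.rightAlgebra

variable {K Ω : Type u} [Field K] [Field Ω] [Algebra K Ω] (D : Quad K Ω) {A : Type u} [CommRing A] [Algebra K A]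
  (ε : A →ₐ[K] K) {G : Type*} [CommGroup G] (S : Spl Ω G (ptA (Ω := Ω) ε))

include S in
/-- The homomorphism given by a functional. -/
theorem exists_j (φ : (mA Ω ε).ker →+ ℤ) (hφ : ∀ m, φ (galK ε D.σ m) = - φ m) [TwoUniqueProds G] :
    ∃ j : A →ₐ[K] B D, (z D).comp j = (AlgHom.id K K).comp ε ∧
      ∀ m : (mA Ω ε).ker, θ' D ((mA Ω j m.1).toMul : (B D) ⊗[K] Ω) =
        (mo Ω (Multiplicative.ofAdd (φ m)) : R₁ Ω) := by
  obtain ⟨f, hf1, hf2⟩ := S.exists_hom (algebraMap Ω (R₁ Ω))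
    ((mo Ω).comp (AddMonoidHom.toMultiplicativeRight (φ.comp (mon ε S))))
  have hf2' : ∀ g, f (S.m g : A ⊗[K] Ω) = (mo Ω (Multiplicative.ofAdd (φ (mon ε S (Additive.ofMul g)))) : R₁ Ω) :=
    hf2
  have hfm : ∀ m : (mA Ω ε).ker, f (m.1.toMul : A ⊗[K] Ω) = (mo Ω (Multiplicative.ofAdd (φ m)) : R₁ Ω) := by
    intro m
    obtain ⟨g, rfl⟩ := (mon_bijective ε S).2 m
    exact hf2' g.toMul
  have hgal : ∀ x, f (galA K Ω A D.σ x) = τ D (f x) := by
    have h : f.comp (galA K Ω A D.σ).toRingHom = (τ D).comp f := by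
      apply S.ringHom_ext
      · intro c
        change f (galA K Ω A D.σ (1 ⊗ₜ c)) = τ D (f (algebraMap Ω _ c))
        rw [galA_tmul, hf1, τ_algebraMap]
        exact hf1 _
      · intro g
        change f (galA K Ω A D.σ (S.m g : A ⊗[K] Ω)) = τ D (f (S.m g : A ⊗[K] Ω))
        rw [hf2', τ_mo]
        refine (hfm (galK ε D.σ (mon ε S (Additive.ofMul g)))).trans ?_
        rw [hφ]
        rfl
    exact fun x => DFunLike.congr_fun h x
  have hpt : ∀ x, pt₁ Ω (f x) = ptA ε x := by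
    have h : ((pt₁ Ω : R₁ Ω →ₐ[Ω] Ω) : R₁ Ω →+* Ω).comp f = ((ptA ε : A ⊗[K] Ω →ₐ[Ω] Ω) : A ⊗[K] Ω →+* Ω) := by
      apply S.ringHom_ext
      · intro c
        change pt₁ Ω (f _) = ptA ε _
        rw [hf1, AlgHom.commutes, AlgHom.commutes]
      · intro g
        change pt₁ Ω (f _) = ptA ε _
        rw [hf2', pt₁_mo, S.pt_m]
    exact fun x => DFunLike.congr_fun h x
  let fA : A →ₐ[K] R₁ Ω :=
    { f.comp (Algebra.TensorProduct.includeLeftRingHom : A →+* A ⊗[K] Ω) with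
      commutes' := fun r => by
        change f (algebraMap K A r ⊗ₜ 1) = algebraMap K (R₁ Ω) r
        rw [IsScalarTower.algebraMap_apply K Ω (R₁ Ω), ← hf1]
        congr 1
        rw [Algebra.algebraMap_eq_smul_one, smul_tmul, ← Algebra.algebraMap_eq_smul_one]
        rfl }
  have hfA : ∀ a, fA a = f (a ⊗ₜ 1) := fun a => rfl
  let j : A →ₐ[K] B D := fA.codRestrict (B D) fun a => by
    change τ D (fA a) = fA a
    rw [hfA, ← hgal, galA_tmul, map_one]
  have hj : ∀ a, (j a : R₁ Ω) = f (a ⊗ₜ 1) := fun a => rfl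
  refine ⟨j, ?_, ?_⟩
  · apply z_comp
    intro a
    rw [hj, hpt, ptA_tmul, mul_one]
  · intro m
    rw [← hfm m, mA_val]
    generalize (m.1.toMul : A ⊗[K] Ω) = x
    induction x using TensorProduct.induction_on with
    | zero => simp only [map_zero]
    | add x y hx hy => simp only [map_add, hx, hy]
    | tmul a c =>
      rw [Algebra.TensorProduct.map_tmul, θ'_tmul, hj]
      change f (a ⊗ₜ 1) * algebraMap Ω (R₁ Ω) c = f (a ⊗ₜ c)
      rw [← hf1, ← map_mul]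
      congr 1
      change (a ⊗ₜ (1 : Ω)) * (1 ⊗ₜ[K] c) = _
      rw [Algebra.TensorProduct.tmul_mul_tmul, mul_one, one_mul]

theorem mem_ker_z (w : Additive ((B D) ⊗[K] Ω)ˣ) :
    w ∈ (mA Ω (z D)).ker ↔ pt₁ Ω (θ' D (w.toMul : (B D) ⊗[K] Ω)) = 1 := by
  rw [mem_ker_iff, ptA_eq, lid_z]

/-- The elements of the kernel for the norm one torus. -/
theorem exists_mo (w : (mA Ω (z D)).ker) : ∃ n : ℤ,
    θ' D (w.1.toMul : (B D) ⊗[K] Ω) = (mo Ω (Multiplicative.ofAdd n) : R₁ Ω) := by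
  obtain ⟨g, hg⟩ := (spl₁ Ω).exists_eq (Units.map ((θ' D : (B D) ⊗[K] Ω →ₐ[K] R₁ Ω) : (B D) ⊗[K] Ω →* R₁ Ω)
    w.1.toMul) ((mem_ker_z D w.1).1 w.2)
  exact ⟨g.toAdd, congrArg Units.val hg⟩

theorem eq_of_θ' {w w' : (mA Ω (z D)).ker} (h : θ' D (w.1.toMul : (B D) ⊗[K] Ω) =
    θ' D (w'.1.toMul : (B D) ⊗[K] Ω)) : w = w' :=
  Subtype.ext (Additive.toMul.injective (Units.ext ((θ'_bijective D).1 h)))

end Groth.Agent.Dix.K282.RealMap
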