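import Groth.Agent.Lefpen.H365.B1

/-!
# Values at a geometric point of sheaves on the spectrum of a field

`Stk Ω G S`: a description of the stalk of `G : EtCoh.Ab (Spec K)` at `Spec Ω` as the group `S`, by evaluation maps
`G(V) ⟶ S` for every `V` étale over `K` and `r : Spec Ω ⟶ V` over `K`.

* `Stk.eq_zero`, `epi_of_surjective`, `mono_of_injective`.
* `Stk.kernel`: the kernel of a morphism.
-/

set_option autoImplicit false
universe v u
open CategoryTheory CategoryTheory.Limits AlgebraicGeometry Opposite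

namespace Groth.Agent.Dix.K282.StkData

open Groth.Agent.Etcore.PullCoh (map_res res_comp res_id map_comp_app)
open Groth.Agent.EtpbcB.Big (et_w)
open Groth.Agent.Lefpen.H365.FieldPts
open Groth.Agent.Lefpen.H365.B1 (exists_lift)

theorem mono_of_app_injective {S : Scheme.{u}} {A B : EtCoh.Ab S} (φ : A ⟶ B)
    (h : ∀ (U : S.Etale) (a : EtCoh.sect A U), φ.hom.app (op U) a = 0 → a = 0) : Mono φ := by
  have : ∀ U : S.Etaleᵒᵖ, Mono (φ.hom.app U) := fun U ↦ by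
    rw [AddCommGrpCat.mono_iff_injective]
    exact (injective_iff_map_eq_zero' (φ.hom.app U).hom).2 fun a ↦
      ⟨h U.unop a, fun ha ↦ by rw [ha]; exact map_zero _⟩
  have : Mono φ.hom := NatTrans.mono_of_mono_app _
  exact Functor.mono_of_mono_map (sheafToPresheaf _ _) this

variable {K : Type u} (Ω : Type u) [Field K] [Field Ω] [Algebra K Ω]

/-- Evaluation maps `G(V) ⟶ S` at the geometric points of the étale `K`-schemes `V`, describing the stalk. -/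
structure Stk (G : EtCoh.Ab (Spec (CommRingCat.of K))) (S : Type v) [AddCommGroup S] where
  /-- the evaluation maps -/
  ev : ∀ (V : (Spec (CommRingCat.of K)).Etale) (r : Spec (CommRingCat.of Ω) ⟶ V.left),
    r ≫ V.hom = xi K Ω → (EtCoh.sect G V →+ S)
  nat : ∀ {V V' : (Spec (CommRingCat.of K)).Etale} (k : V' ⟶ V)
    (r' : Spec (CommRingCat.of Ω) ⟶ V'.left) (hr' : r' ≫ V'.hom = xi K Ω)
    (r : Spec (CommRingCat.of Ω) ⟶ V.left) (hr : r ≫ V.hom = xi K Ω) (_ : r' ≫ k.left = r)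
    (s : EtCoh.sect G V), ev V' r' hr' (G.obj.map k.op s) = ev V r hr s
  inj : ∀ (V : (Spec (CommRingCat.of K)).Etale) (r : Spec (CommRingCat.of Ω) ⟶ V.left)
    (hr : r ≫ V.hom = xi K Ω) (s : EtCoh.sect G V), ev V r hr s = 0 →
    ∃ (V' : (Spec (CommRingCat.of K)).Etale) (k : V' ⟶ V) (r' : Spec (CommRingCat.of Ω) ⟶ V'.left),
      r' ≫ k.left = r ∧ G.obj.map k.op s = 0
  surj : ∀ (V : (Spec (CommRingCat.of K)).Etale) (r : Spec (CommRingCat.of Ω) ⟶ V.left)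
    (_ : r ≫ V.hom = xi K Ω) (u : S),
    ∃ (V' : (Spec (CommRingCat.of K)).Etale) (k : V' ⟶ V) (r' : Spec (CommRingCat.of Ω) ⟶ V'.left)
      (hr' : r' ≫ V'.hom = xi K Ω) (s : EtCoh.sect G V'), r' ≫ k.left = r ∧ ev V' r' hr' s = u

variable {Ω}

theorem hom_of_fac {V V' : (Spec (CommRingCat.of K)).Etale} (k : V' ⟶ V)
    (r' : Spec (CommRingCat.of Ω) ⟶ V'.left) (r : Spec (CommRingCat.of Ω) ⟶ V.left)
    (hr : r ≫ V.hom = xi K Ω) (e : r' ≫ k.left = r) : r' ≫ V'.hom = xi K Ω := by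
  rw [← et_w k, ← Category.assoc, e, hr]

section

variable {G : EtCoh.Ab (Spec (CommRingCat.of K))} {S : Type v} [AddCommGroup S] (E : Stk Ω G S)

include E in
/-- A section all of whose values vanish is zero. -/
theorem Stk.eq_zero [Algebra.IsSeparable K Ω] [IsSepClosed Ω] (V : (Spec (CommRingCat.of K)).Etale) (s : EtCoh.sect G V)
    (h : ∀ (r : Spec (CommRingCat.of Ω) ⟶ V.left) (hr : r ≫ V.hom = xi K Ω), E.ev V r hr s = 0) :
    s = 0 := by
  apply Etbase.EtSite.sect_eq_zero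
  intro x
  obtain ⟨r, hr, hx⟩ := exists_lift (Ω := Ω) x
  obtain ⟨V', k, r', hk, h0⟩ := E.inj V r hr s (h r hr)
  refine ⟨V', k, r' default, ?_, h0⟩
  rw [← hx, ← hk]
  rfl

end

variable {G G' : EtCoh.Ab (Spec (CommRingCat.of K))} {S S' : Type v} [AddCommGroup S] [AddCommGroup S']
  (E : Stk Ω G S) (E' : Stk Ω G' S') (φ : G ⟶ G') (ψ : S →+ S')
  (hφ : ∀ (V : (Spec (CommRingCat.of K)).Etale) (r : Spec (CommRingCat.of Ω) ⟶ V.left)
    (hr : r ≫ V.hom = xi K Ω) (s : EtCoh.sect G V),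
      E'.ev V r hr (φ.hom.app (op V) s) = ψ (E.ev V r hr s))

include hφ in
theorem mono_of_injective [Algebra.IsSeparable K Ω] [IsSepClosed Ω] (hψ : Function.Injective ψ) : Mono φ := by
  apply mono_of_app_injective
  intro V s hs
  apply E.eq_zero V s
  intro r hr
  apply hψ
  rw [map_zero, ← hφ]
  exact (congrArg (E'.ev V r hr) hs).trans (map_zero _)

include hφ in
theorem epi_of_surjective [Algebra.IsSeparable K Ω] [IsSepClosed Ω] (hψ : Function.Surjective ψ) : Epi φ := by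
  rw [EtpbcA.StalkTools.epi_iff_locIm]
  intro V s v
  obtain ⟨r, hr, hx⟩ := exists_lift (Ω := Ω) v
  obtain ⟨u, hu⟩ := hψ (E'.ev V r hr s)
  obtain ⟨V₁, k₁, r₁, hr₁, t, hk₁, ht⟩ := E.surj V r hr u
  have h1 : E'.ev V₁ r₁ hr₁ (φ.hom.app (op V₁) t - G'.obj.map k₁.op s) = 0 := by
    rw [map_sub, hφ, ht, hu, E'.nat k₁ r₁ hr₁ r hr hk₁, sub_self]
  obtain ⟨V₂, k₂, r₂, hk₂, h0⟩ := E'.inj V₁ r₁ hr₁ _ h1
  refine ⟨V₂, k₂ ≫ k₁, r₂ default, ?_, G.obj.map k₂.op t, ?_⟩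
  · rw [← hx, ← hk₁, ← hk₂]
    rfl
  · rw [map_sub] at h0
    rw [map_res, res_comp]
    exact sub_eq_zero.1 h0

section Ker

include hφ in
/-- The value at a geometric point of a section of the kernel. -/
theorem ev_mem_ker (N : EtCoh.Ab (Spec (CommRingCat.of K))) (ι : N ⟶ G) (w : ι ≫ φ = 0)
    (V : (Spec (CommRingCat.of K)).Etale) (r : Spec (CommRingCat.of Ω) ⟶ V.left)
    (hr : r ≫ V.hom = xi K Ω) (s : EtCoh.sect N V) :
    E.ev V r hr (ι.hom.app (op V) s) ∈ ψ.ker := by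
  rw [AddMonoidHom.mem_ker, ← hφ, ← map_comp_app, w]
  exact map_zero (E'.ev V r hr)

/-- The stalk of a kernel. -/
noncomputable def Stk.ker {N : EtCoh.Ab (Spec (CommRingCat.of K))} {ι : N ⟶ G} (w : ι ≫ φ = 0)
    (hinj : ∀ (V : (Spec (CommRingCat.of K)).Etale) (s : EtCoh.sect N V),
      ι.hom.app (op V) s = 0 → s = 0)
    (hex : ∀ (V : (Spec (CommRingCat.of K)).Etale) (s : EtCoh.sect G V), φ.hom.app (op V) s = 0 →
      ∃ t : EtCoh.sect N V, ι.hom.app (op V) t = s) : Stk Ω N ψ.ker where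
  ev V r hr := AddMonoidHom.mk' (fun s => ⟨E.ev V r hr (ι.hom.app (op V) s),
    ev_mem_ker E E' φ ψ hφ N ι w V r hr s⟩) (fun s t => Subtype.ext (by
      change E.ev V r hr (ι.hom.app (op V) (s + t)) = _
      rw [map_add, map_add]
      rfl))
  nat k r' hr' r hr e s := Subtype.ext (by
    change E.ev _ r' hr' (ι.hom.app _ (N.obj.map k.op s)) = E.ev _ r hr (ι.hom.app _ s)
    rw [map_res, E.nat k r' hr' r hr e])
  inj V r hr s h := by
    have h1 : E.ev V r hr (ι.hom.app (op V) s) = 0 := congrArg Subtype.val h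
    obtain ⟨V', k, r', hk, h0⟩ := E.inj V r hr _ h1
    refine ⟨V', k, r', hk, hinj _ _ ?_⟩
    rw [map_res, h0]
  surj V r hr u := by
    obtain ⟨V₁, k₁, r₁, hr₁, t, hk₁, ht⟩ := E.surj V r hr u.1
    have h1 : E'.ev V₁ r₁ hr₁ (φ.hom.app (op V₁) t) = 0 := by
      rw [hφ, ht]
      exact u.2
    obtain ⟨V₂, k₂, r₂, hk₂, h0⟩ := E'.inj V₁ r₁ hr₁ _ h1
    rw [← map_res] at h0
    obtain ⟨t', ht'⟩ := hex V₂ _ h0
    have hr₂ : r₂ ≫ V₂.hom = xi K Ω := hom_of_fac k₂ r₂ r₁ hr₁ hk₂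
    refine ⟨V₂, k₂ ≫ k₁, r₂, hr₂, t', ?_, Subtype.ext ?_⟩
    · rw [← hk₁, ← hk₂, Category.assoc]
      rfl
    · change E.ev V₂ r₂ hr₂ (ι.hom.app (op V₂) t') = u.1
      rw [ht', E.nat k₂ r₂ hr₂ r₁ hr₁ hk₂, ht]

end Ker

end Groth.Agent.Dix.K282.StkData
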