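import Groth.Agent.Dix.K282.StkData
import Groth.Agent.Dix.K282.PMap
import Groth.Agent.Topos.H571.GammaLim

/-!
# The values of `f_* G_m` at the geometric points of a field

`f : X ⟶ Spec K` quasi-compact quasi-separated: the stalk of `f_* G_m` is `Γ(X_Ω, O)ˣ` (`stkP`), with the
compatibility `evU_Pmap`.
-/

set_option autoImplicit false
universe u
open CategoryTheory CategoryTheory.Limits AlgebraicGeometry Opposite

namespace Groth.Agent.Dix.K282.StkGm

open Groth.Agent.Etcore Groth.Agent.Etcore.PullCoh Groth.Agent.Etcore.GmFun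
open Groth.Agent.Etcore.PullbackLim
open Groth.Agent.CurvesA.MuConst (unitOf ofUnit unitOf_add)
open Groth.Agent.Etcore.LimBC0 (mB mB_fst mB_hom mB_map)
open Groth.Agent.EtpbcB.Big (hom_ext_bc)
open Groth.Agent.Lefpen.H365.FieldPts Groth.Agent.Lefpen.H365.Ev
open Groth.Agent.Dix.K282.StkData Groth.Agent.Dix.K282.PMap

variable {K Ω : Type u} [Field K] [Field Ω] [Algebra K Ω]
  {X X' : Scheme.{u}} (f : X ⟶ Spec (CommRingCat.of K)) (f' : X' ⟶ Spec (CommRingCat.of K))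

/-- The units on `X_Ω`. -/
abbrev U (Ω : Type u) [Field Ω] [Algebra K Ω] (f : X ⟶ Spec (CommRingCat.of K)) : Type u :=
  Additive (Γ(pullback f (xi K Ω), ⊤))ˣ

/-- Evaluation of a section of `f_* G_m` at a geometric point. -/
noncomputable def evU (V : (Spec (CommRingCat.of K)).Etale) (r : Spec (CommRingCat.of Ω) ⟶ V.left)
    (hr : r ≫ V.hom = xi K Ω) : EtCoh.sect (P f) V →+ U Ω f :=
  AddMonoidHom.mk' (fun s => Additive.ofMul (Units.map ((mB f r hr).appTop.hom : _ →* _)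
    (unitOf (X := X) (U := (EtCoh.bc f).obj V) s))) (fun s t => by
      rw [← ofMul_mul, ← map_mul]
      rfl)

theorem evU_val (V : (Spec (CommRingCat.of K)).Etale) (r : Spec (CommRingCat.of Ω) ⟶ V.left)
    (hr : r ≫ V.hom = xi K Ω) (s : EtCoh.sect (P f) V) :
    (((evU f V r hr s).toMul : (Γ(pullback f (xi K Ω), ⊤))ˣ) : Γ(pullback f (xi K Ω), ⊤)) =
      (mB f r hr).appTop.hom (unitOf (X := X) (U := (EtCoh.bc f).obj V) s :
        Γ(((EtCoh.bc f).obj V).left, ⊤)) := rfl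

theorem U_ext {a b : U Ω f} (h : ((a.toMul : (Γ(pullback f (xi K Ω), ⊤))ˣ) : Γ(pullback f (xi K Ω), ⊤)) =
    b.toMul) : a = b := Additive.toMul.injective (Units.ext h)

theorem comp_appTop_apply {A B C : Scheme.{u}} (a : A ⟶ B) (b : B ⟶ C) (c : A ⟶ C) (h : a ≫ b = c)
    (x : Γ(C, ⊤)) : a.appTop.hom (b.appTop.hom x) = c.appTop.hom x := by
  subst h
  rw [Scheme.Hom.comp_appTop]
  rfl

theorem evU_nat {V V' : (Spec (CommRingCat.of K)).Etale} (k : V' ⟶ V)
    (r' : Spec (CommRingCat.of Ω) ⟶ V'.left) (hr' : r' ≫ V'.hom = xi K Ω)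
    (r : Spec (CommRingCat.of Ω) ⟶ V.left) (hr : r ≫ V.hom = xi K Ω) (e : r' ≫ k.left = r)
    (s : EtCoh.sect (P f) V) : evU f V' r' hr' ((P f).obj.map k.op s) = evU f V r hr s := by
  apply U_ext
  rw [evU_val, evU_val, ← comp_appTop_apply (mB f r' hr') ((EtCoh.bc f).map k).left (mB f r hr)
    (mB_map f k r' hr' r hr e)]
  rfl

/-- `X'_Ω ⟶ X_Ω`. -/
noncomputable def jO (j : X' ⟶ X) (w : j ≫ f = f') :
    pullback f' (xi K Ω) ⟶ pullback f (xi K Ω) :=
  pullback.lift (pullback.fst f' (xi K Ω) ≫ j) (pullback.snd f' (xi K Ω))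
    (by rw [Category.assoc, w, pullback.condition])

@[reassoc]
theorem jO_fst (j : X' ⟶ X) (w : j ≫ f = f') :
    jO (Ω := Ω) f f' j w ≫ pullback.fst f (xi K Ω) = pullback.fst f' (xi K Ω) ≫ j :=
  pullback.lift_fst _ _ _

@[reassoc]
theorem jO_snd (j : X' ⟶ X) (w : j ≫ f = f') :
    jO (Ω := Ω) f f' j w ≫ pullback.snd f (xi K Ω) = pullback.snd f' (xi K Ω) :=
  pullback.lift_snd _ _ _

theorem mB_bcj (j : X' ⟶ X) (w : j ≫ f = f') (V : (Spec (CommRingCat.of K)).Etale)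
    (r : Spec (CommRingCat.of Ω) ⟶ V.left) (hr : r ≫ V.hom = xi K Ω) :
    mB f' r hr ≫ bcj j f f' w V = jO f f' j w ≫ mB f r hr := by
  apply hom_ext_bc
  · have h1 := congrArg (fun k => mB f' r hr ≫ k) (bcj_fst j f f' w V)
    have h2 := congrArg (fun k => jO (Ω := Ω) f f' j w ≫ k) (mB_fst f r hr)
    refine (Category.assoc _ _ _).trans (h1.trans ?_)
    refine (mB_fst f' r hr).trans ?_
    refine Eq.trans ?_ ((Category.assoc _ _ _).trans h2).symm
    refine Eq.trans ?_ (Category.assoc _ _ _)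
    rw [jO_snd]
  · have h1 := congrArg (fun k => mB f' r hr ≫ k) (bcj_snd j f f' w V)
    have h2 := congrArg (fun k => jO (Ω := Ω) f f' j w ≫ k) (mB_hom f r hr)
    refine (Category.assoc _ _ _).trans (h1.trans ?_)
    refine Eq.trans ?_ ((Category.assoc _ _ _).trans h2).symm
    refine Eq.trans (Category.assoc _ _ _).symm ?_
    refine Eq.trans (congrArg (fun k => k ≫ j) (mB_hom f' r hr)) ?_
    exact (jO_fst f f' j w).symm

/-- The map on values. -/
noncomputable def mapU (j : X' ⟶ X) (w : j ≫ f = f') : U Ω f →+ U Ω f' :=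
  (Units.map (RingHom.toMonoidHom (jO (Ω := Ω) f f' j w).appTop.hom)).toAdditive

theorem mapU_val (j : X' ⟶ X) (w : j ≫ f = f') (a : U Ω f) :
    (((mapU f f' j w a).toMul : (Γ(pullback f' (xi K Ω), ⊤))ˣ) : Γ(pullback f' (xi K Ω), ⊤)) =
      (jO f f' j w).appTop.hom (a.toMul : (Γ(pullback f (xi K Ω), ⊤))ˣ) := rfl

theorem evU_Pmap (j : X' ⟶ X) (w : j ≫ f = f') (V : (Spec (CommRingCat.of K)).Etale)
    (r : Spec (CommRingCat.of Ω) ⟶ V.left) (hr : r ≫ V.hom = xi K Ω) (s : EtCoh.sect (P f) V) :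
    evU f' V r hr ((Pmap j f f' w).hom.app (op V) s) = mapU f f' j w (evU f V r hr s) := by
  apply U_ext
  rw [evU_val, unitOf_Pmap, mapU_val, evU_val, comp_appTop_apply _ _ _ (mB_bcj f f' j w V r hr),
    comp_appTop_apply _ _ _ rfl]

variable [Algebra.IsSeparable K Ω]

theorem mBL_injective (M : FinSub K Ω) {a b : Γ(((EtCoh.bc f).obj (VL K Ω M)).left, ⊤)}
    (h : (mBL f M).appTop.hom a = (mBL f M).appTop.hom b) : a = b :=
  appTop_injective (mBL f M) (inv (mBL f M)) (IsIso.inv_hom_id _) h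

theorem mBL_surjective (M : FinSub K Ω) (a : Γ(pullback f (str K Ω (op M)), ⊤)) :
    ∃ b : Γ(((EtCoh.bc f).obj (VL K Ω M)).left, ⊤), (mBL f M).appTop.hom b = a := by
  refine ⟨(inv (mBL f M)).appTop.hom a, ?_⟩
  rw [comp_appTop_apply _ _ _ (IsIso.hom_inv_id (mBL f M)), Scheme.Hom.id_appTop]
  rfl

variable [QuasiCompact f] [QuasiSeparated f]

theorem evU_inj_aux (L : FinSub K Ω) (a b : Γ(((EtCoh.bc f).obj (VL K Ω L)).left, ⊤))
    (h : (mB f (rL L) (rL_hom L)).appTop.hom a = (mB f (rL L) (rL_hom L)).appTop.hom b) :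
    ∃ (M : FinSub K Ω) (hLM : L ≤ M), ((EtCoh.bc f).map (tr hLM)).left.appTop.hom a =
      ((EtCoh.bc f).map (tr hLM)).left.appTop.hom b := by
  have i1 : ∀ {a b : (FinSub K Ω)ᵒᵖ} (h : a ⟶ b),
      IsAffineHom ((sys (specSys (sysF K Ω)) (str K Ω) (str_map K Ω) f).map h) := fun h =>
    isAffineHom_mapp _ (str K Ω) (str_map K Ω) f (fun _ _ h => isAffineHom_specSys _ h) h
  have i2 : CompactSpace ((sys (specSys (sysF K Ω)) (str K Ω) (str_map K Ω) f).obj (op L)) :=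
    compactSpace_obj _ _ _ f _
  have h' := (comp_appTop_apply _ _ _ (proj_mBL f L) a).trans
    (h.trans (comp_appTop_apply _ _ _ (proj_mBL f L) b).symm)
  obtain ⟨M, g, hg⟩ := Topos.H571.GammaLim.inj₀ (cone (specSys (sysF K Ω)) (str K Ω) (str_map K Ω) f
    (specCone (sysF K Ω) (coconeF K Ω)) (xi K Ω) (str_cone K Ω))
    (isLimitCone (specSys (sysF K Ω)) (str K Ω) (str_map K Ω) f
      (specCone (sysF K Ω) (coconeF K Ω)) (xi K Ω) (str_cone K Ω) (limF K Ω)) (i := op L)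
    ((mBL f L).appTop.hom a) ((mBL f L).appTop.hom b) h'
  have hLM : L ≤ M.unop := leOfHom g.unop
  refine ⟨M.unop, hLM, mBL_injective f M.unop ?_⟩
  have e := mapp_mBL f hLM
  have e1 : ∀ c : Γ(((EtCoh.bc f).obj (VL K Ω L)).left, ⊤),
      (mBL f M.unop).appTop.hom (((EtCoh.bc f).map (tr hLM)).left.appTop.hom c) =
      (mapp (specSys (sysF K Ω)) (str K Ω) (str_map K Ω) f (homOfLE hLM).op).appTop.hom
        ((mBL f L).appTop.hom c) := fun c =>
    (comp_appTop_apply _ _ _ e.symm c).trans (comp_appTop_apply _ _ _ rfl c).symm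
  exact (e1 a).trans (Eq.trans hg (e1 b).symm)

theorem evU_inj (V : (Spec (CommRingCat.of K)).Etale) (r : Spec (CommRingCat.of Ω) ⟶ V.left)
    (hr : r ≫ V.hom = xi K Ω) (s : EtCoh.sect (P f) V) (h : evU f V r hr s = 0) :
    ∃ (V' : (Spec (CommRingCat.of K)).Etale) (k : V' ⟶ V) (r' : Spec (CommRingCat.of Ω) ⟶ V'.left),
      r' ≫ k.left = r ∧ (P f).obj.map k.op s = 0 := by
  obtain ⟨L, a, ha⟩ := exists_fac V r hr
  rw [← evU_nat f a (rL L) (rL_hom L) r hr ha s] at h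
  have h1 := evU_val f (VL K Ω L) (rL L) (rL_hom L) ((P f).obj.map a.op s)
  rw [h] at h1
  obtain ⟨M, hLM, hM⟩ := evU_inj_aux f L (unitOf (X := X) (U := (EtCoh.bc f).obj (VL K Ω L))
    ((P f).obj.map a.op s) : Γ(((EtCoh.bc f).obj (VL K Ω L)).left, ⊤)) 1 (by
      rw [← h1, map_one]
      rfl)
  refine ⟨VL K Ω M, tr hLM ≫ a, rL M, ?_, ?_⟩
  · change rL M ≫ (tr hLM).left ≫ a.left = r
    rw [← Category.assoc, rL_tr, ha]
  · rw [res_comp]
    apply Groth.Agent.CurvesA.MuConst.unitOf_injective (X := X) (U := (EtCoh.bc f).obj (VL K Ω M))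
    apply Units.ext
    refine Eq.trans hM ?_
    rw [map_one]
    rfl

theorem evU_surj_aux (u : U Ω f) : ∃ (L : FinSub K Ω) (s : EtCoh.sect (P f) (VL K Ω L)),
    evU f (VL K Ω L) (rL L) (rL_hom L) s = u := by
  have i1 : ∀ {a b : (FinSub K Ω)ᵒᵖ} (h : a ⟶ b),
      IsAffineHom ((sys (specSys (sysF K Ω)) (str K Ω) (str_map K Ω) f).map h) := fun h =>
    isAffineHom_mapp _ (str K Ω) (str_map K Ω) f (fun _ _ h => isAffineHom_specSys _ h) h
  have i2 : ∀ L, CompactSpace ((sys (specSys (sysF K Ω)) (str K Ω) (str_map K Ω) f).obj L) := fun L =>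
    compactSpace_obj _ _ _ f _
  have i3 : ∀ L, QuasiSeparatedSpace
      ((sys (specSys (sysF K Ω)) (str K Ω) (str_map K Ω) f).obj L) := fun L =>
    quasiSeparatedSpace_obj _ _ _ f _
  obtain ⟨L, t, ht⟩ := Topos.H571.GammaLim.units_surj₀ (cone (specSys (sysF K Ω)) (str K Ω) (str_map K Ω) f
    (specCone (sysF K Ω) (coconeF K Ω)) (xi K Ω) (str_cone K Ω))
    (isLimitCone (specSys (sysF K Ω)) (str K Ω) (str_map K Ω) f
      (specCone (sysF K Ω) (coconeF K Ω)) (xi K Ω) (str_cone K Ω) (limF K Ω)) u.toMul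
  let t₀ : (Γ(pullback f (str K Ω L), ⊤))ˣ := t
  let t' : (Γ(((EtCoh.bc f).obj (VL K Ω L.unop)).left, ⊤))ˣ :=
    Units.map (RingHom.toMonoidHom (inv (mBL f L.unop)).appTop.hom) t₀
  refine ⟨L.unop, ofUnit (X := X) (U := (EtCoh.bc f).obj (VL K Ω L.unop)) t', U_ext f ?_⟩
  rw [evU_val, ← proj_mBL f L.unop]
  have h1 : (mBL f L.unop).appTop.hom (t' : Γ(((EtCoh.bc f).obj (VL K Ω L.unop)).left, ⊤)) =
      (t₀ : Γ(pullback f (str K Ω L), ⊤)) := by
    refine (comp_appTop_apply _ _ _ (IsIso.hom_inv_id (mBL f L.unop)) _).trans ?_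
    rw [Scheme.Hom.id_appTop]
    rfl
  refine Eq.trans ?_ ht
  refine (comp_appTop_apply _ _ _ rfl _).symm.trans ?_
  exact congrArg _ h1

/-- **The stalk of `f_* G_m`.** -/
noncomputable def stkP [IsSepClosed Ω] : Stk Ω (P f) (U Ω f) where
  ev := evU f
  nat := evU_nat f
  inj := evU_inj f
  surj V r hr u := by
    obtain ⟨L, s, hs⟩ := evU_surj_aux f u
    obtain ⟨L', a, ha⟩ := exists_fac V r hr
    obtain ⟨M, h1, h2⟩ := exists_ge_ge L L'
    refine ⟨VL K Ω M, tr h2 ≫ a, rL M, rL_hom M, (P f).obj.map (tr h1).op s, ?_, ?_⟩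
    · change rL M ≫ (tr h2).left ≫ a.left = r
      rw [← Category.assoc, rL_tr, ha]
    · rw [evU_nat f (tr h1) (rL M) (rL_hom M) (rL L) (rL_hom L) (rL_tr h1), hs]

end Groth.Agent.Dix.K282.StkGm
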